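/-
Binary affine primitive groups, part 1: movers and maximal fixed subspaces.

A linear group `H` on a finite elementary abelian `p`-group `V` is the point stabilizer of a binary
affine group exactly when every map on a set of vectors preserving the `H`-orbit of each vector and
of each difference agrees with an element of `H`.  Then for every `v` one element moves by `v` all
vectors that can be so moved, and the elements with maximal fixed space are involutions negating
their commutator space.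
-/
import Mathlib
import Cfsg.Agent.EqLemmas

namespace Cfsg.Agent.BinaryAffine

open AddSubgroup

universe u v

variable {H : Type u} [Group H] {V : Type v} [AddCommGroup V] [DistribMulAction H V]

/-- The endomorphism `a ↦ h • a - a`. -/
def dl (h : H) : V →+ V := DistribSMul.toAddMonoidHom V h - AddMonoidHom.id V

/-- Fixed space. -/
def fx (h : H) : AddSubgroup V := (dl h).ker

/-- Commutator space. -/
def im (h : H) : AddSubgroup V := (dl h).range

@[simp] theorem dl_apply (h : H) (a : V) : dl h a = h • a - a := rfl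

theorem mem_fx {h : H} {a : V} : a ∈ fx h ↔ h • a = a := by
  simp [fx, AddMonoidHom.mem_ker, sub_eq_zero]

theorem mem_im {h : H} {a : V} : a ∈ im h ↔ ∃ b, h • b - b = a := by
  simp [im, AddMonoidHom.mem_range]

theorem dl_mem_im (h : H) (a : V) : h • a - a ∈ im h := mem_im.2 ⟨a, rfl⟩

theorem card_fx_mul_im [Finite V] (h : H) :
    Nat.card (fx (V := V) h) * Nat.card (im (V := V) h) = Nat.card V := by
  have h1 := AddSubgroup.card_eq_card_quotient_mul_card_addSubgroup (dl (V := V) h).ker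
  have h2 := Nat.card_congr (QuotientAddGroup.quotientKerEquivRange (dl (V := V) h)).toEquiv
  rw [h1, h2, fx, im, mul_comm]

/-- The hypotheses on a point stabilizer of a binary affine primitive group. -/
structure Setting (p : ℕ) (H : Type u) [Group H] (V : Type v) [AddCommGroup V]
    [DistribMulAction H V] : Prop where
  prime : p.Prime
  char : ∀ a : V, p • a = 0
  faith : ∀ h : H, (∀ a : V, h • a = a) → h = 1
  irr : ∀ M : AddSubgroup V, (∀ h : H, ∀ a ∈ M, h • a ∈ M) → M = ⊥ ∨ M = ⊤
  bin : ∀ (S : Set V) (f : V → V), (∀ a ∈ S, ∃ h : H, h • a = f a) →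
    (∀ a ∈ S, ∀ b ∈ S, ∃ h : H, h • (a - b) = f a - f b) → ∃ h : H, ∀ a ∈ S, h • a = f a

/-- `m` moves by `v` every vector that some element moves by `v`. -/
def Mover (v : V) (m : H) : Prop := ∀ a : V, (∃ h : H, h • a = a + v) → m • a = a + v

/-- A non-trivial element with maximal fixed space. -/
def Rfl' (V : Type v) [AddCommGroup V] [DistribMulAction H V] (t : H) : Prop :=
  t ≠ 1 ∧ ∀ h : H, h ≠ 1 → fx (V := V) t ≤ fx h → fx (V := V) h ≤ fx t

theorem Mover.neg {v : V} {m : H} (hm : Mover v m) {a : V} {h : H} (ha : h • a = a + v) :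
    m • v = -v := by
  have hb : h⁻¹ • (a + v) = a := by rw [← ha, inv_smul_smul]
  have h1 : m • (-(a + v)) = -(a + v) + v := hm _ ⟨h⁻¹, by rw [smul_neg, hb]; abel⟩
  have h2 : m • a = a + v := hm _ ⟨h, ha⟩
  rw [smul_neg, smul_add, h2] at h1
  calc m • v = -(-(a + v + m • v)) - (a + v) := by abel
    _ = -(-(a + v) + v) - (a + v) := by rw [h1]
    _ = -v := by abel

/-- A mover of `h • b - b` fixes the fixed space of `h`. -/
theorem Mover.fix {h : H} {b u : V} {m : H} (hm : Mover (h • b - b) m) (hu : h • u = u) :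
    m • u = u := by
  have h1 : m • b = b + (h • b - b) := hm _ ⟨h, by abel⟩
  have h2 : m • (b + u) = b + u + (h • b - b) := hm _ ⟨h, by rw [smul_add, hu]; abel⟩
  rw [smul_add, h1] at h2
  calc m • u = (b + (h • b - b) + m • u) - (b + (h • b - b)) := by abel
    _ = (b + u + (h • b - b)) - (b + (h • b - b)) := by rw [h2]
    _ = u := by abel

theorem Mover.fix_le {h : H} {b : V} {m : H} (hm : Mover (h • b - b) m) :
    fx (V := V) h ≤ fx m := fun _ hu => mem_fx.2 (hm.fix (mem_fx.1 hu))

theorem fx_inv (h : H) : fx (V := V) h⁻¹ = fx h := by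
  ext a
  rw [mem_fx, mem_fx, inv_smul_eq_iff, eq_comm]

theorem im_inv (h : H) : im (V := V) h⁻¹ = im h := by
  ext a
  simp only [mem_im]
  constructor
  · rintro ⟨b, rfl⟩
    exact ⟨-(h⁻¹ • b), by rw [smul_neg, smul_inv_smul]; abel⟩
  · rintro ⟨b, rfl⟩
    exact ⟨-(h • b), by rw [smul_neg, inv_smul_smul]; abel⟩

theorem smul_mem_fx_conj {g h : H} {a : V} (ha : a ∈ fx (V := V) h) :
    g • a ∈ fx (V := V) (g * h * g⁻¹) := by
  rw [mem_fx, mul_smul, mul_smul, inv_smul_smul, mem_fx.1 ha]

theorem mem_fx_conj {g h : H} {a : V} :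
    a ∈ fx (V := V) (g * h * g⁻¹) ↔ g⁻¹ • a ∈ fx (V := V) h := by
  rw [mem_fx, mem_fx, mul_smul, mul_smul, ← eq_inv_smul_iff]

theorem smul_mem_im_conj {g h : H} {a : V} (ha : a ∈ im (V := V) h) :
    g • a ∈ im (V := V) (g * h * g⁻¹) := by
  obtain ⟨b, rfl⟩ := mem_im.1 ha
  exact mem_im.2 ⟨g • b, by rw [mul_smul, mul_smul, inv_smul_smul, smul_sub]⟩

theorem Rfl'.conj {t : H} (ht : Rfl' V t) (g : H) : Rfl' V (g * t * g⁻¹) := by
  refine ⟨fun h1 => ht.1 (conj_eq_one_iff.1 h1), fun h hh hle a ha => ?_⟩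
  have key := ht.2 (g⁻¹ * h * g⁻¹⁻¹) (fun h1 => hh (conj_eq_one_iff.1 h1)) fun b hb => by
    have := smul_mem_fx_conj (g := g⁻¹) (hle (smul_mem_fx_conj (g := g) hb))
    rwa [inv_smul_smul] at this
  exact mem_fx_conj.2 (key (smul_mem_fx_conj ha))

section

variable {p : ℕ} (S : Setting p H V)
include S

theorem Setting.exists_mover (v : V) : ∃ m : H, Mover v m := by
  refine (S.bin {a | ∃ h : H, h • a = a + v} (· + v) (fun a ha => ha) ?_)
  intro a _ b _
  exact ⟨1, by rw [one_smul]; abel⟩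

theorem Setting.eq_one_of_fx {h : H} (hh : ∀ a : V, a ∈ fx (V := V) h) : h = 1 :=
  S.faith h fun a => mem_fx.1 (hh a)

theorem Setting.exists_moved {h : H} (hh : h ≠ 1) : ∃ b : V, h • b ≠ b := by
  by_contra hc
  push Not at hc
  exact hh (S.faith h hc)

theorem Setting.exists_rfl [Finite H] [Finite V] {h : H} (hh : h ≠ 1) :
    ∃ t : H, Rfl' V t ∧ fx (V := V) h ≤ fx t := by
  obtain ⟨t, ⟨ht1, hle⟩, hmax⟩ := Set.exists_max_image {t : H | t ≠ 1 ∧ fx (V := V) h ≤ fx t}
    (fun t => Nat.card (fx (V := V) t)) (Set.toFinite _) ⟨h, hh, le_rfl⟩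
  refine ⟨t, ⟨ht1, fun k hk hk' => ?_⟩, hle⟩
  exact (AddSubgroup.eq_of_le_of_card_ge hk' (hmax k ⟨hk, hle.trans hk'⟩)).ge

variable {t : H} (ht : Rfl' V t)
include ht

theorem Setting.mover_fx_eq {b : V} (hb : t • b ≠ b) {m : H} (hm : Mover (t • b - b) m) :
    fx (V := V) m = fx t := by
  have h1 : m • b = t • b := (hm b ⟨t, by abel⟩).trans (by abel)
  refine le_antisymm (ht.2 m (fun hm1 => ?_) hm.fix_le) hm.fix_le
  rw [hm1, one_smul] at h1
  exact hb h1.symm

theorem Setting.smul_im {w : V} (hw : w ∈ im (V := V) t) : t • w = -w := by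
  obtain ⟨b, rfl⟩ := mem_im.1 hw
  rcases eq_or_ne (t • b) b with hb | hb
  · simp [hb]
  obtain ⟨m, hm⟩ := S.exists_mover (t • b - b)
  set v := t • b - b with hv
  have htb : t • b = b + v := by rw [hv]; abel
  have h1 : m • b = b + v := hm b ⟨t, htb⟩
  have h2 : m • v = -v := hm.neg htb
  have h3 : b + b + v ∈ fx (V := V) m := by
    rw [mem_fx, smul_add, smul_add, h1, h2]; abel
  rw [S.mover_fx_eq ht hb (hv ▸ hm), mem_fx, smul_add, smul_add, htb] at h3
  calc t • v = (b + v + (b + v) + t • v) - (b + v + (b + v)) := by abel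
    _ = (b + b + v) - (b + v + (b + v)) := by rw [h3]
    _ = -v := by abel

theorem Setting.mul_self : t * t = 1 := by
  refine S.faith _ fun b => ?_
  rw [mul_smul]
  have h1 := S.smul_im ht (dl_mem_im t b)
  rw [smul_sub] at h1
  calc t • t • b = (t • t • b - t • b) + t • b := by abel
    _ = -(t • b - b) + t • b := by rw [h1]
    _ = b := by abel

theorem Setting.inv_eq : t⁻¹ = t := inv_eq_of_mul_eq_one_right (S.mul_self ht)

theorem Setting.smul_smul_self (a : V) : t • t • a = a := by
  rw [← mul_smul, S.mul_self ht, one_smul]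

/-- A mover of a non-zero commutator of `t` is `t`. -/
theorem Setting.mover_eq {w : V} (hw : w ∈ im (V := V) t) (hw0 : w ≠ 0) {m : H}
    (hm : Mover w m) : m = t := by
  obtain ⟨b, rfl⟩ := mem_im.1 hw
  have hb : t • b ≠ b := fun h => hw0 (sub_eq_zero.2 h)
  have h1 : m • b = t • b := (hm b ⟨t, by abel⟩).trans (by abel)
  have hfx := S.mover_fx_eq ht hb hm
  by_contra hne
  have htm : t * m ≠ 1 := fun h => hne ((mul_eq_one_iff_inv_eq.1 h).symm.trans (S.inv_eq ht))
  have hle : fx (V := V) t ≤ fx (t * m) := fun u hu => by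
    have h2 : m • u = u := mem_fx.1 (hfx.symm ▸ hu)
    rw [mem_fx, mul_smul, h2, mem_fx.1 hu]
  have hbm : b ∈ fx (V := V) (t * m) := by rw [mem_fx, mul_smul, h1, S.smul_smul_self ht]
  exact hb (mem_fx.1 (ht.2 _ htm hle hbm))

/-- An orbit meets a coset of the commutator space of `t` only in pairs `{a, t • a}`. -/
theorem Setting.coset {w : V} (hw : w ∈ im (V := V) t) (hw0 : w ≠ 0) {a : V} {h : H}
    (ha : h • a = a + w) : t • a = a + w := by
  obtain ⟨m, hm⟩ := S.exists_mover w
  rw [← S.mover_eq ht hw hw0 hm]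
  exact hm a ⟨h, ha⟩

theorem Setting.rfl_eq_of_mem {s : H} (hs : Rfl' V s) {w : V} (hws : w ∈ im (V := V) s)
    (hwt : w ∈ im (V := V) t) (hw0 : w ≠ 0) : s = t := by
  obtain ⟨m, hm⟩ := S.exists_mover w
  rw [← S.mover_eq ht hwt hw0 hm, ← S.mover_eq hs hws hw0 hm]

theorem Setting.commute_of_pm {g : H} {w : V} (hw : w ∈ im (V := V) t) (hw0 : w ≠ 0)
    (hg : g • w = w ∨ g • w = -w) : Commute g t := by
  have h1 := smul_mem_im_conj (g := g) hw
  have h2 : g * t * g⁻¹ = t := by
    rcases hg with hg | hg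
    · exact S.rfl_eq_of_mem ht (ht.conj g) (hg ▸ h1) hw hw0
    · rw [hg] at h1
      exact S.rfl_eq_of_mem ht (ht.conj g) (neg_mem_iff.1 h1) hw hw0
  exact eq_mul_inv_iff_mul_eq.1 (by rw [eq_comm]; exact h2) |>.symm

theorem Setting.im_pm {g : H} (hg : Commute g t) {w : V} (hw : w ∈ im (V := V) t) :
    g • w = w ∨ g • w = -w := by
  have h1 := smul_mem_im_conj (g := g) hw
  rw [hg.eq, mul_inv_cancel_right] at h1
  by_cases h0 : g • w = w
  · exact .inl h0
  refine .inr ?_
  have h2 := S.coset ht (sub_mem h1 hw) (sub_ne_zero.2 h0) (a := w) (h := g) (by abel)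
  rw [S.smul_im ht hw] at h2
  calc g • w = w + (g • w - w) := by abel
    _ = -w := h2.symm

omit ht in
theorem Setting.double_ne (hp : p ≠ 2) {a : V} (ha : a + a = 0) : a = 0 := by
  have h2 : Nat.Coprime 2 p := (Nat.coprime_primes Nat.prime_two S.prime).2 (Ne.symm hp)
  have hdvd2 : addOrderOf a ∣ 2 := addOrderOf_dvd_of_nsmul_eq_zero (by rw [two_nsmul]; exact ha)
  have hdvdp : addOrderOf a ∣ p := addOrderOf_dvd_of_nsmul_eq_zero (S.char a)
  have h1 := Nat.dvd_gcd hdvd2 hdvdp
  rw [h2.gcd_eq_one, Nat.dvd_one, AddMonoid.addOrderOf_eq_one_iff] at h1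
  exact h1

omit ht in
theorem Setting.exists_half (hp : p ≠ 2) (a : V) : ∃ c : V, c + c = a := by
  obtain ⟨k, hk⟩ := S.prime.odd_of_ne_two hp
  refine ⟨(k + 1) • a, ?_⟩
  rw [← add_nsmul, show k + 1 + (k + 1) = p + 1 by omega, add_nsmul, S.char, zero_add, one_nsmul]

/-- On the commutator space an element commuting with `t` is `1` or `-1`. -/
theorem Setting.im_uniform {g : H} (hg : Commute g t) {x : V} (hx : x ∈ im (V := V) t)
    (hx0 : x ≠ 0) (hgx : g • x = x) {w : V} (hw : w ∈ im (V := V) t) : g • w = w := by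
  rcases S.im_pm ht hg hw with h | h
  · exact h
  rcases S.im_pm ht hg (add_mem hx hw) with h' | h'
  · rw [smul_add, hgx] at h'
    exact add_left_cancel h'
  · rw [smul_add, hgx, h, neg_add] at h'
    have h2 : x + x = 0 := by
      have := add_right_cancel h'
      rw [← sub_eq_zero, sub_neg_eq_add] at this
      exact this
    by_cases hp : p = 2
    · have h3 : w + w = 0 := by rw [← two_nsmul, ← hp, S.char]
      rw [h, neg_eq_iff_add_eq_zero, h3]
    · exact absurd (S.double_ne hp h2) hx0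

theorem Setting.im_le_fx {s : H} (hs : Rfl' V s) (hst : Commute s t) (hne : s ≠ t) {w : V}
    (hw : w ∈ im (V := V) t) : s • w = w := by
  rcases S.im_pm ht hst hw with h | h
  · exact h
  by_contra h1
  have h2 : s • w - w ∈ im (V := V) t := by
    rw [h]; exact sub_mem (neg_mem hw) hw
  exact hne (S.rfl_eq_of_mem ht hs (dl_mem_im s w) h2 (sub_ne_zero.2 h1))

theorem Setting.inter_eq_bot {s : H} (hst : ¬Commute s t) {w : V} (hw : w ∈ im (V := V) t)
    (hws : s • w = w) : w = 0 := by
  by_contra h0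
  exact hst (S.commute_of_pm ht hw h0 (.inl hws))

theorem Setting.card_im_le [Finite V] {s : H} (hst : ¬Commute s t) :
    Nat.card (im (V := V) t) ≤ Nat.card (im (V := V) s) := by
  have hinj : Function.Injective fun x : im (V := V) t × fx (V := V) s => (x.1 : V) + x.2 := by
    rintro ⟨⟨w, hw⟩, ⟨u, hu⟩⟩ ⟨⟨w', hw'⟩, ⟨u', hu'⟩⟩ he
    simp only at he
    have h1 : w - w' = u' - u := by rw [sub_eq_sub_iff_add_eq_add, he, add_comm]
    have h2 : w - w' = 0 := S.inter_eq_bot ht hst (sub_mem hw hw')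
      (mem_fx.1 (h1 ▸ sub_mem hu' hu))
    rw [h2, eq_comm, sub_eq_zero] at h1
    rw [sub_eq_zero] at h2
    subst h1 h2
    rfl
  have h1 := Nat.card_le_card_of_injective _ hinj
  rw [Nat.card_prod, ← card_fx_mul_im s (V := V), mul_comm] at h1
  exact Nat.le_of_mul_le_mul_left h1 Nat.card_pos

theorem Setting.card_im_eq [Finite V] {s : H} (hs : Rfl' V s) (hst : ¬Commute s t) :
    Nat.card (im (V := V) t) = Nat.card (im (V := V) s) :=
  le_antisymm (S.card_im_le ht hst) (S.card_im_le hs fun h => hst h.symm)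

theorem Setting.one_lt_card_im [Finite V] : 1 < Nat.card (im (V := V) t) := by
  obtain ⟨b, hb⟩ := S.exists_moved ht.1
  rw [Finite.one_lt_card_iff_nontrivial]
  exact ⟨⟨⟨_, dl_mem_im t b⟩, 0, fun h => hb (sub_eq_zero.1 (congrArg Subtype.val h))⟩⟩

end

section Odd

variable {p : ℕ} (S : Setting p H V)
include S

/-- In odd characteristic fixed space and commutator space meet trivially. -/
theorem Setting.disjoint (hp : p ≠ 2) {h : H} {v : V} (hv : v ∈ im (V := V) h) (hfix : h • v = v) :
    v = 0 := by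
  obtain ⟨b, rfl⟩ := mem_im.1 hv
  obtain ⟨c, hc⟩ := S.exists_half hp b
  obtain ⟨m, hm⟩ := S.exists_mover (h • b - b)
  set v := h • b - b with hvdef
  have hb : h • b = b + v := by rw [hvdef]; abel
  have hc2 : (h * h) • c = c + v := by
    have e : (h * h) • b = b + v + v := by rw [mul_smul, hb, smul_add, hb, hfix]
    rw [← hc, smul_add] at e
    have h2 : ((h * h) • c - (c + v)) + ((h * h) • c - (c + v)) = 0 := by
      calc _ = ((h * h) • c + (h * h) • c) - (c + c + v + v) := by abel
        _ = 0 := by rw [e]; abel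
    exact sub_eq_zero.1 (S.double_ne hp h2)
  have h1 : m • c = c + v := hm c ⟨h * h, hc2⟩
  have h2 : m • b = b + v := hm b ⟨h, hb⟩
  rw [← hc, smul_add, h1] at h2
  calc v = (c + v + (c + v)) - (c + c + v) := by abel
    _ = 0 := by rw [h2, sub_self]

theorem Setting.not_dvd_card [Finite H] [Finite V] (hp : p ≠ 2) : ¬p ∣ Nat.card H := by
  have := Fact.mk S.prime
  intro hdvd
  obtain ⟨h, hh⟩ := exists_prime_orderOf_dvd_card' p hdvd
  have hP : IsPGroup p (Subgroup.zpowers h) :=
    IsPGroup.of_card (n := 1) (by rw [Nat.card_zpowers, hh, pow_one])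
  have hh1 : h ≠ 1 := fun h1 => S.prime.one_lt.ne' (by rw [← hh, h1, orderOf_one])
  -- the commutator space as a set permuted by `⟨h⟩`
  let I : SubMulAction (Subgroup.zpowers h) V :=
    { carrier := im (V := V) h
      smul_mem' := fun g a ha => by
        obtain ⟨b, rfl⟩ := mem_im.1 ha
        obtain ⟨k, hk⟩ := Subgroup.mem_zpowers_iff.1 g.2
        refine mem_im.2 ⟨(g : H) • b, ?_⟩
        rw [Subgroup.smul_def, smul_sub, ← mul_smul, ← mul_smul, ← hk,
          (Commute.zpow_self h k).eq] }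
  have hI : Nat.card I = Nat.card (im (V := V) h) := rfl
  obtain ⟨b, hb⟩ := S.exists_moved hh1
  have hdvdI : p ∣ Nat.card I := by
    rw [hI]
    have h1 : addOrderOf (⟨_, dl_mem_im h b⟩ : im (V := V) h) = p :=
      addOrderOf_eq_prime (Subtype.ext (S.char _))
        fun h0 => hb (sub_eq_zero.1 (congrArg Subtype.val h0))
    exact h1 ▸ addOrderOf_dvd_natCard _
  have h0 : (⟨0, zero_mem (im (V := V) h)⟩ : I) ∈ MulAction.fixedPoints (Subgroup.zpowers h) I :=
    fun g => Subtype.ext (smul_zero _)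
  obtain ⟨⟨v, hv⟩, hfix, hne⟩ :=
    hP.exists_fixed_point_of_prime_dvd_card_of_fixed_point I hdvdI h0
  exact hne (Subtype.ext (S.disjoint hp hv
    (congrArg Subtype.val (hfix ⟨h, Subgroup.mem_zpowers h⟩))).symm)

/-- In odd characteristic a reflection is determined by its fixed space. -/
theorem Setting.eq_of_fx_eq_odd (hp : p ≠ 2) {s t : H} (hs : Rfl' V s) (ht : Rfl' V t)
    (he : fx (V := V) s = fx t) : s = t := by
  have key : ∀ b : V, (t * s) • b - b ∈ fx (V := V) (t * s) := by
    intro b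
    have hu : ∀ a ∈ fx (V := V) t, (t * s) • a = a := fun a ha => by
      have h2 : s • a = a := mem_fx.1 (he ▸ ha)
      rw [mul_smul, h2, mem_fx.1 ha]
    have hsb : b + s • b ∈ fx (V := V) t := by
      rw [← he, mem_fx, smul_add, S.smul_smul_self hs, add_comm]
    have htb : b + t • b ∈ fx (V := V) t := by
      rw [mem_fx, smul_add, S.smul_smul_self ht, add_comm]
    have e : (t * s) • b - b = (b + s • b) - (b + t • b) := by
      have h2 := mem_fx.1 hsb
      rw [smul_add] at h2
      calc (t * s) • b - b = (t • b + t • s • b) - (t • b + b) := by rw [mul_smul]; abel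
        _ = (b + s • b) - (b + t • b) := by rw [h2]; abel
    rw [mem_fx]
    exact hu _ (e ▸ sub_mem hsb htb)
  have h1 : t * s = 1 := S.faith _ fun b =>
    sub_eq_zero.1 (S.disjoint hp (dl_mem_im _ b) (mem_fx.1 (key b)))
  rw [mul_eq_one_iff_inv_eq, S.inv_eq ht] at h1
  exact h1.symm

end Odd

end Cfsg.Agent.BinaryAffine
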