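/-
Binary affine primitive groups, part 9: there is only one block.

A block is a subgroup `B` with complement `C` such that every element either stabilises `B` or sends
it into `C`, the stabiliser acts on `B` like a group fixing `C` pointwise, and every reflection
fixes a translate of `C` pointwise.  An element with largest fixed space moving some translate could
be corrected on one translate to enlarge the fixed space, so every element stabilises `B`.
-/
import Cfsg.Agent.Lib.BinaryAffine.SamePlane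

namespace Cfsg.Agent.BinaryAffine

open AddSubgroup

set_option linter.unusedSectionVars false

universe u v

variable {H : Type u} [Group H] {V : Type v} [AddCommGroup V] [DistribMulAction H V]
variable [Finite H] [Finite V] {p : ℕ}

/-- A block with its complement and the group of its restrictions. -/
structure Blk (p : ℕ) (B C : AddSubgroup V) (D : Subgroup H) : Prop where
  set : Setting p H V
  sum : ∀ a : V, ∃ b ∈ B, a - b ∈ C
  inter : ∀ a ∈ B, a ∈ C → a = 0
  fixC : ∀ e ∈ D, ∀ c ∈ C, e • c = c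
  stabD : ∀ e ∈ D, ∀ b ∈ B, e • b ∈ B
  restr : ∀ g : H, (∀ b ∈ B, g • b ∈ B) → ∃ e ∈ D, ∀ b ∈ B, g • b = e • b
  stabC : ∀ g : H, (∀ b ∈ B, g • b ∈ B) → ∀ c ∈ C, g • c ∈ C
  out : ∀ g : H, (∃ b ∈ B, g • b ∉ B) → ∀ b ∈ B, g • b ∈ C
  cover : ∀ a : H, Rfl' V a → ∃ g : H, ∀ c ∈ C, a • g • c = g • c

theorem card_fx_conj (g h : H) :
    Nat.card (fx (V := V) (g * h * g⁻¹)) = Nat.card (fx (V := V) h) :=
  (Nat.card_congr (Equiv.ofBijective
    (fun w : fx (V := V) h => (⟨g • (w : V), smul_mem_fx_conj w.2⟩ : fx (V := V) (g * h * g⁻¹)))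
    ⟨fun _ _ e => Subtype.ext (smul_left_cancel g (congrArg Subtype.val e)),
      fun w => ⟨⟨g⁻¹ • (w : V), mem_fx_conj.1 w.2⟩, Subtype.ext (smul_inv_smul g _)⟩⟩)).symm

theorem smul_mem_of_forall {B : AddSubgroup V} {g : H} (hg : ∀ b ∈ B, g • b ∈ B) {b : V}
    (hb : g • b ∈ B) : b ∈ B := by
  have hinj : Function.Injective fun x : B => (⟨g • (x : V), hg _ x.2⟩ : B) := fun x y e =>
    Subtype.ext (smul_left_cancel g (congrArg Subtype.val e))
  obtain ⟨⟨x, hx⟩, he⟩ := (Finite.injective_iff_surjective.1 hinj) ⟨g • b, hb⟩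
  exact smul_left_cancel g (congrArg Subtype.val he : g • x = g • b) ▸ hx

variable {B C : AddSubgroup V} {D : Subgroup H} (K : Blk p B C D)
include K

theorem Blk.eq_of_smul_eq {g : H} (hg : ∀ b ∈ B, g • b ∈ B) {b c : V} (hb : b ∈ B) (hc : c ∈ C)
    (hz : g • (b + c) = b + c) : g • b = b := by
  rw [smul_add] at hz
  have h1 : g • b - b = c - g • c := by rw [sub_eq_sub_iff_add_eq_add, hz, add_comm]
  exact sub_eq_zero.1 (K.inter _ (sub_mem (hg b hb) hb) (h1 ▸ sub_mem hc (K.stabC g hg c hc)))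

/-- Correct `g` stabilising `B` on `B`. -/
theorem Blk.improve_stab {g a : H} (ha : a ≠ 1) (haC : ∀ c ∈ C, a • c = c)
    (hle : fx (V := V) g ≤ fx a) (hg : ∀ b ∈ B, g • b ∈ B) {x : H}
    (hx : ∃ b ∈ B, (x⁻¹ * g * x) • b ∉ B) :
    ∃ g' : H, (∃ x : H, ∃ b ∈ B, (x⁻¹ * g' * x) • b ∉ B) ∧
      fx (V := V) g < fx g' := by
  obtain ⟨e, he, hge⟩ := K.restr g hg
  have he' := inv_mem he
  refine ⟨e⁻¹ * g, ⟨x, ?_⟩, lt_of_le_of_ne (fun z hz => ?_) fun h => ?_⟩
  · obtain ⟨b, hb, hb'⟩ := hx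
    refine ⟨b, hb, fun h => hb' ?_⟩
    have hxB : ∃ b ∈ B, x • b ∉ B := by
      by_contra hc
      push Not at hc
      refine hb' ?_
      rw [mul_smul, mul_smul]
      refine smul_mem_of_forall hc ?_
      rw [smul_inv_smul]
      exact hg _ (hc b hb)
    have hgxB : ∃ b ∈ B, (g * x) • b ∉ B := by
      obtain ⟨b₀, hb₀, hb₀'⟩ := hxB
      refine ⟨b₀, hb₀, fun h' => hb₀' ?_⟩
      rw [mul_smul] at h'
      exact smul_mem_of_forall hg h'
    have h1 := K.out _ hgxB b hb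
    rw [mul_smul, mul_smul, mul_smul, ← mul_smul g x, K.fixC _ he' _ h1] at h
    rw [mul_smul, mul_smul, ← mul_smul g x]
    exact h
  · obtain ⟨b, hb, hc⟩ := K.sum z
    have hz' : g • (b + (z - b)) = b + (z - b) := by rw [add_sub_cancel]; exact mem_fx.1 hz
    have hgb := K.eq_of_smul_eq hg hb hc hz'
    have heb : e⁻¹ • b = b := by rw [inv_smul_eq_iff, ← hge b hb, hgb]
    rw [mem_fx, mul_smul, mem_fx.1 hz]
    calc e⁻¹ • z = e⁻¹ • b + e⁻¹ • (z - b) := by rw [← smul_add, add_sub_cancel]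
      _ = z := by rw [heb, K.fixC _ he' _ hc, add_sub_cancel]
  · refine ha (K.set.faith a fun z => ?_)
    obtain ⟨b, hb, hc⟩ := K.sum z
    have hb' : b ∈ fx (V := V) g := by
      rw [h, mem_fx, mul_smul, hge b hb, inv_smul_smul]
    calc a • z = a • b + a • (z - b) := by rw [← smul_add, add_sub_cancel]
      _ = z := by rw [mem_fx.1 (hle hb'), haC _ hc, add_sub_cancel]

/-- Correct `g` moving `B` on `B`. -/
theorem Blk.improve_move {g a : H} (ha : a ≠ 1) (haC : ∀ c ∈ C, a • c = c)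
    (hle : fx (V := V) g ≤ fx a) (hg : ∃ b ∈ B, g • b ∉ B) :
    ∃ g' : H, (∃ x : H, ∃ b ∈ B, (x⁻¹ * g' * x) • b ∉ B) ∧
      fx (V := V) g < fx g' := by
  classical
  have hex : ∃ n, 0 < n ∧ ∀ b ∈ B, g ^ n • b ∈ B :=
    ⟨orderOf g, orderOf_pos g, fun b hb => by rw [pow_orderOf_eq_one, one_smul]; exact hb⟩
  set n := Nat.find hex
  obtain ⟨hn0, hnB⟩ := Nat.find_spec hex
  have hmin : ∀ i, 0 < i → i < n → ∀ b ∈ B, g ^ i • b ∈ C := by
    intro i hi hin b hb
    refine K.out _ ?_ b hb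
    have := Nat.find_min hex hin
    push Not at this
    exact this hi
  obtain ⟨e, he, hne⟩ := K.restr _ hnB
  have he' := inv_mem he
  set g' := g * e⁻¹ with hg'
  have hpow : ∀ b ∈ B, ∀ i, 0 < i → i ≤ n → g' ^ i • b = g ^ i • e⁻¹ • b := by
    intro b hb i hi hin
    induction i with
    | zero => omega
    | succ i ih =>
      rcases Nat.eq_zero_or_pos i with rfl | hi'
      · simp only [zero_add, pow_one, hg', mul_smul]
      rw [pow_succ', mul_smul, ih hi' (by omega), hg', mul_smul,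
        K.fixC _ he' _ (hmin i hi' (by omega) _ (K.stabD _ he' _ hb)), pow_succ', mul_smul]
  have hlast : ∀ b ∈ B, g' ^ n • b = b := fun b hb => by
    rw [hpow b hb n hn0 le_rfl, hne _ (K.stabD _ he' _ hb), smul_inv_smul]
  refine ⟨g', ⟨1, ?_⟩, lt_of_le_of_ne (fun z hz => ?_) fun h => ?_⟩
  · obtain ⟨b, hb, hb'⟩ := hg
    refine ⟨e • b, K.stabD _ he _ hb, ?_⟩
    rwa [inv_one, one_mul, mul_one, hg', mul_smul, inv_smul_smul]
  · obtain ⟨b, hb, hc⟩ := K.sum z
    have hz' : g ^ n • (b + (z - b)) = b + (z - b) := by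
      rw [add_sub_cancel]
      exact MulAction.pow_smul_eq_iff_minimalPeriod_dvd.2
        (by rw [Function.minimalPeriod_eq_one_iff_isFixedPt.2 (mem_fx.1 hz)]; exact one_dvd _)
    have hgb := K.eq_of_smul_eq hnB hb hc hz'
    have heb : e⁻¹ • b = b := by rw [inv_smul_eq_iff, ← hne b hb, hgb]
    rw [mem_fx, hg', mul_smul]
    calc g • e⁻¹ • z = g • (e⁻¹ • b + e⁻¹ • (z - b)) := by rw [← smul_add, add_sub_cancel]
      _ = z := by rw [heb, K.fixC _ he' _ hc, add_sub_cancel, mem_fx.1 hz]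
  · obtain ⟨z, hz⟩ := K.set.exists_moved ha
    obtain ⟨b, hb, hc⟩ := K.sum z
    have hab : a • b ≠ b := fun h' => hz <| by
      calc a • z = a • b + a • (z - b) := by rw [← smul_add, add_sub_cancel]
        _ = z := by rw [h', haC _ hc, add_sub_cancel]
    set u := ∑ i ∈ Finset.range n, g' ^ i • b with hu
    have h1 : g' • u + b = u + b := by
      calc g' • u + b = (∑ i ∈ Finset.range n, g' ^ (i + 1) • b) + g' ^ 0 • b := by
            rw [hu, Finset.smul_sum, pow_zero, one_smul]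
            simp only [← mul_smul, ← pow_succ']
        _ = (∑ i ∈ Finset.range n, g' ^ i • b) + g' ^ n • b := by
            rw [← Finset.sum_range_succ' (fun i => g' ^ i • b), Finset.sum_range_succ]
        _ = u + b := by rw [hlast b hb]
    have huf : u ∈ fx (V := V) g := h ▸ mem_fx.2 (add_right_cancel h1)
    have h2 := mem_fx.1 (hle huf)
    obtain ⟨k, hk⟩ := Nat.exists_eq_succ_of_ne_zero hn0.ne'
    have hk' : n = k + 1 := hk
    have hrest : a • (∑ i ∈ Finset.range k, g' ^ (i + 1) • b) =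
        ∑ i ∈ Finset.range k, g' ^ (i + 1) • b := by
      rw [Finset.smul_sum]
      refine Finset.sum_congr rfl fun i hi => haC _ ?_
      rw [Finset.mem_range] at hi
      rw [hpow b hb (i + 1) (by omega) (by omega)]
      exact hmin (i + 1) (by omega) (by omega) _ (K.stabD _ he' _ hb)
    rw [hu, hk', Finset.sum_range_succ', smul_add, hrest, pow_zero, one_smul] at h2
    exact hab (add_left_cancel h2)

theorem Blk.stable (g : H) : ∀ b ∈ B, g • b ∈ B := by
  by_contra hg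
  push Not at hg
  obtain ⟨m, ⟨x, b, hb, hbm⟩, hmax⟩ := Set.exists_max_image
    {g : H | ∃ x : H, ∃ b ∈ B, (x⁻¹ * g * x) • b ∉ B}
    (fun g => Nat.card (fx (V := V) g)) (Set.toFinite _) ⟨g, 1, by simpa using hg⟩
  have hm1 : m ≠ 1 := by
    rintro rfl
    exact hbm (by rwa [mul_one, inv_mul_cancel, one_smul])
  obtain ⟨a, ha, hle⟩ := K.set.exists_rfl hm1
  obtain ⟨k, hk⟩ := K.cover a ha
  have hle' : fx (V := V) (k⁻¹ * m * k⁻¹⁻¹) ≤ fx (k⁻¹ * a * k⁻¹⁻¹) := fun z hz =>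
    mem_fx_conj.2 (hle (mem_fx_conj.1 hz))
  have haC : ∀ c ∈ C, (k⁻¹ * a * k⁻¹⁻¹) • c = c := fun c hc => by
    rw [inv_inv, mul_smul, mul_smul, hk c hc, inv_smul_smul]
  obtain ⟨g', hg', hlt⟩ : ∃ g' : H, (∃ x : H, ∃ b ∈ B, (x⁻¹ * g' * x) • b ∉ B) ∧
      fx (V := V) (k⁻¹ * m * k⁻¹⁻¹) < fx g' := by
    by_cases h : ∃ b ∈ B, (k⁻¹ * m * k⁻¹⁻¹) • b ∉ B
    · exact K.improve_move (ha.conj _).1 haC hle' h
    · push Not at h
      refine K.improve_stab (ha.conj _).1 haC hle' h (x := k⁻¹ * x) ⟨b, hb, ?_⟩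
      have e : (k⁻¹ * x)⁻¹ * (k⁻¹ * m * k⁻¹⁻¹) * (k⁻¹ * x) = x⁻¹ * m * x := by group
      rwa [e]
  have h2 : Nat.card (fx (V := V) g') ≤ Nat.card (fx (V := V) (k⁻¹ * m * k⁻¹⁻¹)) :=
    (card_fx_conj (V := V) k⁻¹ m).symm ▸ hmax g' hg'
  exact hlt.ne (AddSubgroup.eq_of_le_of_card_ge hlt.le h2)

theorem Blk.eq_top (hB : ∃ b ∈ B, b ≠ 0) : B = ⊤ := by
  rcases K.set.irr B K.stable with h | h
  · obtain ⟨b, hb, hb0⟩ := hB
    exact absurd (AddSubgroup.mem_bot.1 (h ▸ hb)) hb0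
  · exact h

end Cfsg.Agent.BinaryAffine
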