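/-
Binary affine primitive groups, part 10: either `V` has prime order and `H` has order at most 2, or
`V` is the commutator space of two non-commuting reflections.
-/
import Cfsg.Agent.Lib.BinaryAffine.Blocks

namespace Cfsg.Agent.BinaryAffine

open AddSubgroup

set_option linter.unusedSectionVars false

universe u v

variable {H : Type u} [Group H] {V : Type v} [AddCommGroup V] [DistribMulAction H V]
variable [Finite H] [Finite V] {p : ℕ}

theorem Pair.conj_mem_of_stable {s t : H} (P : Pair p s t V) {g : H}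
    (hg : ∀ x ∈ im (V := V) (s * t), g • x ∈ im (V := V) (s * t)) :
    ∀ c ∈ fx (V := V) (s * t), g • c ∈ fx (V := V) (s * t) := by
  have key : ∀ r ∈ plT V s t, g * r * g⁻¹ ∈ plT V s t := fun r hr => by
    obtain ⟨b, hb⟩ := P.set.exists_moved hr.1.1
    exact P.mem_of_im (hr.1.conj g) (smul_mem_im_conj (dl_mem_im r b))
      (fun h => hb (sub_eq_zero.1 ((smul_eq_zero_iff_eq g).1 h)))
      (hg _ (P.im_le_X hr (dl_mem_im r b)))
  have Q : Pair p (g * s * g⁻¹) (g * t * g⁻¹) V := ⟨P.set, P.hs.conj g, P.ht.conj g, fun h =>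
    P.ne (by
      rw [Commute, SemiconjBy, conj_mul, conj_mul] at h
      exact mul_left_cancel (mul_right_cancel h))⟩
  intro c hc
  rw [← (P.plane_eq (key s P.left_mem_plT) (key t P.right_mem_plT) Q).1, conj_mul]
  exact smul_mem_fx_conj hc

theorem Pair.blk {s t : H} (P : Pair p s t V) :
    Blk p (im (V := V) (s * t)) (fx (V := V) (s * t)) (plK V s t) where
  set := P.set
  sum := P.decomp
  inter _ h1 h2 := P.XY_bot h1 h2
  fixC _ he c hc := mem_plK.1 he c hc
  stabD _ he _ hb := P.plK_smul_mem_X he hb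
  restr _ hg := P.restrict hg
  stabC _ hg := P.conj_mem_of_stable hg
  out := by
    rintro g ⟨x, hx, hgx⟩ b hb
    have hno : ∀ r ∈ plT V s t, g * r * g⁻¹ ∉ plT V s t := by
      intro r hr hr'
      have key : ∀ {a b : H}, a ∈ plT V s t → b ∈ plT V s t → ¬Commute a b →
          g * a * g⁻¹ ∈ plT V s t → g * b * g⁻¹ ∈ plT V s t := fun {a b} _ hb hab ha' =>
        ⟨hb.1.conj g, P.same_plane (hb.1.conj g) ha' fun h => hab (by
          rw [Commute, SemiconjBy, conj_mul, conj_mul] at h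
          exact (mul_left_cancel (mul_right_cancel h)).symm)⟩
      have hst : g * s * g⁻¹ ∈ plT V s t ∧ g * t * g⁻¹ ∈ plT V s t := by
        rcases P.not_commute_one hr with h | h
        · have h1 := key hr P.left_mem_plT h hr'
          exact ⟨h1, key P.left_mem_plT P.right_mem_plT P.ne h1⟩
        · have h1 := key hr P.right_mem_plT h hr'
          exact ⟨key P.right_mem_plT P.left_mem_plT P.symm.ne h1, h1⟩
      obtain ⟨ws, hws, wt, hwt, rfl⟩ := P.im_decomp hx
      rw [smul_add] at hgx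
      exact hgx (add_mem (P.im_le_X hst.1 (smul_mem_im_conj hws))
        (P.im_le_X hst.2 (smul_mem_im_conj hwt)))
    have hfix : ∀ r ∈ plT V s t, ∀ a ∈ plT V s t, ∀ w ∈ im (V := V) r,
        a • g • w = g • w := by
      intro r hr a ha w hw
      refine P.set.im_le_fx (hr.1.conj g) ha.1 ?_ (fun h => hno r hr (h ▸ ha))
        (smul_mem_im_conj hw)
      by_contra h
      exact hno r hr ⟨hr.1.conj g, P.same_plane (hr.1.conj g) ha fun h' => h h'.symm⟩
    obtain ⟨ws, hws, wt, hwt, rfl⟩ := P.im_decomp hb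
    rw [smul_add]
    refine add_mem ?_ ?_
    · exact P.fx_iff.2 ⟨hfix s P.left_mem_plT s P.left_mem_plT ws hws,
        hfix s P.left_mem_plT t P.right_mem_plT ws hws⟩
    · exact P.fx_iff.2 ⟨hfix t P.right_mem_plT s P.left_mem_plT wt hwt,
        hfix t P.right_mem_plT t P.right_mem_plT wt hwt⟩
  cover := by
    intro a ha
    by_contra hc
    push Not at hc
    have hK : ∀ g : H, g⁻¹ * a * g⁻¹⁻¹ ∉ plK V s t := by
      intro g hg
      obtain ⟨c, hc, hne⟩ := hc g
      have h := mem_plK.1 hg c hc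
      rw [inv_inv, mul_smul, mul_smul, inv_smul_eq_iff] at h
      exact hne h
    refine ha.1 (P.set.eq_one_of_fixes_all (C := {b | ∃ g : H, b = g * s * g⁻¹}) ?_
      ⟨1, by group⟩ P.hs.1 ?_)
    · rintro g _ ⟨k, rfl⟩
      exact ⟨g * k, by group⟩
    rintro _ ⟨g, rfl⟩ w hw
    refine P.set.im_le_fx (P.hs.conj g) ha ?_ ?_ hw
    · by_contra h
      refine hK g ?_
      refine P.same_plane (ha.conj _) P.left_mem_plT fun h' => h ?_
      have h2 := h'.map (MulAut.conj g).toMonoidHom
      simpa [MulAut.conj_apply, mul_assoc] using h2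
    · rintro rfl
      refine hK g ?_
      have e : g⁻¹ * (g * s * g⁻¹) * g⁻¹⁻¹ = s := by group
      rw [e]
      exact P.left_mem_plK

theorem Setting.commuting_blk (S : Setting p H V) (hp : p ≠ 2)
    (hcom : ∀ a b : H, Rfl' V a → Rfl' V b → Commute a b) {t : H} (ht : Rfl' V t) :
    Blk p (im (V := V) t) (fx (V := V) t) (Subgroup.zpowers t) := by
  have hD : ∀ e ∈ Subgroup.zpowers t, e = 1 ∨ e = t := by
    intro e he
    obtain ⟨k, rfl⟩ := Subgroup.mem_zpowers_iff.1 he
    rcases Int.even_or_odd k with ⟨j, rfl⟩ | ⟨j, rfl⟩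
    · exact .inl (by rw [zpow_add, ← (Commute.refl t).mul_zpow, S.mul_self ht, one_zpow])
    · exact .inr (by rw [zpow_add_one, two_mul, zpow_add, ← (Commute.refl t).mul_zpow,
        S.mul_self ht, one_zpow, one_mul])
  have hstab : ∀ g : H, (∀ b ∈ im (V := V) t, g • b ∈ im (V := V) t) → Commute g t := by
    intro g hg
    obtain ⟨b, hb⟩ := S.exists_moved ht.1
    have h1 := S.rfl_eq_of_mem ht (ht.conj g) (smul_mem_im_conj (dl_mem_im t b))
      (hg _ (dl_mem_im t b)) (fun h => hb (sub_eq_zero.1 ((smul_eq_zero_iff_eq g).1 h)))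
    exact mul_inv_eq_iff_eq_mul.1 h1
  have hinter : ∀ a ∈ im (V := V) t, a ∈ fx (V := V) t → a = 0 :=
    fun a h1 h2 => S.disjoint hp h1 (mem_fx.1 h2)
  refine ⟨S, fun a => ?_, hinter, fun e he c hc => ?_, fun e he b hb => ?_, fun g hg => ?_,
    fun g hg c hc => ?_, fun g hg b hb => ?_, fun a ha => ?_⟩
  · let f : im (V := V) t × fx (V := V) t → V := fun z => (z.1 : V) + z.2
    have hinj : Function.Injective f := by
      rintro ⟨⟨x, hx⟩, ⟨y, hy⟩⟩ ⟨⟨x', hx'⟩, ⟨y', hy'⟩⟩ he
      simp only [f] at he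
      have h1 : x - x' = y' - y := by rw [sub_eq_sub_iff_add_eq_add, he, add_comm]
      have h2 := hinter _ (sub_mem hx hx') (h1 ▸ sub_mem hy' hy)
      rw [h2, eq_comm, sub_eq_zero] at h1
      rw [sub_eq_zero] at h2
      subst h1 h2; rfl
    have hb := hinj.bijective_of_nat_card_le (by
      rw [Nat.card_prod, mul_comm, card_fx_mul_im (V := V) t])
    obtain ⟨⟨⟨x, hx⟩, ⟨y, hy⟩⟩, hxy⟩ := hb.2 a
    exact ⟨x, hx, by rw [← hxy]; simpa [f] using hy⟩
  · rcases hD e he with rfl | rfl
    exacts [one_smul _ c, mem_fx.1 hc]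
  · rcases hD e he with rfl | rfl
    · rwa [one_smul]
    · rw [S.smul_im ht hb]; exact neg_mem hb
  · have hc := hstab g hg
    by_cases h : ∀ b ∈ im (V := V) t, g • b = b
    · exact ⟨1, one_mem _, fun b hb => by rw [h b hb, one_smul]⟩
    push Not at h
    obtain ⟨b, hb, hgb⟩ := h
    refine ⟨t, Subgroup.mem_zpowers t, fun w hw => ?_⟩
    rw [S.smul_im ht hw]
    rcases eq_or_ne w 0 with rfl | hw0
    · simp
    refine (S.im_pm ht hc hw).resolve_left fun h' => hgb ?_
    exact S.im_uniform ht hc hw hw0 h' hb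
  · rw [mem_fx, ← mul_smul, ← (hstab g hg).eq, mul_smul, mem_fx.1 hc]
  · obtain ⟨x, hx, hgx⟩ := hg
    have hne : t ≠ g * t * g⁻¹ := fun h => hgx (by
      have := smul_mem_im_conj (g := g) hx
      rwa [← h] at this)
    exact mem_fx.2 (S.im_le_fx (ht.conj g) ht (hcom _ _ ht (ht.conj g)) hne (smul_mem_im_conj hb))
  · by_contra hc
    push Not at hc
    refine ha.1 (S.eq_one_of_fixes_all (C := {b | ∃ g : H, b = g * t * g⁻¹}) ?_
      ⟨1, by group⟩ ht.1 ?_)
    · rintro g _ ⟨k, rfl⟩
      exact ⟨g * k, by group⟩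
    rintro _ ⟨g, rfl⟩ w hw
    refine S.im_le_fx (ht.conj g) ha (hcom _ _ ha (ht.conj g)) ?_ hw
    rintro rfl
    obtain ⟨c, hc, hne⟩ := hc g
    exact hne (mem_fx.1 (smul_mem_fx_conj hc))

/-- If every vector is fixed or negated by every element then `V` has prime order. -/
theorem Setting.prime_of_pm [Nontrivial V] (S : Setting p H V)
    (h : ∀ (g : H) (w : V), g • w = w ∨ g • w = -w) : (Nat.card V).Prime := by
  obtain ⟨w, hw⟩ := exists_ne (0 : V)
  rcases S.irr (AddSubgroup.zmultiples w) (fun g a ha => by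
    rcases h g a with h' | h' <;> rw [h']
    exacts [ha, neg_mem ha]) with h' | h'
  · exact absurd (AddSubgroup.mem_bot.1 (h' ▸ AddSubgroup.mem_zmultiples w)) hw
  · have := Fact.mk S.prime
    have h1 : Nat.card (AddSubgroup.zmultiples w) = p := by
      rw [Nat.card_zmultiples, addOrderOf_eq_prime (S.char w) hw]
    rw [h', AddSubgroup.card_top] at h1
    exact h1 ▸ S.prime

/-- Either `V` has prime order and `H` has order at most two, or `V` is a plane. -/
theorem Setting.dichotomy [Nontrivial V] (S : Setting p H V) :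
    ((Nat.card V).Prime ∧ Nat.card H ≤ 2) ∨
      ∃ s t : H, Pair p s t V ∧ im (V := V) (s * t) = ⊤ := by
  by_cases hcom : ∀ a b : H, Rfl' V a → Rfl' V b → Commute a b
  swap
  · push Not at hcom
    obtain ⟨s, t, hs, ht, hne⟩ := hcom
    have P : Pair p s t V := ⟨S, hs, ht, hne⟩
    obtain ⟨b, hb⟩ := S.exists_moved hs.1
    exact .inr ⟨s, t, P, P.blk.eq_top ⟨_, P.im_left_le_X (dl_mem_im s b), sub_ne_zero.2 hb⟩⟩
  refine .inl ?_
  by_cases hH : ∀ g : H, g = 1
  · refine ⟨S.prime_of_pm fun g w => .inl (by rw [hH g, one_smul]), ?_⟩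
    have : Subsingleton H := ⟨fun a b => (hH a).trans (hH b).symm⟩
    rw [Nat.card_of_subsingleton (1 : H)]
    omega
  push Not at hH
  obtain ⟨g, hg⟩ := hH
  obtain ⟨t, ht, -⟩ := S.exists_rfl hg
  have hp : p ≠ 2 := by
    intro hp
    refine ht.1 (S.eq_one_of_fixes_all (C := {a : H | Rfl' V a}) (fun g _ ha => ha.conj g) ht ht.1
      fun b hb w hw => ?_)
    by_cases h : t = b
    · rw [h, S.smul_im hb hw, S.neg_eq_self hp]
    · exact S.im_le_fx hb ht (hcom _ _ ht hb) h hw
  have K := S.commuting_blk hp hcom ht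
  obtain ⟨b, hb⟩ := S.exists_moved ht.1
  have hw := dl_mem_im t b
  have hw0 : t • b - b ≠ 0 := sub_ne_zero.2 hb
  have htop : im (V := V) t = ⊤ := K.eq_top ⟨_, hw, hw0⟩
  have hmem : ∀ w : V, w ∈ im (V := V) t := fun w => htop ▸ AddSubgroup.mem_top w
  have hall : ∀ g : H, g = 1 ∨ g = t := by
    intro g
    obtain ⟨e, he, hge⟩ := K.restr g fun b _ => hmem _
    have h1 : e⁻¹ * g = 1 := S.faith _ fun w => by rw [mul_smul, hge w (hmem w), inv_smul_smul]
    obtain ⟨k, rfl⟩ := Subgroup.mem_zpowers_iff.1 he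
    rw [inv_mul_eq_one.1 h1 |>.symm]
    rcases Int.even_or_odd k with ⟨j, rfl⟩ | ⟨j, rfl⟩
    · exact .inl (by rw [zpow_add, ← (Commute.refl t).mul_zpow, S.mul_self ht, one_zpow])
    · exact .inr (by rw [zpow_add_one, two_mul, zpow_add, ← (Commute.refl t).mul_zpow,
        S.mul_self ht, one_zpow, one_mul])
  refine ⟨S.prime_of_pm fun g w => ?_, ?_⟩
  · rcases hall g with rfl | rfl
    exacts [.inl (one_smul _ w), .inr (S.smul_im ht (hmem w))]
  · have hsub : (Set.univ : Set H) ⊆ {1, t} := fun g _ => by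
      rcases hall g with h | h
      exacts [.inl h, .inr h]
    have h1 := Set.ncard_le_ncard hsub (Set.toFinite _)
    rw [Set.ncard_univ] at h1
    exact h1.trans ((Set.ncard_insert_le _ _).trans (by rw [Set.ncard_singleton]))

end Cfsg.Agent.BinaryAffine
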