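/-
Binary affine primitive groups, part 2: two non-commuting reflections `s`, `t`.

`V` is the sum of `X = im (s * t)` and `Y = fx (s * t)`, and `X` is partitioned by the fixed spaces of
the reflections fixing `Y`.
-/
import Cfsg.Agent.Lib.BinaryAffine.Basic

namespace Cfsg.Agent.BinaryAffine

open AddSubgroup

set_option linter.unusedSectionVars false

universe u v

variable {H : Type u} [Group H] {V : Type v} [AddCommGroup V] [DistribMulAction H V]
variable [Finite H] [Finite V] {p : ℕ}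

/-- Two non-commuting reflections. -/
structure Pair (p : ℕ) (s t : H) (V : Type v) [AddCommGroup V] [DistribMulAction H V] : Prop where
  set : Setting p H V
  hs : Rfl' V s
  ht : Rfl' V t
  ne : ¬Commute s t

/-- The elements fixing `fx (s * t)` pointwise. -/
def plK (V : Type v) [AddCommGroup V] [DistribMulAction H V] (s t : H) : Subgroup H :=
  fixingSubgroup H (fx (V := V) (s * t) : Set V)

theorem mem_plK {s t g : H} :
    g ∈ plK V s t ↔ ∀ a ∈ fx (V := V) (s * t), g • a = a := by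
  rw [plK, mem_fixingSubgroup_iff]; rfl

/-- The reflections fixing `fx (s * t)` pointwise. -/
def plT (V : Type v) [AddCommGroup V] [DistribMulAction H V] (s t : H) : Set H :=
  {r | Rfl' V r ∧ r ∈ plK V s t}

theorem Setting.add_self (S : Setting p H V) (hp : p = 2) (a : V) : a + a = 0 := by
  rw [← two_nsmul, ← hp, S.char]

theorem Setting.neg_eq_self (S : Setting p H V) (hp : p = 2) (a : V) : -a = a :=
  neg_eq_iff_add_eq_zero.2 (S.add_self hp a)

variable {s t : H} (P : Pair p s t V)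
include P

theorem Pair.symm : Pair p t s V := ⟨P.set, P.ht, P.hs, fun h => P.ne h.symm⟩

theorem Pair.card_im_right : Nat.card (im (V := V) t) = Nat.card (im (V := V) s) :=
  P.set.card_im_eq P.ht P.hs P.ne

theorem Pair.inter_left {w : V} (hw : w ∈ im (V := V) s) (h : t • w = w) : w = 0 :=
  P.set.inter_eq_bot P.hs (fun h' => P.ne h'.symm) hw h

theorem Pair.inter_right {w : V} (hw : w ∈ im (V := V) t) (h : s • w = w) : w = 0 :=
  P.set.inter_eq_bot P.ht P.ne hw h

theorem Pair.im_inter {w : V} (hws : w ∈ im (V := V) s) (hwt : w ∈ im (V := V) t) : w = 0 := by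
  by_contra h0
  exact P.ne (P.set.rfl_eq_of_mem P.ht P.hs hws hwt h0 ▸ Commute.refl t)

theorem Pair.fx_iff {a : V} : a ∈ fx (V := V) (s * t) ↔ s • a = a ∧ t • a = a := by
  refine ⟨fun h => ?_, fun h => by rw [mem_fx, mul_smul, h.2, h.1]⟩
  rw [mem_fx, mul_smul] at h
  have h1 : t • a = s • a := by
    calc t • a = s • s • t • a := (P.set.smul_smul_self P.hs _).symm
      _ = s • a := by rw [h]
  have h2 : t • a - a ∈ im (V := V) s := by rw [h1]; exact dl_mem_im s a
  have h3 := sub_eq_zero.1 (P.im_inter h2 (dl_mem_im t a))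
  exact ⟨h1 ▸ h3, h3⟩

theorem Pair.left_mem_plK : s ∈ plK V s t := mem_plK.2 fun _ ha => (P.fx_iff.1 ha).1

theorem Pair.right_mem_plK : t ∈ plK V s t := mem_plK.2 fun _ ha => (P.fx_iff.1 ha).2

theorem Pair.left_mem_plT : s ∈ plT V s t := ⟨P.hs, P.left_mem_plK⟩

theorem Pair.right_mem_plT : t ∈ plT V s t := ⟨P.ht, P.right_mem_plK⟩

theorem Pair.im_decomp {a : V} (ha : a ∈ im (V := V) (s * t)) :
    ∃ ws ∈ im (V := V) s, ∃ wt ∈ im (V := V) t, a = ws + wt := by
  obtain ⟨b, rfl⟩ := mem_im.1 ha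
  exact ⟨_, dl_mem_im s (t • b), _, dl_mem_im t b, by rw [mul_smul]; abel⟩

theorem Pair.XY_bot {a : V} (hX : a ∈ im (V := V) (s * t)) (hY : a ∈ fx (V := V) (s * t)) :
    a = 0 := by
  by_cases hp : p = 2
  · obtain ⟨ws, hws, wt, hwt, rfl⟩ := P.im_decomp hX
    obtain ⟨h1, h2⟩ := P.fx_iff.1 hY
    rw [smul_add, P.set.smul_im P.hs hws, P.set.neg_eq_self hp] at h1
    rw [smul_add, P.set.smul_im P.ht hwt, P.set.neg_eq_self hp] at h2
    rw [P.inter_left hws (add_right_cancel h2), P.inter_right hwt (add_left_cancel h1), add_zero]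
  · exact P.set.disjoint hp hX (mem_fx.1 hY)

theorem Pair.decomp (a : V) :
    ∃ x ∈ im (V := V) (s * t), a - x ∈ fx (V := V) (s * t) := by
  let f : im (V := V) (s * t) × fx (V := V) (s * t) → V := fun z => (z.1 : V) + z.2
  have hinj : Function.Injective f := by
    rintro ⟨⟨x, hx⟩, ⟨y, hy⟩⟩ ⟨⟨x', hx'⟩, ⟨y', hy'⟩⟩ he
    simp only [f] at he
    have h1 : x - x' = y' - y := by rw [sub_eq_sub_iff_add_eq_add, he, add_comm]
    have h2 := P.XY_bot (sub_mem hx hx') (h1 ▸ sub_mem hy' hy)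
    rw [h2, eq_comm, sub_eq_zero] at h1
    rw [sub_eq_zero] at h2
    subst h1 h2; rfl
  have hb := hinj.bijective_of_nat_card_le (by
    rw [Nat.card_prod, mul_comm, card_fx_mul_im (V := V) (s * t)])
  obtain ⟨⟨⟨x, hx⟩, ⟨y, hy⟩⟩, hxy⟩ := hb.2 a
  refine ⟨x, hx, ?_⟩
  rw [← hxy]
  simpa [f] using hy

/-- An element inverting or centralising `s * t` preserves `X`. -/
theorem Pair.smul_mem_X {g : H}
    (hg : g * (s * t) * g⁻¹ = s * t ∨ g * (s * t) * g⁻¹ = (s * t)⁻¹) {x : V}
    (hx : x ∈ im (V := V) (s * t)) : g • x ∈ im (V := V) (s * t) := by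
  have h := smul_mem_im_conj (g := g) hx
  rcases hg with hg | hg <;> rw [hg] at h
  · exact h
  · rwa [im_inv] at h

theorem Pair.conj_left : s * (s * t) * s⁻¹ = (s * t)⁻¹ := by
  rw [mul_inv_rev, P.set.inv_eq P.ht, ← mul_assoc s s t, P.set.mul_self P.hs, one_mul]

theorem Pair.conj_right : t * (s * t) * t⁻¹ = (s * t)⁻¹ := by
  rw [mul_inv_rev, P.set.inv_eq P.ht, P.set.inv_eq P.hs, mul_assoc t (s * t) t, mul_assoc s t t,
    P.set.mul_self P.ht, mul_one]

theorem Pair.im_le_X_of {r : H} (hr : r ∈ plK V s t)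
    (hconj : r * (s * t) * r⁻¹ = (s * t)⁻¹) {w : V} (hw : w ∈ im (V := V) r) :
    w ∈ im (V := V) (s * t) := by
  obtain ⟨b, rfl⟩ := mem_im.1 hw
  obtain ⟨x, hx, hy⟩ := P.decomp b
  have h1 := mem_plK.1 hr _ hy
  rw [smul_sub] at h1
  have h2 : r • b - b = r • x - x := sub_eq_sub_iff_sub_eq_sub.1 h1
  rw [h2]
  exact sub_mem (P.smul_mem_X (.inr hconj) hx) hx

theorem Pair.im_left_le_X {w : V} (hw : w ∈ im (V := V) s) : w ∈ im (V := V) (s * t) :=
  P.im_le_X_of P.left_mem_plK P.conj_left hw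

theorem Pair.im_right_le_X {w : V} (hw : w ∈ im (V := V) t) : w ∈ im (V := V) (s * t) :=
  P.im_le_X_of P.right_mem_plK P.conj_right hw

theorem Pair.card_X :
    Nat.card (im (V := V) (s * t)) = Nat.card (im (V := V) s) * Nat.card (im (V := V) s) := by
  let f : im (V := V) s × im (V := V) t → im (V := V) (s * t) := fun z =>
    ⟨(z.1 : V) + z.2, add_mem (P.im_left_le_X z.1.2) (P.im_right_le_X z.2.2)⟩
  have hf : Function.Bijective f := by
    constructor
    · rintro ⟨⟨a, ha⟩, ⟨b, hb⟩⟩ ⟨⟨a', ha'⟩, ⟨b', hb'⟩⟩ he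
      have he' : a + b = a' + b' := congrArg Subtype.val he
      have h1 : a - a' = b' - b := by rw [sub_eq_sub_iff_add_eq_add, he', add_comm]
      have h2 := P.im_inter (sub_mem ha ha') (h1 ▸ sub_mem hb' hb)
      rw [h2, eq_comm, sub_eq_zero] at h1
      rw [sub_eq_zero] at h2
      subst h1 h2; rfl
    · rintro ⟨x, hx⟩
      obtain ⟨a, ha, b, hb, rfl⟩ := P.im_decomp hx
      exact ⟨(⟨a, ha⟩, ⟨b, hb⟩), rfl⟩
  rw [← Nat.card_congr (Equiv.ofBijective f hf), Nat.card_prod, P.card_im_right]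

theorem Pair.card_Y : Nat.card (fx (V := V) (s * t)) *
    (Nat.card (im (V := V) s) * Nat.card (im (V := V) s)) = Nat.card V := by
  rw [← P.card_X, card_fx_mul_im]

theorem Pair.eq_one_of_fixes {g : H} (hY : g ∈ plK V s t)
    (hs : ∀ w ∈ im (V := V) s, g • w = w) (ht : ∀ w ∈ im (V := V) t, g • w = w) : g = 1 := by
  refine P.set.faith g fun a => ?_
  obtain ⟨x, hx, hy⟩ := P.decomp a
  obtain ⟨w, hw, w', hw', rfl⟩ := P.im_decomp hx
  have h1 := mem_plK.1 hY _ hy
  rw [smul_sub, smul_add, hs w hw, ht w' hw'] at h1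
  exact sub_left_inj.1 h1

theorem Pair.not_commute_one {r : H} (hr : r ∈ plT V s t) : ¬Commute r s ∨ ¬Commute r t := by
  by_contra hc
  push Not at hc
  by_cases h1 : r = s
  · exact P.ne (h1 ▸ hc.2)
  by_cases h2 : r = t
  · exact P.ne (h2 ▸ hc.1.symm)
  exact hr.1.1 (P.eq_one_of_fixes hr.2 (fun w hw => P.set.im_le_fx P.hs hr.1 hc.1 h1 hw)
    fun w hw => P.set.im_le_fx P.ht hr.1 hc.2 h2 hw)

theorem Pair.card_im {r : H} (hr : r ∈ plT V s t) :
    Nat.card (im (V := V) r) = Nat.card (im (V := V) s) := by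
  rcases P.not_commute_one hr with h | h
  · exact P.set.card_im_eq hr.1 P.hs fun h' => h h'.symm
  · rw [P.set.card_im_eq hr.1 P.ht fun h' => h h'.symm, P.card_im_right]

theorem Pair.Y_le_fx {r : H} (hr : r ∈ plK V s t) : fx (V := V) (s * t) ≤ fx r :=
  fun a ha => mem_fx.2 (mem_plK.1 hr a ha)

theorem Pair.fx_decomp {r : H} (hr : r ∈ plT V s t) {a : V} (ha : a ∈ fx (V := V) r) :
    ∃ x ∈ fx (V := V) r ⊓ im (s * t), a - x ∈ fx (V := V) (s * t) := by
  obtain ⟨x, hx, hy⟩ := P.decomp a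
  refine ⟨x, ⟨?_, hx⟩, hy⟩
  have := sub_mem ha (P.Y_le_fx hr.2 hy)
  rwa [sub_sub_cancel] at this

theorem Pair.card_L {r : H} (hr : r ∈ plT V s t) :
    Nat.card (fx (V := V) r ⊓ im (s * t) : AddSubgroup V) = Nat.card (im (V := V) s) := by
  let f : (fx (V := V) r ⊓ im (s * t) : AddSubgroup V) × fx (V := V) (s * t) → fx (V := V) r :=
    fun z => ⟨(z.1 : V) + z.2, add_mem z.1.2.1 (P.Y_le_fx hr.2 z.2.2)⟩
  have hf : Function.Bijective f := by
    constructor
    · rintro ⟨⟨x, hx⟩, ⟨y, hy⟩⟩ ⟨⟨x', hx'⟩, ⟨y', hy'⟩⟩ he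
      have he' : x + y = x' + y' := congrArg Subtype.val he
      have h1 : x - x' = y' - y := by rw [sub_eq_sub_iff_add_eq_add, he', add_comm]
      have h2 := P.XY_bot (sub_mem hx.2 hx'.2) (h1 ▸ sub_mem hy' hy)
      rw [h2, eq_comm, sub_eq_zero] at h1
      rw [sub_eq_zero] at h2
      subst h1 h2; rfl
    · rintro ⟨a, ha⟩
      obtain ⟨x, hx, hy⟩ := P.fx_decomp hr ha
      exact ⟨(⟨x, hx⟩, ⟨a - x, hy⟩), Subtype.ext (add_sub_cancel x a)⟩
  have h1 := Nat.card_congr (Equiv.ofBijective f hf)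
  rw [Nat.card_prod] at h1
  have h2 := card_fx_mul_im (V := V) r
  rw [P.card_im hr, ← h1, ← P.card_Y] at h2
  exact Nat.eq_of_mul_eq_mul_right
    (Nat.mul_pos Nat.card_pos Nat.card_pos :
      0 < Nat.card (fx (V := V) (s * t)) * Nat.card (im (V := V) s)) (by linarith)

theorem Pair.no_neg {x : V} (hx : x ∈ im (V := V) (s * t)) (h : (s * t) • x = -x) : x = 0 := by
  by_cases hp : p = 2
  · rw [P.set.neg_eq_self hp] at h
    exact P.XY_bot hx (mem_fx.2 h)
  have hsx : (s * t) • (s • x) = -(s • x) := by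
    have h1 : (s * t)⁻¹ • x = -x := by
      rw [inv_smul_eq_iff, smul_neg, h, neg_neg]
    rw [← P.conj_left, mul_smul, mul_smul, P.set.inv_eq P.hs] at h1
    have h2 := congrArg (fun z => s • z) h1
    simp only [P.set.smul_smul_self P.hs, smul_neg] at h2
    exact h2
  have key : ∀ w ∈ im (V := V) s, (s * t) • w = -w → w = 0 := by
    intro w hw he
    rw [mul_smul] at he
    have h1 := congrArg (fun z => s • z) he
    simp only [P.set.smul_smul_self P.hs, smul_neg, P.set.smul_im P.hs hw, neg_neg] at h1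
    exact P.inter_left hw h1
  have hfix : s • x = x := sub_eq_zero.1 (key _ (dl_mem_im s x) (by
    rw [smul_sub, hsx, h]; abel))
  have htx : t • x = -x := by
    have := congrArg (fun z => s • z) h
    simp only [mul_smul, P.set.smul_smul_self P.hs, smul_neg, hfix] at this
    exact this
  have h2 : x + x = 0 := by
    have hm := dl_mem_im t x
    rw [htx] at hm
    have h0 := P.inter_right hm (by rw [smul_sub, smul_neg, hfix])
    calc x + x = -(-x - x) := by abel
      _ = 0 := by rw [h0, neg_zero]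
  exact P.set.double_ne hp h2

/-- Every vector of `X` is fixed by a reflection of the plane. -/
theorem Pair.exists_fix {x : V} (hx : x ∈ im (V := V) (s * t)) :
    ∃ r ∈ plT V s t, r • x = x := by
  rcases eq_or_ne x 0 with rfl | hx0
  · exact ⟨s, P.left_mem_plT, smul_zero s⟩
  let f : im (V := V) (s * t) → im (V := V) (s * t) := fun z =>
    ⟨(s * t) • (z : V) + z,
      add_mem (P.smul_mem_X (.inl (mul_inv_cancel_right _ _)) z.2) z.2⟩
  have hf : Function.Surjective f := by
    refine Finite.injective_iff_surjective.1 fun a b he => Subtype.ext (sub_eq_zero.1 ?_)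
    refine P.no_neg (sub_mem a.2 b.2) ?_
    have he' : (s * t) • (a : V) + a = (s * t) • (b : V) + b := congrArg Subtype.val he
    rw [smul_sub, neg_sub, sub_eq_sub_iff_add_eq_add, he', add_comm]
  obtain ⟨⟨z, hz⟩, hzx⟩ := hf ⟨x, hx⟩
  have hzx' : (s * t) • z + z = x := congrArg Subtype.val hzx
  obtain ⟨m, hm⟩ := P.set.exists_mover ((s * t) • z - z)
  have hmz : m • z = (s * t) • z := (hm z ⟨s * t, by abel⟩).trans (by abel)
  have hne : (s * t) • z ≠ z := fun h => by
    have := P.XY_bot hz (mem_fx.2 h)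
    subst this
    exact hx0 (by rw [← hzx', smul_zero, add_zero])
  have hm1 : m ≠ 1 := fun h => hne (by rw [← hmz, h, one_smul])
  have hmx : m • x = x := by
    have hneg : m • ((s * t) • z - z) = -((s * t) • z - z) := hm.neg (a := z) (h := s * t) (by abel)
    rw [smul_sub, hmz] at hneg
    rw [← hzx', smul_add, hmz]
    have h2 : m • (s * t) • z = z := by
      calc m • (s * t) • z = (m • (s * t) • z - (s * t) • z) + (s * t) • z := by abel
        _ = z := by rw [hneg]; abel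
    rw [h2, add_comm]
  obtain ⟨r, hr, hle⟩ := P.set.exists_rfl hm1
  exact ⟨r, ⟨hr, mem_plK.2 fun a ha => mem_fx.1 (hle (hm.fix_le ha))⟩,
    mem_fx.1 (hle (mem_fx.2 hmx))⟩

theorem Pair.im_inter_Y {r : H} (hr : r ∈ plT V s t) {w : V} (hw : w ∈ im (V := V) r)
    (hY : w ∈ fx (V := V) (s * t)) : w = 0 := by
  obtain ⟨e1, e2⟩ := P.fx_iff.1 hY
  rcases P.not_commute_one hr with hn | hn
  · exact P.set.inter_eq_bot hr.1 (fun h => hn h.symm) hw e1
  · exact P.set.inter_eq_bot hr.1 (fun h => hn h.symm) hw e2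

theorem Pair.two_fx_decomp (hp : p = 2) {r : H} (hr : r ∈ plT V s t) {u : V}
    (hu : u ∈ fx (V := V) r) :
    ∃ w ∈ im (V := V) r, u - w ∈ fx (V := V) (s * t) := by
  let g : im (V := V) r × fx (V := V) (s * t) → fx (V := V) r := fun z =>
    ⟨(z.1 : V) + z.2, add_mem
      (mem_fx.2 (by rw [P.set.smul_im hr.1 z.1.2, P.set.neg_eq_self hp]))
      (P.Y_le_fx hr.2 z.2.2)⟩
  have hg : Function.Bijective g := by
    refine Function.Injective.bijective_of_nat_card_le ?_ ?_
    · rintro ⟨⟨w, hw⟩, ⟨y, hy⟩⟩ ⟨⟨w', hw'⟩, ⟨y', hy'⟩⟩ he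
      have he' : w + y = w' + y' := congrArg Subtype.val he
      have h1 : w - w' = y' - y := by rw [sub_eq_sub_iff_add_eq_add, he', add_comm]
      have h2 : w - w' = 0 := P.im_inter_Y hr (sub_mem hw hw') (h1 ▸ sub_mem hy' hy)
      rw [h2, eq_comm, sub_eq_zero] at h1
      rw [sub_eq_zero] at h2
      subst h1 h2; rfl
    · have h1 := card_fx_mul_im (V := V) r
      rw [P.card_im hr, ← P.card_Y] at h1
      rw [Nat.card_prod, P.card_im hr]
      exact (Nat.eq_of_mul_eq_mul_right (Nat.card_pos (α := im (V := V) s))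
        (by linarith)).le
  obtain ⟨⟨⟨w, hw⟩, ⟨y, hy⟩⟩, he⟩ := hg.2 ⟨u, hu⟩
  have he' : w + y = u := congrArg Subtype.val he
  refine ⟨w, hw, ?_⟩
  rw [← he', add_sub_cancel_left]
  exact hy

theorem Pair.two_commute_fx_eq (hp : p = 2) {r r' : H} (hr : r ∈ plT V s t)
    (hr' : r' ∈ plT V s t) (hcom : Commute r r') : fx (V := V) r = fx r' := by
  have key : ∀ {a b : H}, a ∈ plT V s t → b ∈ plT V s t → Commute a b →
      fx (V := V) a ≤ fx b := by
    intro a b ha hb hab u hu
    obtain ⟨w, hw, hy⟩ := P.two_fx_decomp hp ha hu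
    rw [← add_sub_cancel w u]
    refine add_mem ?_ (P.Y_le_fx hb.2 hy)
    by_cases h : b = a
    · rw [mem_fx, h, P.set.smul_im ha.1 hw, P.set.neg_eq_self hp]
    · exact mem_fx.2 (P.set.im_le_fx ha.1 hb.1 hab.symm h hw)
  exact le_antisymm (key hr hr' hcom) (key hr' hr hcom.symm)

/-- Two reflections of the plane fixing a common non-zero vector of `X` have equal fixed space. -/
theorem Pair.fx_eq_of_common {r r' : H} (hr : r ∈ plT V s t) (hr' : r' ∈ plT V s t) {x : V}
    (hx : x ∈ im (V := V) (s * t)) (hx0 : x ≠ 0) (hrx : r • x = x) (hr'x : r' • x = x) :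
    fx (V := V) r = fx r' := by
  by_cases hcom : Commute r r'
  swap
  · exfalso
    have P' : Pair p r r' V := ⟨P.set, hr.1, hr'.1, hcom⟩
    have h1 := P'.card_Y
    rw [P.card_im hr, ← P.card_Y] at h1
    have h2 : fx (V := V) (s * t) = fx (r * r') := AddSubgroup.eq_of_le_of_card_ge
      (fun a ha => P'.fx_iff.2 ⟨mem_plK.1 hr.2 a ha, mem_plK.1 hr'.2 a ha⟩)
      (Nat.eq_of_mul_eq_mul_right (Nat.mul_pos Nat.card_pos Nat.card_pos) h1).le
    exact hx0 (P.XY_bot hx (h2 ▸ P'.fx_iff.2 ⟨hrx, hr'x⟩))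
  by_cases hp : p = 2
  · exact P.two_commute_fx_eq hp hr hr' hcom
  · by_contra hne
    have hrr : r ≠ r' := fun h => hne (h ▸ rfl)
    have hw : ∀ w ∈ im (V := V) r, w ∈ im (V := V) (r * r') := by
      intro w hw
      obtain ⟨c, hc⟩ := P.set.exists_half hp w
      have hcr : c ∈ im (V := V) r := by
        obtain ⟨k, hk⟩ := P.set.prime.odd_of_ne_two hp
        have : c = (k + 1) • w := by
          rw [← hc, nsmul_add, ← add_nsmul, show k + 1 + (k + 1) = p + 1 by omega,
            add_nsmul, P.set.char, zero_add, one_nsmul]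
        rw [this]
        exact nsmul_mem hw _
      refine mem_im.2 ⟨-c, ?_⟩
      rw [smul_neg, mul_smul, P.set.im_le_fx hr.1 hr'.1 hcom.symm (Ne.symm hrr) hcr,
        P.set.smul_im hr.1 hcr, ← hc]
      abel
    have hw' : ∀ w ∈ im (V := V) r', w ∈ im (V := V) (r * r') := by
      intro w hw
      obtain ⟨c, hc⟩ := P.set.exists_half hp w
      have hcr : c ∈ im (V := V) r' := by
        obtain ⟨k, hk⟩ := P.set.prime.odd_of_ne_two hp
        have : c = (k + 1) • w := by
          rw [← hc, nsmul_add, ← add_nsmul, show k + 1 + (k + 1) = p + 1 by omega,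
            add_nsmul, P.set.char, zero_add, one_nsmul]
        rw [this]
        exact nsmul_mem hw _
      refine mem_im.2 ⟨-c, ?_⟩
      rw [smul_neg, mul_smul, P.set.smul_im hr'.1 hcr, smul_neg,
        P.set.im_le_fx hr'.1 hr.1 hcom hrr hcr, ← hc]
      abel
    let g : im (V := V) r × im (V := V) r' → im (V := V) (r * r') := fun z =>
      ⟨(z.1 : V) + z.2, add_mem (hw _ z.1.2) (hw' _ z.2.2)⟩
    have hg : Function.Injective g := by
      rintro ⟨⟨a, ha⟩, ⟨b, hb⟩⟩ ⟨⟨a', ha'⟩, ⟨b', hb'⟩⟩ he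
      have he' : a + b = a' + b' := congrArg Subtype.val he
      have h1 : a - a' = b' - b := by rw [sub_eq_sub_iff_add_eq_add, he', add_comm]
      have h2 : a - a' = 0 := by
        by_contra h0
        exact hrr (P.set.rfl_eq_of_mem hr'.1 hr.1 (sub_mem ha ha')
          (h1 ▸ sub_mem hb' hb) h0)
      rw [h2, eq_comm, sub_eq_zero] at h1
      rw [sub_eq_zero] at h2
      subst h1 h2; rfl
    have h1 := Nat.card_le_card_of_injective g hg
    rw [Nat.card_prod, P.card_im hr, P.card_im hr', ← P.card_X] at h1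
    have h2 : Nat.card (fx (V := V) (r * r')) ≤ Nat.card (fx (V := V) (s * t)) := by
      have e1 := card_fx_mul_im (V := V) (r * r')
      have e2 := card_fx_mul_im (V := V) (s * t)
      by_contra hc
      push Not at hc
      have := Nat.mul_lt_mul_of_lt_of_le hc h1 Nat.card_pos
      omega
    have h3 : fx (V := V) (s * t) = fx (r * r') := AddSubgroup.eq_of_le_of_card_ge
      (fun a ha => by rw [mem_fx, mul_smul, mem_plK.1 hr'.2 a ha, mem_plK.1 hr.2 a ha]) h2
    exact hx0 (P.XY_bot hx (h3 ▸ mem_fx.2 (by rw [mul_smul, hr'x, hrx])))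

end Cfsg.Agent.BinaryAffine
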