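/-
Binary affine primitive groups, part 3: the reflections of a plane.

The fixed lines partition `X`, so there are `d + 1` of them (`d` the order of a commutator space),
and each carries exactly one reflection.
-/
import Cfsg.Agent.Lib.BinaryAffine.Pair

namespace Cfsg.Agent.BinaryAffine

open AddSubgroup
open scoped Pointwise

set_option linter.unusedSectionVars false

universe u v

variable {H : Type u} [Group H] {V : Type v} [AddCommGroup V] [DistribMulAction H V]

theorem card_subtype_ne_zero {A : Type*} [Zero A] [Finite A] :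
    Nat.card {x : A // x ≠ 0} = Nat.card A - 1 := by
  classical
  let _ := Fintype.ofFinite A
  rw [Nat.card_eq_fintype_card, Nat.card_eq_fintype_card, Fintype.card_subtype_compl,
    Fintype.card_subtype_eq]

theorem smul_fx (g r : H) : g • fx (V := V) r = fx (V := V) (g * r * g⁻¹) := by
  ext a
  rw [AddSubgroup.mem_pointwise_smul_iff_inv_smul_mem, mem_fx_conj]

theorem isPGroup_zpowers_two {g : H} (hg : g * g = 1) : IsPGroup 2 (Subgroup.zpowers g) := by
  intro x
  obtain ⟨k, hk⟩ := Subgroup.mem_zpowers_iff.1 x.2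
  refine ⟨1, Subtype.ext ?_⟩
  rw [pow_one, SubmonoidClass.coe_pow, OneMemClass.coe_one, ← hk, ← zpow_natCast, ← zpow_mul,
    mul_comm, zpow_mul, zpow_natCast, pow_two, hg, one_zpow]

variable [Finite H] [Finite V] {p : ℕ} {s t : H} (P : Pair p s t V)

/-- The fixed spaces of the reflections of the plane. -/
def plLines (V : Type v) [AddCommGroup V] [DistribMulAction H V] (s t : H) : Set (AddSubgroup V) :=
  fx (V := V) '' plT V s t

include P

theorem Pair.inter_lines {U U' : AddSubgroup V} (hU : U ∈ plLines V s t)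
    (hU' : U' ∈ plLines V s t) (hne : U ≠ U') {x : V} (hx : x ∈ im (V := V) (s * t))
    (h : x ∈ U) (h' : x ∈ U') : x = 0 := by
  obtain ⟨r, hr, rfl⟩ := hU
  obtain ⟨r', hr', rfl⟩ := hU'
  by_contra h0
  exact hne (P.fx_eq_of_common hr hr' hx h0 (mem_fx.1 h) (mem_fx.1 h'))

theorem Pair.card_lines :
    Nat.card (plLines V s t) = Nat.card (im (V := V) s) + 1 := by
  classical
  let _ := Fintype.ofFinite (plLines V s t)
  set d := Nat.card (im (V := V) s) with hd
  have hd1 : 1 < d := P.set.one_lt_card_im P.hs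
  let X := im (V := V) (s * t)
  let β : plLines V s t → Type v := fun U => {x : (U.1 ⊓ X : AddSubgroup V) // x ≠ 0}
  let f : (Σ U, β U) → {x : X // x ≠ 0} := fun z =>
    ⟨⟨z.2.1.1, z.2.1.2.2⟩, fun h => z.2.2 (Subtype.ext (congrArg Subtype.val h :))⟩
  have hf : Function.Bijective f := by
    constructor
    · rintro ⟨U, ⟨⟨x, hx⟩, hx0⟩⟩ ⟨U', ⟨⟨x', hx'⟩, hx0'⟩⟩ he
      have he' : x = x' := congrArg (fun z => z.1.1) he
      subst he'
      have hUU : U = U' := by
        by_contra hne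
        exact hx0 (Subtype.ext (P.inter_lines U.2 U'.2 (fun h => hne (Subtype.ext h)) hx.2 hx.1
          hx'.1))
      subst hUU; rfl
    · rintro ⟨⟨x, hx⟩, hx0⟩
      obtain ⟨r, hr, hrx⟩ := P.exists_fix hx
      exact ⟨⟨⟨fx r, r, hr, rfl⟩, ⟨⟨x, mem_fx.2 hrx, hx⟩,
        fun h => hx0 (Subtype.ext (congrArg Subtype.val h :))⟩⟩, rfl⟩
  have h1 := Nat.card_congr (Equiv.ofBijective f hf)
  rw [Nat.card_sigma, card_subtype_ne_zero, P.card_X] at h1
  have h2 : ∀ U : plLines V s t, Nat.card (β U) = d - 1 := by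
    rintro ⟨_, r, hr, rfl⟩
    change Nat.card {x : (fx (V := V) r ⊓ X : AddSubgroup V) // x ≠ 0} = d - 1
    rw [card_subtype_ne_zero, P.card_L hr]
  simp only [h2, Finset.sum_const, smul_eq_mul, Finset.card_univ] at h1
  rw [Nat.card_eq_fintype_card]
  obtain ⟨e, he⟩ : ∃ e, d = e + 2 := ⟨d - 2, by omega⟩
  rw [← hd, he] at h1
  rw [he]
  simp only [show e + 2 - 1 = e + 1 by omega] at h1
  have h3 : (e + 2) * (e + 2) - 1 = (e + 3) * (e + 1) := by
    have : (e + 2) * (e + 2) = (e + 3) * (e + 1) + 1 := by ring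
    omega
  rw [h3] at h1
  exact Nat.eq_of_mul_eq_mul_right (by omega) h1

/-! ### Characteristic two -/

section Two

variable (hp : p = 2)
include hp

theorem Pair.two_slide {r : H} (hr : r ∈ plT V s t) {g : H} (hg : g ∈ plK V s t)
    (hU : ∀ a ∈ fx (V := V) r, g • a ∈ fx (V := V) r) {a : V} (ha : a ∈ fx (V := V) r) :
    g • a - a ∈ fx (V := V) (s * t) := by
  obtain ⟨w, hw, hy⟩ := P.two_fx_decomp hp hr (sub_mem (hU a ha) ha)
  by_cases hw0 : w = 0
  · simpa [hw0] using hy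
  exfalso
  obtain ⟨m, hm⟩ := P.set.exists_mover (g • a - a)
  have hmY : ∀ y ∈ fx (V := V) (s * t), m • y = y := fun y hy => hm.fix (mem_plK.1 hg y hy)
  have hmv : m • (g • a - a) = g • a - a := by
    rw [hm.neg (a := a) (h := g) (by abel), P.set.neg_eq_self hp]
  have hmw : m • w = w := by
    have h := hmY _ hy
    rw [smul_sub, hmv] at h
    exact sub_right_inj.1 h
  have hcom := P.set.commute_of_pm hr.1 hw hw0 (.inl hmw)
  have hmU : m • a = a := by
    obtain ⟨w', hw', hy'⟩ := P.two_fx_decomp hp hr ha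
    have h1 := hmY _ hy'
    rw [smul_sub, P.set.im_uniform hr.1 hcom hw hw0 hmw hw'] at h1
    exact sub_left_inj.1 h1
  have hma : m • a = a + (g • a - a) := hm a ⟨g, by abel⟩
  rw [hmU, left_eq_add] at hma
  rw [hma, zero_sub, neg_mem_iff] at hy
  exact hw0 (P.im_inter_Y hr hw hy)

theorem Pair.two_odd_order : Odd (orderOf (s * t)) := by
  by_contra hc
  rw [Nat.not_odd_iff_even] at hc
  obtain ⟨k, hk⟩ := hc
  have hn : 0 < orderOf (s * t) := orderOf_pos _
  set z := (s * t) ^ k with hz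
  have hz1 : z ≠ 1 := pow_ne_one_of_lt_orderOf (by omega) (by omega)
  have hzz : z⁻¹ = z := inv_eq_of_mul_eq_one_right (by
    rw [hz, ← pow_add, ← hk, pow_orderOf_eq_one])
  have hzK : z ∈ plK V s t := pow_mem (mul_mem P.left_mem_plK P.right_mem_plK) k
  have hs' : Commute z s := by
    have h : s * z * s⁻¹ = z := by
      rw [hz, ← conj_pow, P.conj_left, inv_pow, ← hz, hzz]
    exact (mul_inv_eq_iff_eq_mul.1 h).symm
  have ht' : Commute z t := by
    have h : t * z * t⁻¹ = z := by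
      rw [hz, ← conj_pow, P.conj_right, inv_pow, ← hz, hzz]
    exact (mul_inv_eq_iff_eq_mul.1 h).symm
  refine hz1 (P.eq_one_of_fixes hzK (fun w hw => ?_) fun w hw => ?_)
  · rcases P.set.im_pm P.hs hs' hw with h | h
    · exact h
    · rwa [P.set.neg_eq_self hp] at h
  · rcases P.set.im_pm P.ht ht' hw with h | h
    · exact h
    · rwa [P.set.neg_eq_self hp] at h

theorem Pair.two_exists_conj : ∃ c ∈ plK V s t, c * s * c⁻¹ = t := by
  obtain ⟨k, hk⟩ := P.two_odd_order hp
  refine ⟨(s * t) ^ k, pow_mem (mul_mem P.left_mem_plK P.right_mem_plK) k, ?_⟩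
  set c := (s * t) ^ k with hc
  have h1 : s * c⁻¹ = c * s := by
    have h : s * c * s⁻¹ = c⁻¹ := by rw [hc, ← conj_pow, P.conj_left, inv_pow]
    rw [← h, ← mul_assoc, ← mul_assoc, P.set.mul_self P.hs, one_mul, P.set.inv_eq P.hs]
  have h2 : c * c = (s * t)⁻¹ := by
    rw [hc, eq_inv_iff_mul_eq_one, ← pow_add, ← pow_succ, ← two_mul, ← hk, pow_orderOf_eq_one]
  rw [mul_assoc, h1, ← mul_assoc, h2, mul_inv_rev, P.set.inv_eq P.hs, P.set.inv_eq P.ht,
    mul_assoc, P.set.mul_self P.hs, mul_one]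

theorem Pair.two_fix_line {r : H} (hr : r ∈ plT V s t) {g : H}
    (hg : g ∈ fixingSubgroup H (fx (V := V) r : Set V)) (hg1 : g ≠ 1) :
    g ∈ plT V s t ∧ fx (V := V) g = fx r := by
  have hle : fx (V := V) r ≤ fx g := fun a ha =>
    mem_fx.2 ((mem_fixingSubgroup_iff H).1 hg a ha)
  have heq : fx (V := V) g = fx r := le_antisymm (hr.1.2 g hg1 hle) hle
  refine ⟨⟨⟨hg1, fun h hh hgh => ?_⟩, mem_plK.2 fun a ha => mem_fx.1 (hle (P.Y_le_fx hr.2 ha))⟩,
    heq⟩
  rw [heq] at hgh ⊢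
  exact hr.1.2 h hh hgh

theorem Pair.two_isPGroup_fix {r : H} (hr : r ∈ plT V s t) :
    IsPGroup 2 (fixingSubgroup H (fx (V := V) r : Set V)) := by
  intro x
  refine ⟨1, Subtype.ext ?_⟩
  by_cases hx : (x : H) = 1
  · simp [hx]
  · rw [pow_one, SubmonoidClass.coe_pow, OneMemClass.coe_one, pow_two]
    exact P.set.mul_self (P.two_fix_line hp hr x.2 hx).1.1

/-- The elements of the plane group mapping the line of `r` to itself form a `2`-group. -/
theorem Pair.two_isPGroup_stab {r : H} (hr : r ∈ plT V s t) :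
    IsPGroup 2 (plK V s t ⊓ MulAction.stabilizer H (fx (V := V) r) : Subgroup H) := by
  classical
  set G := plK V s t ⊓ MulAction.stabilizer H (fx (V := V) r) with hG
  refine IsPGroup.of_card (n := (Nat.card G).primeFactorsList.length)
    (Nat.eq_prime_pow_of_unique_prime_dvd Nat.card_pos.ne' fun {ℓ} hℓ hdvd => ?_)
  by_contra hℓ2
  have := Fact.mk hℓ
  obtain ⟨g, hg⟩ := exists_prime_orderOf_dvd_card' ℓ hdvd
  have hgo : orderOf (g : H) = ℓ := by rw [Subgroup.orderOf_coe, hg]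
  have hgK : (g : H) ∈ plK V s t := g.2.1
  have hgU : (g : H) • fx (V := V) r = fx r := g.2.2
  let A : SubMulAction (Subgroup.zpowers (g : H)) (AddSubgroup V) :=
    { carrier := {U | U ∈ plLines V s t ∧ U ≠ fx r}
      smul_mem' := fun h U ⟨hU, hne⟩ => by
        have hhG : (h : H) ∈ G := (Subgroup.zpowers_le.2 g.2) h.2
        obtain ⟨r', hr', rfl⟩ := hU
        refine ⟨⟨h * r' * (h : H)⁻¹, ⟨hr'.1.conj _,
          mul_mem (mul_mem hhG.1 hr'.2) (inv_mem hhG.1)⟩, (smul_fx _ _).symm⟩, fun he => ?_⟩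
        have h' : (h : H) • fx (V := V) r' = fx r := he
        exact hne (smul_left_cancel (h : H) (h'.trans hhG.2.symm)) }
  have hA : Nat.card A = Nat.card (im (V := V) s) := by
    have e : Nat.card A = Nat.card {U : plLines V s t // U ≠ ⟨fx r, r, hr, rfl⟩} :=
      Nat.card_congr
        { toFun := fun U => ⟨⟨U.1, U.2.1⟩, fun he => U.2.2 (congrArg Subtype.val he)⟩
          invFun := fun U => ⟨U.1.1, U.1.2, fun he => U.2 (Subtype.ext he)⟩
          left_inv := fun _ => rfl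
          right_inv := fun _ => rfl }
    let _ := Fintype.ofFinite (plLines V s t)
    rw [e, Nat.card_eq_fintype_card, Fintype.card_subtype_compl, Fintype.card_subtype_eq,
      ← Nat.card_eq_fintype_card, P.card_lines, Nat.add_sub_cancel]
  have hP : IsPGroup ℓ (Subgroup.zpowers (g : H)) :=
    IsPGroup.of_card (n := 1) (by rw [Nat.card_zpowers, hgo, pow_one])
  obtain ⟨n, hn⟩ : ∃ n, Nat.card (im (V := V) s) = 2 ^ n :=
    ⟨_, Nat.eq_prime_pow_of_unique_prime_dvd Nat.card_pos.ne' fun {m} hm hmd => by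
      have := Fact.mk hm
      obtain ⟨w, hw⟩ := exists_prime_addOrderOf_dvd_card' m hmd
      have h2 : m ∣ 2 := hw ▸ addOrderOf_dvd_of_nsmul_eq_zero
        (Subtype.ext (by rw [← hp]; exact P.set.char _))
      exact (Nat.prime_dvd_prime_iff_eq hm Nat.prime_two).1 h2⟩
  obtain ⟨⟨U', hU'⟩, hfix⟩ : (MulAction.fixedPoints (Subgroup.zpowers (g : H)) A).Nonempty := by
    refine hP.nonempty_fixed_point_of_prime_not_dvd_card _ ?_
    rw [hA, hn]
    exact fun h => hℓ2 ((Nat.prime_dvd_prime_iff_eq hℓ Nat.prime_two).1 (hℓ.dvd_of_dvd_pow h))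
  have hgU' : (g : H) • U' = U' :=
    congrArg Subtype.val (hfix ⟨g, Subgroup.mem_zpowers _⟩)
  obtain ⟨⟨r', hr', rfl⟩, hne⟩ := hU'
  have hdiff : ∀ a : V, (g : H) • a - a ∈ fx (V := V) (s * t) := by
    intro a
    obtain ⟨x, hx, hy⟩ := P.decomp a
    let L := (fx (V := V) r ⊓ im (s * t) : AddSubgroup V)
    let L' := (fx (V := V) r' ⊓ im (s * t) : AddSubgroup V)
    let F : L × L' → im (V := V) (s * t) := fun z => ⟨(z.1 : V) + z.2, add_mem z.1.2.2 z.2.2.2⟩
    have hF : Function.Bijective F := by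
      refine Function.Injective.bijective_of_nat_card_le ?_ ?_
      · rintro ⟨⟨w, hw⟩, ⟨u, hu⟩⟩ ⟨⟨w', hw'⟩, ⟨u', hu'⟩⟩ he
        have he' : w + u = w' + u' := congrArg Subtype.val he
        have h1 : w - w' = u' - u := by rw [sub_eq_sub_iff_add_eq_add, he', add_comm]
        have h2 : w - w' = 0 := P.inter_lines ⟨r, hr, rfl⟩ ⟨r', hr', rfl⟩ (Ne.symm hne)
          (sub_mem hw.2 hw'.2) (sub_mem hw.1 hw'.1) (h1 ▸ sub_mem hu'.1 hu.1)
        rw [h2, eq_comm, sub_eq_zero] at h1
        rw [sub_eq_zero] at h2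
        subst h1 h2; rfl
      · rw [Nat.card_prod, P.card_X, P.card_L hr, P.card_L hr']
    obtain ⟨⟨⟨w, hw⟩, ⟨u, hu⟩⟩, he⟩ := hF.2 ⟨x, hx⟩
    have he' : w + u = x := congrArg Subtype.val he
    have e1 : ∀ b ∈ fx (V := V) r, (g : H) • b ∈ fx (V := V) r := fun b hb =>
      hgU ▸ AddSubgroup.smul_mem_pointwise_smul _ _ _ hb
    have e2 : ∀ b ∈ fx (V := V) r', (g : H) • b ∈ fx (V := V) r' := fun b hb =>
      hgU' ▸ AddSubgroup.smul_mem_pointwise_smul _ _ _ hb
    have e3 := P.two_slide hp hr hgK e1 hw.1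
    have e4 := P.two_slide hp hr' hgK e2 hu.1
    have e5 := mem_plK.1 hgK _ hy
    rw [smul_sub] at e5
    have e6 : (g : H) • a - a = ((g : H) • w - w) + ((g : H) • u - u) := by
      calc (g : H) • a - a = ((g : H) • a - (g : H) • x) - (a - x) + ((g : H) • x - x) := by abel
        _ = ((g : H) • x - x) := by rw [e5]; abel
        _ = _ := by rw [← he', smul_add]; abel
    rw [e6]
    exact add_mem e3 e4
  have hgg : (g : H) * g = 1 := by
    refine P.set.faith _ fun a => ?_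
    have h := mem_plK.1 hgK _ (hdiff a)
    rw [smul_sub] at h
    rw [mul_smul]
    calc (g : H) • (g : H) • a = ((g : H) • (g : H) • a - (g : H) • a) + (g : H) • a := by abel
      _ = (g : H) • a - a + (g : H) • a := by rw [h]
      _ = a + (((g : H) • a - a) + ((g : H) • a - a)) := by abel
      _ = a := by rw [P.set.add_self hp, add_zero]
  have h2 : ℓ ∣ 2 := hgo ▸ orderOf_dvd_of_pow_eq_one (by rw [pow_two, hgg])
  exact hℓ2 ((Nat.prime_dvd_prime_iff_eq hℓ Nat.prime_two).1 h2)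

theorem Pair.two_unique {r r' : H} (hr : r ∈ plT V s t) (hr' : r' ∈ plT V s t)
    (he : fx (V := V) r = fx r') : r = r' := by
  classical
  set G := plK V s t ⊓ MulAction.stabilizer H (fx (V := V) r) with hG
  set F := fixingSubgroup H (fx (V := V) r : Set V) with hF
  -- a neighbour `a` of `r` among `s`, `t` is a neighbour of every reflection with the same line
  obtain ⟨a, ha, hra⟩ : ∃ a ∈ plT V s t, ¬Commute r a := by
    rcases P.not_commute_one hr with h | h
    exacts [⟨s, P.left_mem_plT, h⟩, ⟨t, P.right_mem_plT, h⟩]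
  have hnc : ∀ b ∈ plT V s t, fx (V := V) b = fx r → ¬Commute b a := by
    intro b hb hbe hc
    have h1 := (P.two_commute_fx_eq hp hb ha hc).symm.trans hbe
    obtain ⟨x, hx⟩ := P.set.exists_moved hr.1.1
    have h2 : a • (r • x - x) = r • x - x := by
      have h3 : r • x - x ∈ fx (V := V) r := by
        rw [mem_fx, P.set.smul_im hr.1 (dl_mem_im r x), P.set.neg_eq_self hp]
      rw [← h1] at h3
      exact mem_fx.1 h3
    exact hra (P.set.commute_of_pm hr.1 (dl_mem_im r x) (sub_ne_zero.2 hx) (.inl h2)).symm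
  have htrans : ∀ b ∈ plT V s t, fx (V := V) b = fx r → ∃ c ∈ G, c * r * c⁻¹ = b := by
    intro b hb hbe
    have P1 : Pair p r a V := ⟨P.set, hr.1, ha.1, hra⟩
    have P2 : Pair p a b V := ⟨P.set, ha.1, hb.1, fun h => hnc b hb hbe h.symm⟩
    have hsub : ∀ {x y : H}, x ∈ plT V s t → y ∈ plT V s t → Pair p x y V →
        plK V x y ≤ plK V s t := fun hx hy Q g hg => mem_plK.2 fun v hv =>
      mem_plK.1 hg v (Q.fx_iff.2 ⟨mem_plK.1 hx.2 v hv, mem_plK.1 hy.2 v hv⟩)
    obtain ⟨c1, hc1, e1⟩ := P1.two_exists_conj hp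
    obtain ⟨c2, hc2, e2⟩ := P2.two_exists_conj hp
    have e : c2 * c1 * r * (c2 * c1)⁻¹ = b := by
      rw [← e2, ← e1]; group
    refine ⟨c2 * c1, ⟨mul_mem (hsub ha hb P2 hc2) (hsub hr ha P1 hc1), ?_⟩, e⟩
    change (c2 * c1) • fx (V := V) r = fx r
    rw [smul_fx, e, hbe]
  have hnorm : ∀ c ∈ G, ∀ f ∈ F, c * f * c⁻¹ ∈ F := by
    intro c hc f hf
    rw [hF, mem_fixingSubgroup_iff] at hf ⊢
    intro v hv
    have hv' : c⁻¹ • v ∈ fx (V := V) r :=
      AddSubgroup.mem_pointwise_smul_iff_inv_smul_mem.1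
        ((MulAction.mem_stabilizer_iff.1 hc.2).symm ▸ hv)
    rw [mul_smul, mul_smul, hf _ hv', smul_inv_smul]
  let _ : MulAction G F :=
    { smul := fun c f => ⟨c * f * (c : H)⁻¹, hnorm c c.2 f f.2⟩
      one_smul := fun f => Subtype.ext (by change (1 : H) * f * (1 : H)⁻¹ = f; simp)
      mul_smul := fun c c' f => Subtype.ext (by
        change (c * c' : H) * f * ((c : H) * c')⁻¹ = c * (c' * f * (c' : H)⁻¹) * (c : H)⁻¹
        group) }
  have hrF : r ∈ F := by
    rw [hF, mem_fixingSubgroup_iff]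
    exact fun v hv => mem_fx.1 hv
  have h2F : 2 ∣ Nat.card F := by
    have h : orderOf (⟨r, hrF⟩ : F) = 2 :=
      orderOf_eq_prime (Subtype.ext (by rw [SubmonoidClass.coe_pow, pow_two]; exact P.set.mul_self hr.1))
        fun h => hr.1.1 (congrArg Subtype.val h)
    exact h ▸ orderOf_dvd_natCard _
  have h1fix : (1 : F) ∈ MulAction.fixedPoints G F := fun c => Subtype.ext (by
    change (c : H) * 1 * (c : H)⁻¹ = 1; simp)
  obtain ⟨f, hf, hf1⟩ :=
    (P.two_isPGroup_stab hp hr).exists_fixed_point_of_prime_dvd_card_of_fixed_point F h2F h1fix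
  obtain ⟨hfT, hfe⟩ := P.two_fix_line hp hr f.2 (fun h => hf1 (Subtype.ext h.symm))
  have hfix : ∀ c ∈ G, c * (f : H) * c⁻¹ = f := fun c hc => congrArg Subtype.val (hf ⟨c, hc⟩)
  have key : ∀ b ∈ plT V s t, fx (V := V) b = fx r → b = f := by
    intro b hb hbe
    obtain ⟨c, hc, rfl⟩ := htrans b hb hbe
    obtain ⟨c0, hc0, h0⟩ := htrans f hfT hfe
    have h1 := hfix c0⁻¹ (inv_mem hc0)
    have h2 : (f : H) = r := by
      rw [← h1]
      conv_lhs => rw [← h0]
      group
    have h3 := hfix c hc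
    rw [h2] at h3 ⊢
    exact h3
  rw [key r hr rfl, key r' hr' he.symm]

theorem Pair.two_centralizer {r : H} (hr : r ∈ plT V s t) {g : H} (hg : g ∈ plK V s t)
    (hc : Commute g r) : g = 1 ∨ g = r := by
  by_cases hg1 : g = 1
  · exact .inl hg1
  refine .inr (P.two_unique hp (P.two_fix_line hp hr ?_ hg1).1 hr
    (P.two_fix_line hp hr ?_ hg1).2)
  all_goals
    rw [mem_fixingSubgroup_iff]
    intro a ha
    obtain ⟨w, hw, hy⟩ := P.two_fx_decomp hp hr ha
    have h1 := mem_plK.1 hg _ hy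
    have h2 : g • w = w := by
      rcases P.set.im_pm hr.1 hc hw with h | h
      · exact h
      · rwa [P.set.neg_eq_self hp] at h
    rw [smul_sub, h2] at h1
    exact sub_left_inj.1 h1

end Two

theorem Pair.eq_of_fx_eq {r r' : H} (hr : r ∈ plT V s t) (hr' : r' ∈ plT V s t)
    (he : fx (V := V) r = fx r') : r = r' := by
  by_cases hp : p = 2
  · exact P.two_unique hp hr hr' he
  · exact P.set.eq_of_fx_eq_odd hp hr.1 hr'.1 he

theorem Pair.eq_of_common {r r' : H} (hr : r ∈ plT V s t) (hr' : r' ∈ plT V s t) {x : V}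
    (hx : x ∈ im (V := V) (s * t)) (hx0 : x ≠ 0) (hrx : r • x = x) (hr'x : r' • x = x) :
    r = r' :=
  P.eq_of_fx_eq hr hr' (P.fx_eq_of_common hr hr' hx hx0 hrx hr'x)

theorem Pair.card_T : Nat.card (plT V s t) = Nat.card (im (V := V) s) + 1 := by
  rw [← P.card_lines]
  refine Nat.card_congr (Equiv.ofBijective
    (fun r => (⟨fx (r : H), r, r.2, rfl⟩ : plLines V s t)) ⟨fun r r' h => ?_, ?_⟩)
  · exact Subtype.ext (P.eq_of_fx_eq r.2 r'.2 (congrArg Subtype.val h))
  · rintro ⟨_, r, hr, rfl⟩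
    exact ⟨⟨r, hr⟩, rfl⟩

end Cfsg.Agent.BinaryAffine
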