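/-
Binary affine primitive groups, part 4: the group of a plane.

It has order `2 (d + 1)`: the `d + 1` reflections, whose commutator spaces partition `X`, and an
abelian group acting semiregularly on `X \ {0}` which every reflection inverts.
-/
import Cfsg.Agent.Lib.BinaryAffine.Lines

namespace Cfsg.Agent.BinaryAffine

open AddSubgroup

set_option linter.unusedSectionVars false

universe u v

variable {H : Type u} [Group H] {V : Type v} [AddCommGroup V] [DistribMulAction H V]
variable [Finite H] [Finite V] {p : ℕ} {s t : H} (P : Pair p s t V)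
include P

theorem Pair.conj_mem_plT {r g : H} (hr : r ∈ plT V s t) (hg : g ∈ plK V s t) :
    g * r * g⁻¹ ∈ plT V s t :=
  ⟨hr.1.conj g, mul_mem (mul_mem hg hr.2) (inv_mem hg)⟩

theorem Pair.plK_le {a b : H} (ha : a ∈ plT V s t) (hb : b ∈ plT V s t) (Q : Pair p a b V) :
    plK V a b ≤ plK V s t := fun _ hg => mem_plK.2 fun v hv =>
  mem_plK.1 hg v (Q.fx_iff.2 ⟨mem_plK.1 ha.2 v hv, mem_plK.1 hb.2 v hv⟩)

theorem Pair.mul_notMem {r r' : H} (hr : r ∈ plT V s t) (hr' : r' ∈ plT V s t) :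
    r * r' ∉ plT V s t := by
  intro hu
  have h1 := P.set.inv_eq hu.1
  rw [mul_inv_rev, P.set.inv_eq hr.1, P.set.inv_eq hr'.1] at h1
  have hcom : Commute r r' := h1.symm
  by_cases hne : r = r'
  · exact hu.1.1 (by rw [hne]; exact P.set.mul_self hr'.1)
  by_cases hp : p = 2
  · exact hne (P.eq_of_fx_eq hr hr' (P.two_commute_fx_eq hp hr hr' hcom))
  -- the product `u` negates a vector which it has to fix
  obtain ⟨b, hb⟩ := P.set.exists_moved hr.1.1
  have hw := dl_mem_im r b
  have hur : Commute (r * r') r := (Commute.refl r).mul_left hcom.symm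
  have hne' : r * r' ≠ r := fun h => hr'.1.1 (mul_eq_left.1 h)
  have h2 := P.set.im_le_fx hr.1 hu.1 hur hne' hw
  rw [mul_smul, P.set.im_le_fx hr.1 hr'.1 hcom.symm (Ne.symm hne) hw, P.set.smul_im hr.1 hw] at h2
  exact hb (sub_eq_zero.1 (P.set.double_ne hp (neg_eq_iff_add_eq_zero.1 h2)))

theorem Pair.two_ncard (hp : p = 2) :
    Nat.card (plK V s t) = 2 * (Nat.card (im (V := V) s) + 1) := by
  classical
  have hconj : ∀ r : plT V s t, ∃ c ∈ plK V s t, c * s * c⁻¹ = r := by
    rintro ⟨r, hr⟩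
    by_cases h : s = r
    · exact ⟨1, one_mem _, by simp [h]⟩
    have hn : ¬Commute s r := fun hc =>
      h (P.eq_of_fx_eq P.left_mem_plT hr (P.two_commute_fx_eq hp P.left_mem_plT hr hc))
    have Q : Pair p s r V := ⟨P.set, P.hs, hr.1, hn⟩
    obtain ⟨c, hc, hce⟩ := Q.two_exists_conj hp
    exact ⟨c, P.plK_le P.left_mem_plT hr Q hc, hce⟩
  choose c hc hce using hconj
  let f : plT V s t × Bool → plK V s t := fun z =>
    ⟨c z.1 * (if z.2 then s else 1), mul_mem (hc _)
      (by split_ifs; exacts [P.left_mem_plK, one_mem _])⟩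
  have hf : Function.Bijective f := by
    constructor
    · rintro ⟨r, b⟩ ⟨r', b'⟩ he
      have he' : c r * (if b then s else 1) = c r' * (if b' then s else 1) :=
        congrArg Subtype.val he
      have key : ∀ (r : plT V s t) (b : Bool),
          (c r * (if b then s else 1)) * s * (c r * (if b then s else 1))⁻¹ = r := by
        intro r b
        rw [← hce r]
        cases b <;> simp [mul_assoc]
      have hrr : r = r' := Subtype.ext (by rw [← key r b, he', key r' b'])
      subst hrr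
      cases b <;> cases b' <;> simp_all [P.hs.1]
    · rintro ⟨g, hg⟩
      let r : plT V s t := ⟨g * s * g⁻¹, P.conj_mem_plT P.left_mem_plT hg⟩
      have hcom : Commute ((c r)⁻¹ * g) s := by
        have h := hce r
        change c r * s * (c r)⁻¹ = g * s * g⁻¹ at h
        calc (c r)⁻¹ * g * s = (c r)⁻¹ * (g * s * g⁻¹) * g := by group
          _ = (c r)⁻¹ * (c r * s * (c r)⁻¹) * g := by rw [h]
          _ = s * ((c r)⁻¹ * g) := by group
      rcases P.two_centralizer hp P.left_mem_plT (mul_mem (inv_mem (hc r)) hg) hcom with h | h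
      · exact ⟨(r, false), Subtype.ext (by simpa [f] using inv_mul_eq_one.1 h)⟩
      · exact ⟨(r, true), Subtype.ext (by simpa [f] using (inv_mul_eq_iff_eq_mul.1 h).symm)⟩
  rw [← Nat.card_congr (Equiv.ofBijective f hf), Nat.card_prod, P.card_T,
    Nat.card_eq_fintype_card (α := Bool), Fintype.card_bool, mul_comm]

theorem Pair.odd_im_le_X (hp : p ≠ 2) {r : H} (hr : r ∈ plT V s t) {w : V}
    (hw : w ∈ im (V := V) r) : w ∈ im (V := V) (s * t) := by
  classical
  let K := plK V s t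
  let _ := Fintype.ofFinite K
  obtain ⟨b, rfl⟩ := mem_im.1 hw
  have havg : ∀ (g : K) (a : V), ∑ k : K, (k : H) • ((g : H) • a - a) = 0 := by
    intro g a
    simp only [smul_sub, Finset.sum_sub_distrib, ← mul_smul]
    rw [sub_eq_zero]
    exact Equiv.sum_comp (Equiv.mulRight g) fun k : K => (k : H) • a
  obtain ⟨x, hx, hy⟩ := P.decomp (r • b - b)
  obtain ⟨c, rfl⟩ := mem_im.1 hx
  set y := r • b - b - ((s * t) • c - c) with hyd
  have h1 : ∑ k : K, (k : H) • y = 0 := by
    simp only [hyd, smul_sub _ (r • b - b), Finset.sum_sub_distrib]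
    rw [havg ⟨r, hr.2⟩, havg ⟨s * t, mul_mem P.left_mem_plK P.right_mem_plK⟩, sub_zero]
  have h2 : ∑ k : K, (k : H) • y = Nat.card K • y := by
    rw [Finset.sum_congr rfl fun k _ => mem_plK.1 k.2 y hy, Finset.sum_const, Finset.card_univ,
      Nat.card_eq_fintype_card]
  have hcop : (Nat.card K).Coprime p := ((P.set.prime.coprime_iff_not_dvd).2 fun h =>
    P.set.not_dvd_card hp (h.trans K.card_subgroup_dvd_card)).symm
  have h3 : y = 0 := by
    have e1 : addOrderOf y ∣ Nat.card K := addOrderOf_dvd_of_nsmul_eq_zero (h2 ▸ h1)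
    have e2 : addOrderOf y ∣ p := addOrderOf_dvd_of_nsmul_eq_zero (P.set.char y)
    have e3 := Nat.dvd_gcd e1 e2
    rwa [hcop.gcd_eq_one, Nat.dvd_one, AddMonoid.addOrderOf_eq_one_iff] at e3
  rw [sub_eq_zero] at h3
  exact h3 ▸ hx

theorem Pair.odd_companion (hp : p ≠ 2) {r : H} (hr : r ∈ plT V s t) :
    ∃ r' ∈ plT V s t, Commute r r' ∧
      ∀ a ∈ im (V := V) (s * t), (r • a = a ↔ a ∈ im (V := V) r') := by
  obtain ⟨b, hb⟩ := P.set.exists_moved hr.1.1
  have hw := dl_mem_im r b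
  have hw0 : r • b - b ≠ 0 := sub_ne_zero.2 hb
  obtain ⟨r', hr', hfix⟩ := P.exists_fix (P.odd_im_le_X hp hr hw)
  have hcom : Commute r' r := P.set.commute_of_pm hr.1 hw hw0 (.inl hfix)
  have hne : r ≠ r' := by
    rintro rfl
    rw [P.set.smul_im hr.1 hw] at hfix
    exact hw0 (P.set.double_ne hp (neg_eq_iff_add_eq_zero.1 hfix))
  have hle : ∀ a ∈ im (V := V) r', a ∈ fx (V := V) r ⊓ im (s * t) := fun a ha =>
    ⟨mem_fx.2 (P.set.im_le_fx hr'.1 hr.1 hcom.symm hne ha), P.odd_im_le_X hp hr' ha⟩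
  have heq : im (V := V) r' = fx (V := V) r ⊓ im (s * t) :=
    AddSubgroup.eq_of_le_of_card_ge hle (by rw [P.card_L hr, P.card_im hr'])
  refine ⟨r', hr', hcom.symm, fun a ha => ?_⟩
  rw [heq, AddSubgroup.mem_inf, mem_fx]
  exact (and_iff_left ha).symm

theorem Pair.odd_cover (hp : p ≠ 2) {x : V} (hx : x ∈ im (V := V) (s * t)) :
    ∃ r ∈ plT V s t, x ∈ im (V := V) r := by
  obtain ⟨r, hr, hrx⟩ := P.exists_fix hx
  obtain ⟨r', hr', -, h⟩ := P.odd_companion hp hr
  exact ⟨r', hr', (h x hx).1 hrx⟩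

theorem Pair.odd_stab (hp : p ≠ 2) {x : V} (hx : x ∈ im (V := V) (s * t)) (hx0 : x ≠ 0) {r : H}
    (hr : r ∈ plT V s t) (hrx : r • x = x) {g : H} (hg : g ∈ plK V s t) (hgx : g • x = x) :
    g = 1 ∨ g = r := by
  have h1 : g * r * g⁻¹ = r := P.eq_of_common (P.conj_mem_plT hr hg) hr hx hx0
    (by rw [mul_smul, mul_smul, inv_smul_eq_iff.2 hgx.symm, hrx, hgx]) hrx
  obtain ⟨r', hr', -, hiff⟩ := P.odd_companion hp hr
  have hx' := (hiff x hx).1 hrx
  have hcom' : Commute g r' := P.set.commute_of_pm hr'.1 hx' hx0 (.inl hgx)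
  have hle : fx (V := V) r ≤ fx g := by
    intro a ha
    obtain ⟨l, hl, hy⟩ := P.fx_decomp hr ha
    have h2 := mem_plK.1 hg _ hy
    rw [smul_sub, P.set.im_uniform hr'.1 hcom' hx' hx0 hgx
      ((hiff l hl.2).1 (mem_fx.1 hl.1))] at h2
    exact mem_fx.2 (sub_left_inj.1 h2)
  by_cases hg1 : g = 1
  · exact .inl hg1
  refine .inr (P.eq_of_fx_eq ⟨⟨hg1, fun k hk hgk => ?_⟩, hg⟩ hr ?_)
  · exact (hr.1.2 k hk (hle.trans hgk)).trans hle
  · exact le_antisymm (hr.1.2 g hg1 hle) hle

theorem Pair.odd_smul_mem_X (hp : p ≠ 2) {g : H} (hg : g ∈ plK V s t) {x : V}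
    (hx : x ∈ im (V := V) (s * t)) : g • x ∈ im (V := V) (s * t) := by
  obtain ⟨r, hr, hxr⟩ := P.odd_cover hp hx
  exact P.odd_im_le_X hp (P.conj_mem_plT hr hg) (smul_mem_im_conj hxr)

theorem Pair.card_union {r : H} (hr : r ∈ plT V s t) :
    Nat.card ↥(plT V s t ∪ (fun a => r * a) '' plT V s t) =
      2 * (Nat.card (im (V := V) s) + 1) := by
  rw [Nat.card_coe_set_eq, Set.ncard_union_eq ?_ (Set.toFinite _) (Set.toFinite _),
    Set.ncard_image_of_injective _ (mul_right_injective r), ← Nat.card_coe_set_eq, P.card_T,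
    two_mul]
  rw [Set.disjoint_left]
  rintro a ha ⟨b, hb, rfl⟩
  exact P.mul_notMem hr hb ha

theorem Pair.union_subset {r : H} (hr : r ∈ plT V s t) :
    plT V s t ∪ (fun a => r * a) '' plT V s t ⊆ (plK V s t : Set H) := by
  rintro a (ha | ⟨b, hb, rfl⟩)
  exacts [ha.2, mul_mem hr.2 hb.2]

theorem Pair.card_K : Nat.card (plK V s t) = 2 * (Nat.card (im (V := V) s) + 1) := by
  by_cases hp : p = 2
  · exact P.two_ncard hp
  refine le_antisymm ?_ ?_
  · obtain ⟨b, hb⟩ := P.set.exists_moved P.hs.1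
    have hxX := P.im_left_le_X (dl_mem_im s b)
    set x := s • b - b with hxd
    have hx0 : x ≠ 0 := sub_ne_zero.2 hb
    obtain ⟨r₀, hr₀, hr₀x⟩ := P.exists_fix hxX
    have hsub : (plK V s t : Set H) ⊆ plT V s t ∪ (fun a => a * r₀) '' plT V s t := by
      intro g hg
      by_cases hgx : g • x = x
      · rcases P.odd_stab hp hxX hx0 hr₀ hr₀x hg hgx with h | h
        · exact .inr ⟨r₀, hr₀, by rw [h]; exact P.set.mul_self hr₀.1⟩
        · exact .inl (h ▸ hr₀)
      have hgX := sub_mem (P.odd_smul_mem_X hp hg hxX) hxX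
      obtain ⟨u, hu, hvu⟩ := P.odd_cover hp hgX
      have hux : u • x = g • x :=
        (P.set.coset hu.1 hvu (sub_ne_zero.2 hgx) (a := x) (h := g) (by abel)).trans (by abel)
      rcases P.odd_stab hp hxX hx0 hr₀ hr₀x (mul_mem (inv_mem hu.2) hg)
        (by rw [mul_smul, ← hux, inv_smul_smul]) with h | h
      · exact .inl (inv_mul_eq_one.1 h ▸ hu)
      · exact .inr ⟨u, hu, ((inv_mul_eq_iff_eq_mul.1 h)).symm⟩
    calc Nat.card (plK V s t)
        ≤ (plT V s t ∪ (fun a => a * r₀) '' plT V s t).ncard := by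
          rw [← SetLike.coe_sort_coe, Nat.card_coe_set_eq]
          exact Set.ncard_le_ncard hsub (Set.toFinite _)
      _ ≤ (plT V s t).ncard + (plT V s t).ncard := (Set.ncard_union_le _ _).trans
          (Nat.add_le_add_left (Set.ncard_image_le (Set.toFinite _)) _)
      _ = _ := by rw [← Nat.card_coe_set_eq, P.card_T, two_mul]
  · rw [← P.card_union P.left_mem_plT, ← SetLike.coe_sort_coe (plK V s t), Nat.card_coe_set_eq,
      Nat.card_coe_set_eq]
    exact Set.ncard_le_ncard (P.union_subset P.left_mem_plT) (Set.toFinite _)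

/-- Left multiplication by a reflection sends the other elements of the plane group to
reflections. -/
theorem Pair.mul_mem_plT {r g : H} (hr : r ∈ plT V s t) (hg : g ∈ plK V s t)
    (hgT : g ∉ plT V s t) : r * g ∈ plT V s t := by
  have heq : plT V s t ∪ (fun a => r * a) '' plT V s t = (plK V s t : Set H) :=
    Set.eq_of_subset_of_ncard_le (P.union_subset hr) (by
      rw [← Nat.card_coe_set_eq, ← Nat.card_coe_set_eq, P.card_union hr, SetLike.coe_sort_coe,
        P.card_K]) (Set.toFinite _)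
  rcases (heq.symm ▸ hg : g ∈ plT V s t ∪ (fun a => r * a) '' plT V s t) with h | ⟨a, ha, rfl⟩
  · exact absurd h hgT
  · rw [← mul_assoc, P.set.mul_self hr.1, one_mul]; exact ha

theorem Pair.invert {r g : H} (hr : r ∈ plT V s t) (hg : g ∈ plK V s t) (hgT : g ∉ plT V s t) :
    r * g * r⁻¹ = g⁻¹ := by
  rw [P.set.inv_eq hr.1]
  apply eq_inv_of_mul_eq_one_left
  rw [mul_assoc]
  exact P.set.mul_self (P.mul_mem_plT hr hg hgT).1

theorem Pair.im_le_X {r : H} (hr : r ∈ plT V s t) {w : V} (hw : w ∈ im (V := V) r) :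
    w ∈ im (V := V) (s * t) :=
  P.im_le_X_of hr.2 (P.invert hr (mul_mem P.left_mem_plK P.right_mem_plK)
    (P.mul_notMem P.left_mem_plT P.right_mem_plT)) hw

/-- Every reflection has a companion whose commutator space is its fixed line in `X`. -/
theorem Pair.companion {r : H} (hr : r ∈ plT V s t) :
    ∃ r' ∈ plT V s t, Commute r r' ∧
      ∀ a ∈ im (V := V) (s * t), (r • a = a ↔ a ∈ im (V := V) r') := by
  by_cases hp : p = 2
  · refine ⟨r, hr, Commute.refl r, fun a ha => ⟨fun h => ?_, fun h => ?_⟩⟩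
    · obtain ⟨w, hw, hy⟩ := P.two_fx_decomp hp hr (mem_fx.2 h)
      rwa [sub_eq_zero.1 (P.XY_bot (sub_mem ha (P.im_le_X hr hw)) hy)]
    · rw [P.set.smul_im hr.1 h, P.set.neg_eq_self hp]
  · exact P.odd_companion hp hr

theorem Pair.cover {x : V} (hx : x ∈ im (V := V) (s * t)) :
    ∃ r ∈ plT V s t, x ∈ im (V := V) r := by
  obtain ⟨r, hr, hrx⟩ := P.exists_fix hx
  obtain ⟨r', hr', -, h⟩ := P.companion hr
  exact ⟨r', hr', (h x hx).1 hrx⟩

theorem Pair.stab {x : V} (hx : x ∈ im (V := V) (s * t)) (hx0 : x ≠ 0) {r : H}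
    (hr : r ∈ plT V s t) (hrx : r • x = x) {g : H} (hg : g ∈ plK V s t) (hgx : g • x = x) :
    g = 1 ∨ g = r := by
  by_cases hp : p = 2
  · refine P.two_centralizer hp hr hg ?_
    have h1 : g * r * g⁻¹ = r := P.eq_of_common (P.conj_mem_plT hr hg) hr hx hx0
      (by rw [mul_smul, mul_smul, inv_smul_eq_iff.2 hgx.symm, hrx, hgx]) hrx
    exact mul_inv_eq_iff_eq_mul.1 h1
  · exact P.odd_stab hp hx hx0 hr hrx hg hgx

theorem Pair.plK_smul_mem_X {g : H} (hg : g ∈ plK V s t) {x : V}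
    (hx : x ∈ im (V := V) (s * t)) : g • x ∈ im (V := V) (s * t) := by
  obtain ⟨r, hr, hxr⟩ := P.cover hx
  exact P.im_le_X (P.conj_mem_plT hr hg) (smul_mem_im_conj hxr)

/-- An element stabilising `X` acts on it like an element of the plane group. -/
theorem Pair.restrict {g : H} (hg : ∀ x ∈ im (V := V) (s * t), g • x ∈ im (V := V) (s * t)) :
    ∃ e ∈ plK V s t, ∀ x ∈ im (V := V) (s * t), g • x = e • x := by
  obtain ⟨b, hb⟩ := P.set.exists_moved P.hs.1
  have hw := dl_mem_im s b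
  set w := s • b - b with hwd
  have hw0 : w ≠ 0 := sub_ne_zero.2 hb
  have hwX := P.im_left_le_X hw
  -- multiply by an element of the plane group so that `w` becomes fixed
  obtain ⟨u, hu, huw⟩ : ∃ u ∈ plK V s t, (u * g) • w = w := by
    by_cases h : g • w = w
    · exact ⟨1, one_mem _, by rw [one_mul, h]⟩
    obtain ⟨r, hr, hvr⟩ := P.cover (sub_mem (hg w hwX) hwX)
    have h1 := P.set.coset hr.1 hvr (sub_ne_zero.2 h) (a := w) (h := g) (by abel)
    refine ⟨r, hr.2, ?_⟩
    rw [add_sub_cancel] at h1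
    rw [mul_smul, ← h1, P.set.smul_smul_self hr.1]
  set g₁ := u * g with hg₁
  have hg₁X : ∀ x ∈ im (V := V) (s * t), g₁ • x ∈ im (V := V) (s * t) := fun x hx => by
    rw [hg₁, mul_smul]; exact P.plK_smul_mem_X hu (hg x hx)
  have hcom : Commute g₁ s := P.set.commute_of_pm P.hs hw hw0 (.inl huw)
  obtain ⟨s', hs', -, hiff⟩ := P.companion P.left_mem_plT
  have key : ∀ y ∈ im (V := V) (s * t), g₁ • y = y ∨ g₁ • y = s' • y := by
    intro y hy
    by_cases h0 : g₁ • y = y
    · exact .inl h0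
    refine .inr ?_
    have hδ : s • (g₁ • y - y) = g₁ • y - y := by
      have h1 : g₁ • (s • y - y) = s • y - y :=
        P.set.im_uniform P.hs hcom hw hw0 huw (dl_mem_im s y)
      rw [smul_sub, ← mul_smul g₁ s, hcom.eq, mul_smul, sub_eq_sub_iff_sub_eq_sub] at h1
      rw [smul_sub]
      exact h1
    have h2 := P.set.coset hs'.1 ((hiff _ (sub_mem (hg₁X y hy) hy)).1 hδ) (sub_ne_zero.2 h0)
      (a := y) (h := g₁) (by abel)
    rw [h2]; abel
  have hall : (∀ y ∈ im (V := V) (s * t), g₁ • y = y) ∨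
      (∀ y ∈ im (V := V) (s * t), g₁ • y = s' • y) := by
    by_contra hc
    push Not at hc
    obtain ⟨⟨y, hy, hy'⟩, z, hz, hz'⟩ := hc
    rcases key _ (add_mem hy hz) with h | h
    · rw [smul_add, ((key z hz).resolve_right hz')] at h
      exact hy' (add_right_cancel h)
    · rw [smul_add, smul_add, (key y hy).resolve_left hy'] at h
      exact hz' (add_left_cancel h)
  rcases hall with h | h
  · refine ⟨u⁻¹, inv_mem hu, fun x hx => ?_⟩
    rw [eq_inv_smul_iff, ← mul_smul, ← hg₁, h x hx]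
  · refine ⟨u⁻¹ * s', mul_mem (inv_mem hu) hs'.2, fun x hx => ?_⟩
    rw [mul_smul, eq_inv_smul_iff, ← mul_smul, ← hg₁, h x hx]

end Cfsg.Agent.BinaryAffine
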