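/-
Binary affine primitive groups, part 5: consequences of irreducibility.

If two reflections do not commute then every reflection has a non-commuting partner, so all
commutator spaces have the same order and a reflection is determined by its fixed space.
-/
import Cfsg.Agent.Lib.BinaryAffine.Plane

namespace Cfsg.Agent.BinaryAffine

open AddSubgroup

set_option linter.unusedSectionVars false

universe u v

variable {H : Type u} [Group H] {V : Type v} [AddCommGroup V] [DistribMulAction H V]
variable [Finite H] [Finite V] {p : ℕ}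

theorem Setting.closure_eq_top (S : Setting p H V) {C : Set H}
    (hC : ∀ g : H, ∀ a ∈ C, g * a * g⁻¹ ∈ C) {a : H} (ha : a ∈ C) (ha1 : a ≠ 1) :
    AddSubgroup.closure {w : V | ∃ a ∈ C, w ∈ im (V := V) a} = ⊤ := by
  set M := AddSubgroup.closure {w : V | ∃ a ∈ C, w ∈ im (V := V) a} with hM
  rcases S.irr M (fun g w hw => by
    induction hw using AddSubgroup.closure_induction with
    | mem x hx =>
      obtain ⟨b, hb, hxb⟩ := hx
      exact AddSubgroup.subset_closure ⟨_, hC g b hb, smul_mem_im_conj hxb⟩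
    | zero => rw [smul_zero]; exact zero_mem _
    | add x y _ _ hx hy => rw [smul_add]; exact add_mem hx hy
    | neg x _ hx => rw [smul_neg]; exact neg_mem hx) with h | h
  · obtain ⟨b, hb⟩ := S.exists_moved ha1
    have : a • b - b ∈ M := AddSubgroup.subset_closure ⟨a, ha, dl_mem_im a b⟩
    rw [h, AddSubgroup.mem_bot, sub_eq_zero] at this
    exact absurd this hb
  · exact h

/-- Only the identity fixes the commutator spaces of a non-empty invariant set of elements. -/
theorem Setting.eq_one_of_fixes_all (S : Setting p H V) {C : Set H}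
    (hC : ∀ g : H, ∀ a ∈ C, g * a * g⁻¹ ∈ C) {a : H} (ha : a ∈ C) (ha1 : a ≠ 1) {z : H}
    (hz : ∀ b ∈ C, ∀ w ∈ im (V := V) b, z • w = w) : z = 1 := by
  refine S.eq_one_of_fx fun w => ?_
  have h : AddSubgroup.closure {w : V | ∃ a ∈ C, w ∈ im (V := V) a} ≤ fx (V := V) z := by
    rw [AddSubgroup.closure_le]
    rintro x ⟨b, hb, hxb⟩
    exact mem_fx.2 (hz b hb x hxb)
  rw [S.closure_eq_top hC ha ha1] at h
  exact h (AddSubgroup.mem_top w)

variable {s t : H} (P : Pair p s t V)
include P

theorem Pair.exists_neighbour {z : H} (hz : Rfl' V z) :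
    ∃ a : H, Rfl' V a ∧ ¬Commute z a ∧ Nat.card (im (V := V) a) = Nat.card (im (V := V) s) := by
  set d := Nat.card (im (V := V) s) with hd
  let C : Set H := {a | Rfl' V a ∧ (∃ b, Rfl' V b ∧ ¬Commute a b) ∧ Nat.card (im (V := V) a) = d}
  have hC : ∀ g : H, ∀ a ∈ C, g * a * g⁻¹ ∈ C := by
    rintro g a ⟨ha, ⟨b, hb, hab⟩, hcard⟩
    have hab' : ¬Commute (g * a * g⁻¹) (g * b * g⁻¹) := fun h => hab (by
      rw [Commute, SemiconjBy, conj_mul, conj_mul] at h
      exact mul_left_cancel (mul_right_cancel h))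
    refine ⟨ha.conj g, ⟨_, hb.conj g, hab'⟩, ?_⟩
    rw [← hcard]
    refine (Nat.card_congr (Equiv.ofBijective (fun w : im (V := V) a =>
      (⟨g • (w : V), smul_mem_im_conj w.2⟩ : im (V := V) (g * a * g⁻¹))) ⟨?_, ?_⟩)).symm
    · intro x y h
      exact Subtype.ext (smul_left_cancel g (congrArg Subtype.val h))
    · rintro ⟨w, hw⟩
      refine ⟨⟨g⁻¹ • w, ?_⟩, Subtype.ext (smul_inv_smul g w)⟩
      have h := smul_mem_im_conj (g := g⁻¹) hw
      simpa [mul_assoc] using h
  have hsC : s ∈ C := ⟨P.hs, ⟨t, P.ht, P.ne⟩, rfl⟩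
  by_cases hzC : z ∈ C
  · obtain ⟨-, ⟨b, hb, hzb⟩, hcard⟩ := hzC
    exact ⟨b, hb, hzb, by rw [← P.set.card_im_eq hz hb fun h => hzb h.symm, hcard]⟩
  by_contra hc
  push Not at hc
  refine hz.1 (P.set.eq_one_of_fixes_all hC hsC P.hs.1 fun b hb w hw => ?_)
  refine P.set.im_le_fx hb.1 hz ?_ (fun h => hzC (h ▸ hb)) hw
  by_contra hn
  exact hc b hb.1 hn hb.2.2

theorem Pair.card_im_uniform {z : H} (hz : Rfl' V z) :
    Nat.card (im (V := V) z) = Nat.card (im (V := V) s) := by
  obtain ⟨a, ha, hza, hcard⟩ := P.exists_neighbour hz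
  rw [P.set.card_im_eq hz ha fun h => hza h.symm, hcard]

theorem Pair.card_fx {z : H} (hz : Rfl' V z) :
    Nat.card (fx (V := V) z) * Nat.card (im (V := V) s) = Nat.card V := by
  rw [← P.card_im_uniform hz, card_fx_mul_im]

theorem Pair.eq_of_fx_eq_global {a b : H} (ha : Rfl' V a) (hb : Rfl' V b)
    (he : fx (V := V) a = fx b) : a = b := by
  obtain ⟨c, hc, hac, -⟩ := P.exists_neighbour ha
  have Q : Pair p a c V := ⟨P.set, ha, hc, hac⟩
  refine Q.eq_of_fx_eq Q.left_mem_plT ⟨hb, mem_plK.2 fun v hv => ?_⟩ he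
  exact mem_fx.1 (he ▸ mem_fx.2 (Q.fx_iff.1 hv).1)

/-- A reflection not commuting with a reflection of the plane commutes with one of them. -/
theorem Pair.exists_commuting {r b : H} (hr : Rfl' V r) (hb : b ∈ plT V s t)
    (hrb : ¬Commute r b) : ∃ u ∈ plT V s t, Commute r u := by
  let X := im (V := V) (s * t)
  let f : X → im (V := V) r := fun x => ⟨r • (x : V) - x, dl_mem_im r _⟩
  have hcard : Nat.card (im (V := V) r) < Nat.card X := by
    rw [← P.set.card_im_eq hb.1 hr hrb |>.trans rfl, P.card_im hb, P.card_X]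
    exact lt_mul_of_one_lt_left Nat.card_pos (P.set.one_lt_card_im P.hs)
  have hf : ¬Function.Injective f := fun hinj =>
    absurd (Nat.card_le_card_of_injective f hinj) hcard.not_ge
  simp only [Function.Injective, not_forall] at hf
  obtain ⟨x, y, hxy, hne⟩ := hf
  have hz : r • ((x : V) - y) = x - y := by
    have h := congrArg Subtype.val hxy
    simp only [f] at h
    rw [smul_sub]
    exact sub_eq_sub_iff_sub_eq_sub.1 h
  obtain ⟨u, hu, hzu⟩ := P.cover (sub_mem x.2 y.2)
  exact ⟨u, hu, P.set.commute_of_pm hu.1 hzu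
    (sub_ne_zero.2 fun h => hne (Subtype.ext h)) (.inl hz)⟩

end Cfsg.Agent.BinaryAffine
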