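/-
Binary affine primitive groups, part 11: the field of a plane.

When `V` is a plane, the elements outside the reflections form an abelian group acting irreducibly,
its commutant is a field `E`, and conjugation by a reflection is the automorphism over a subfield `F`
of index two.
-/
import Cfsg.Agent.Lib.BinaryAffine.Dichotomy

namespace Cfsg.Agent.BinaryAffine

open AddSubgroup

set_option linter.unusedSectionVars false

universe u v

variable {H : Type u} [Group H] {V : Type v} [AddCommGroup V] [DistribMulAction H V]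
variable [Finite H] [Finite V] {p : ℕ}

/-- If `q + 1` divides `m - 1` for a divisor `m` of `q * q`, both powers of `p`, then
`m = q * q`. -/
theorem eq_sq_of_dvd {p q m : ℕ} (hp : p.Prime) {k : ℕ} (hq : q = p ^ k) (hm : m ∣ q * q)
    (h1 : 1 < m) (hd : q + 1 ∣ m - 1) : m = q * q := by
  have hqq : q * q = p ^ (k + k) := by rw [hq, pow_add]
  obtain ⟨j, hj, rfl⟩ := (Nat.dvd_prime_pow hp).1 (hqq ▸ hm)
  rw [hqq]
  by_cases hjk : j ≤ k
  · have h2 := Nat.le_of_dvd (by omega) hd
    have h3 := Nat.pow_le_pow_right hp.pos hjk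
    rw [← hq] at h3
    omega
  obtain ⟨i, rfl⟩ := Nat.exists_eq_add_of_le (Nat.le_of_not_le hjk)
  have h4 : q + 1 ∣ p ^ i + 1 := by
    have h5 : (q + 1) * p ^ i = (p ^ (k + i) - 1) + (p ^ i + 1) := by
      rw [add_mul, one_mul, hq, ← pow_add]; omega
    exact (Nat.dvd_add_right hd).1 (h5 ▸ dvd_mul_right _ _)
  have h6 := Nat.le_of_dvd (Nat.succ_pos _) h4
  have h7 : k ≤ i := (Nat.pow_le_pow_iff_right hp.one_lt).1 (by rw [← hq]; omega)
  congr 1
  omega

theorem Setting.card_eq_pow (S : Setting p H V) (M : AddSubgroup V) :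
    ∃ k, Nat.card M = p ^ k := by
  have := Fact.mk S.prime
  refine (IsPGroup.iff_card (p := p) (G := Multiplicative M)).1 fun a => ⟨1, ?_⟩
  rw [pow_one]
  exact Multiplicative.toAdd.injective (Subtype.ext (S.char (a.toAdd : V)))

variable {s t : H} (P : Pair p s t V)
include P

theorem Pair.plK_top (htop : im (V := V) (s * t) = ⊤) (g : H) : g ∈ plK V s t :=
  mem_plK.2 fun a ha => by rw [P.XY_bot (htop ▸ AddSubgroup.mem_top a) ha, smul_zero]

theorem Pair.card_V (htop : im (V := V) (s * t) = ⊤) :
    Nat.card V = Nat.card (im (V := V) s) * Nat.card (im (V := V) s) := by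
  rw [← P.card_X, htop, AddSubgroup.card_top]

theorem Pair.one_notMem : (1 : H) ∉ plT V s t := fun h => h.1.1 rfl

theorem Pair.mul_notMem' (htop : im (V := V) (s * t) = ⊤) {g g' : H} (hg : g ∉ plT V s t)
    (hg' : g' ∉ plT V s t) : g * g' ∉ plT V s t := by
  intro h
  refine hg' ?_
  have h7 := P.invert h (P.plK_top htop g) hg
  rw [mul_inv_eq_iff_eq_mul] at h7
  rw [← inv_mul_cancel_left g g', ← h7]
  exact P.mul_mem_plT h (P.plK_top htop g) hg

/-- The rotation group. -/
def Pair.rot (htop : im (V := V) (s * t) = ⊤) : Subgroup H where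
  carrier := {g | g ∉ plT V s t}
  mul_mem' := P.mul_notMem' htop
  one_mem' := P.one_notMem
  inv_mem' := fun {g} hg hi => hg (by
    have := P.set.inv_eq hi.1
    rw [inv_inv] at this
    exact this ▸ hi)

variable (htop : im (V := V) (s * t) = ⊤)

theorem Pair.rot_comm {g g' : H} (hg : g ∈ P.rot htop) (hg' : g' ∈ P.rot htop) :
    g * g' = g' * g := by
  have hs := P.left_mem_plT
  have h1 := P.invert hs (P.plK_top htop (g * g')) (mul_mem hg hg' : g * g' ∈ P.rot htop)
  have h2 := P.invert hs (P.plK_top htop g) hg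
  have h3 := P.invert hs (P.plK_top htop g') hg'
  rw [← conj_mul, h2, h3, mul_inv_rev] at h1
  have h4 := congrArg (fun x => x⁻¹) h1
  simpa [mul_inv_rev] using h4.symm

theorem Pair.card_rot :
    Nat.card (P.rot htop) = Nat.card (im (V := V) s) + 1 := by
  have h1 := P.card_K
  have h2 : plK V s t = ⊤ := eq_top_iff.2 fun g _ => P.plK_top htop g
  rw [h2, Subgroup.card_top] at h1
  have h3 := Set.ncard_add_ncard_compl (plT V s t)
  have h4 : Nat.card (P.rot htop) = (plT V s t)ᶜ.ncard := Nat.card_coe_set_eq _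
  have h5 := P.card_T
  rw [Nat.card_coe_set_eq] at h5
  omega

theorem Pair.rot_free {g : H} (hg : g ∈ P.rot htop) {x : V} (hx : x ≠ 0) (hfix : g • x = x) :
    g = 1 := by
  obtain ⟨r, hr, hrx⟩ := P.exists_fix (htop ▸ AddSubgroup.mem_top x : x ∈ im (V := V) (s * t))
  exact (P.stab (htop ▸ AddSubgroup.mem_top x) hx hr hrx (P.plK_top htop g) hfix).resolve_right
    fun h => hg (h ▸ hr)

theorem Pair.rot_irred (M : AddSubgroup V) (hM : ∀ g ∈ P.rot htop, ∀ a ∈ M, g • a ∈ M) :
    M = ⊥ ∨ M = ⊤ := by
  by_cases hM0 : M = ⊥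
  · exact .inl hM0
  refine .inr (AddSubgroup.eq_top_of_card_eq M ?_)
  let M₀ : SubMulAction (P.rot htop) V :=
    { carrier := {a | a ∈ M ∧ a ≠ 0}
      smul_mem' := fun g a ha => ⟨hM g g.2 a ha.1, fun h => ha.2
        ((smul_eq_zero_iff_eq (g : H)).1 h)⟩ }
  have hfree : ∀ a : M₀, MulAction.stabilizer (P.rot htop) a = ⊥ := by
    intro a
    rw [Subgroup.eq_bot_iff_forall]
    intro g hg
    exact Subtype.ext (P.rot_free htop g.2 a.2.2 (congrArg Subtype.val
      (MulAction.mem_stabilizer_iff.1 hg)))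
  have h1 := Nat.card_congr (MulAction.selfEquivOrbitsQuotientProd hfree)
  rw [Nat.card_prod, P.card_rot htop] at h1
  have h2 : Nat.card M₀ = Nat.card M - 1 := by
    rw [← card_subtype_ne_zero (A := M)]
    exact Nat.card_congr
      { toFun := fun a => ⟨⟨(a : V), a.2.1⟩, fun h => a.2.2 (congrArg Subtype.val h)⟩
        invFun := fun a => ⟨(a.1 : V), a.1.2, fun h => a.2 (Subtype.ext h)⟩
        left_inv := fun a => rfl
        right_inv := fun a => rfl }
  obtain ⟨k, hk⟩ := P.set.card_eq_pow (im (V := V) s)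
  rw [P.card_V htop]
  refine eq_sq_of_dvd P.set.prime hk ?_ ?_ ?_
  · rw [← P.card_V htop]; exact AddSubgroup.card_addSubgroup_dvd_card M
  · rw [AddSubgroup.one_lt_card_iff_ne_bot]; exact hM0
  · rw [← h2, h1]; exact dvd_mul_left _ _

/-- The endomorphisms commuting with the rotation group. -/
def Pair.comRing : Subring (AddMonoid.End V) :=
  Subring.centralizer
    ((fun g : H => (DistribMulAction.toAddMonoidEnd H V g : AddMonoid.End V)) '' P.rot htop)

theorem Pair.mem_comRing {f : AddMonoid.End V} :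
    f ∈ P.comRing htop ↔ ∀ g ∈ P.rot htop, ∀ a : V, g • f a = f (g • a) := by
  rw [Pair.comRing, Subring.mem_centralizer_iff]
  constructor
  · intro h g hg a
    exact DFunLike.congr_fun (h _ ⟨g, hg, rfl⟩) a
  · rintro h _ ⟨g, hg, rfl⟩
    exact DFunLike.ext _ _ (h g hg)

include htop in
/-- The field model of a plane. -/
theorem Pair.model :
    ∃ (F E : Type v) (_ : Field F) (_ : Fintype F) (_ : Field E) (_ : Fintype E) (_ : Algebra F E)
      (e : V ≃+ E), Module.finrank F E = 2 ∧
      (∀ h : H, ∃ (a : E) (φ : E ≃ₐ[F] E), Algebra.norm F a = 1 ∧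
        ∀ x : V, e (h • x) = a * φ (e x)) ∧
      ∀ (a : E) (φ : E ≃ₐ[F] E), Algebra.norm F a = 1 →
        ∃ h : H, ∀ x : V, e (h • x) = a * φ (e x) := by
  classical
  obtain ⟨b, hb⟩ := P.set.exists_moved P.hs.1
  have hw0 : s • b - b ≠ 0 := sub_ne_zero.2 hb
  have hX : ∀ x : V, x ∈ im (V := V) (s * t) := fun x => htop ▸ AddSubgroup.mem_top x
  have : Nontrivial V := ⟨⟨_, 0, hw0⟩⟩
  set R := P.rot htop
  set A := P.comRing htop
  letI : Fintype R := Fintype.ofFinite R
  -- Schur
  have schur : ∀ f ∈ A, f ≠ 0 → ∀ x : V, f x = 0 → x = 0 := by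
    intro f hf hf0 x hx
    rcases P.rot_irred htop (AddMonoidHom.ker (f : V →+ V)) (fun g hg a ha => by
      have h1 := ((P.mem_comRing htop).1 hf g hg a)
      have ha' : f a = 0 := ha
      show f (g • a) = 0
      rw [← h1, ha', smul_zero]) with h | h
    · exact AddSubgroup.mem_bot.1 (h ▸ (AddMonoidHom.mem_ker.2 hx))
    · exact absurd (DFunLike.ext f 0 fun a => AddMonoidHom.mem_ker.1 (h ▸ AddSubgroup.mem_top a))
        hf0
  have : Nontrivial A := ⟨⟨1, 0, fun h => hw0 (DFunLike.congr_fun (congrArg Subtype.val h) _)⟩⟩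
  have : NoZeroDivisors A := ⟨fun {f g} hfg => by
    by_contra hc
    push Not at hc
    obtain ⟨hf, hg⟩ := hc
    refine hg (Subtype.ext (DFunLike.ext _ _ fun x => ?_))
    exact schur f f.2 (fun h => hf (Subtype.ext h)) _ (DFunLike.congr_fun (congrArg Subtype.val hfg) x)⟩
  have : IsDomain A := NoZeroDivisors.to_isDomain A
  have : Finite (AddMonoid.End V) := Finite.of_injective (fun f => (f : V → V)) DFunLike.coe_injective
  have hF := Finite.isDomain_to_isField A
  letI : Field A := hF.toField
  letI : Fintype A := Fintype.ofFinite A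
  -- rotations as scalars
  have hρmem : ∀ g ∈ R, (DistribMulAction.toAddMonoidEnd H V g : AddMonoid.End V) ∈ A := by
    intro g hg
    rw [P.mem_comRing htop]
    intro k hk a
    show k • g • a = g • k • a
    rw [← mul_smul, P.rot_comm htop hk hg, mul_smul]
  let ρ : R →* A :=
    { toFun := fun g => ⟨DistribMulAction.toAddMonoidEnd H V (g : H), hρmem _ g.2⟩
      map_one' := Subtype.ext (map_one _)
      map_mul' := fun g k => Subtype.ext (map_mul _ _ _) }
  have hρinj : Function.Injective ρ := fun g k h => Subtype.ext <| by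
    have h1 : ∀ a : V, (g : H) • a = (k : H) • a :=
      fun a => DFunLike.congr_fun (congrArg Subtype.val h) a
    exact (inv_mul_eq_one.1 (P.set.faith ((k : H)⁻¹ * g) fun a => by
      rw [mul_smul, h1, inv_smul_smul])).symm
  -- conjugation by the reflection
  have ht' := P.right_mem_plT
  have hAconj : ∀ f ∈ A, ((DistribMulAction.toAddMonoidEnd H V t : AddMonoid.End V) * f *
      DistribMulAction.toAddMonoidEnd H V t) ∈ A := by
    intro f hf
    rw [P.mem_comRing htop]
    intro g hg a
    show g • t • f (t • a) = t • f (t • g • a)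
    have hc : ∀ g ∈ R, ∀ z : V, g • t • z = t • g⁻¹ • z := fun g hg z => by
      have h1 := P.invert ht' (P.plK_top htop g) hg
      rw [← h1, ← mul_smul, ← mul_smul, P.set.inv_eq P.ht, ← mul_assoc, ← mul_assoc,
        P.set.mul_self P.ht, one_mul]
    rw [hc g hg, (P.mem_comRing htop).1 hf g⁻¹ (inv_mem hg), hc g⁻¹ (inv_mem hg) a, inv_inv]
  let σ : A ≃+* A :=
    { toFun := fun f => ⟨_, hAconj f f.2⟩
      invFun := fun f => ⟨_, hAconj f f.2⟩
      left_inv := fun f => Subtype.ext (DFunLike.ext _ _ fun a => by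
        show t • t • (f : AddMonoid.End V) (t • t • a) = (f : AddMonoid.End V) a
        rw [P.set.smul_smul_self P.ht, P.set.smul_smul_self P.ht])
      right_inv := fun f => Subtype.ext (DFunLike.ext _ _ fun a => by
        show t • t • (f : AddMonoid.End V) (t • t • a) = (f : AddMonoid.End V) a
        rw [P.set.smul_smul_self P.ht, P.set.smul_smul_self P.ht])
      map_mul' := fun f g => Subtype.ext (DFunLike.ext _ _ fun a => by
        show t • (f : AddMonoid.End V) ((g : AddMonoid.End V) (t • a)) =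
          t • (f : AddMonoid.End V) (t • t • (g : AddMonoid.End V) (t • a))
        rw [P.set.smul_smul_self P.ht])
      map_add' := fun f g => Subtype.ext (DFunLike.ext _ _ fun a => by
        show t • ((f : AddMonoid.End V) (t • a) + (g : AddMonoid.End V) (t • a)) =
          t • (f : AddMonoid.End V) (t • a) + t • (g : AddMonoid.End V) (t • a)
        rw [smul_add]) }
  let F : Subfield A :=
    { carrier := {f | σ f = f}
      mul_mem' := fun {f g} hf hg => (map_mul σ f g).trans (congrArg₂ (· * ·) hf hg)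
      one_mem' := map_one σ
      add_mem' := fun {f g} hf hg => (map_add σ f g).trans (congrArg₂ (· + ·) hf hg)
      zero_mem' := map_zero σ
      neg_mem' := fun {f} hf => (map_neg σ f).trans (congrArg Neg.neg hf)
      inv_mem' := fun f hf => (map_inv₀ σ f).trans (congrArg Inv.inv hf) }
  letI : Fintype F := Fintype.ofFinite F
  -- the vector fixed by `t`
  obtain ⟨t', ht1, -, hiff⟩ := P.companion ht'
  obtain ⟨c, hc⟩ := P.set.exists_moved ht1.1.1
  set v₀ := t' • c - c with hv₀
  have hv0 : v₀ ≠ 0 := sub_ne_zero.2 hc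
  have htv : t • v₀ = v₀ := (hiff _ (hX _)).2 (dl_mem_im t' c)
  let ev : A →+ V :=
    { toFun := fun f => (f : AddMonoid.End V) v₀
      map_zero' := rfl
      map_add' := fun f g => rfl }
  have hevb : Function.Bijective ev := by
    refine ⟨(injective_iff_map_eq_zero ev).2 fun f hf => ?_, fun x => ?_⟩
    · by_contra h
      exact hv0 (schur f f.2 (fun h' => h (Subtype.ext h')) v₀ hf)
    · rcases P.rot_irred htop ev.range (by
        rintro g hg _ ⟨f, rfl⟩
        exact ⟨ρ ⟨g, hg⟩ * f, rfl⟩) with h | h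
      · exact absurd (AddSubgroup.mem_bot.1 (h ▸ (⟨1, rfl⟩ : v₀ ∈ ev.range))) hv0
      · exact (h ▸ AddSubgroup.mem_top x : x ∈ ev.range)
  let ev' : A ≃+ V := AddEquiv.ofBijective ev hevb
  have hev : ∀ f : A, ev' f = (f : AddMonoid.End V) v₀ := fun f => rfl
  have htev : ∀ f : A, t • ev' f = ev' (σ f) := fun f => by
    show t • (f : AddMonoid.End V) v₀ = t • (f : AddMonoid.End V) (t • v₀)
    rw [htv]
  set q := Nat.card (im (V := V) s)
  have hcardA : Nat.card A = q * q := (Nat.card_congr ev'.toEquiv).trans (P.card_V htop)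
  have hcardF : Nat.card F = q := by
    have h1 : Nat.card F = Nat.card (fx (V := V) t) := Nat.card_congr
      (ev'.toEquiv.subtypeEquiv fun f => by
        show σ f = f ↔ t • ev' f - ev' f = 0
        rw [htev, sub_eq_zero, ev'.injective.eq_iff])
    have h2 := card_fx_mul_im (V := V) t
    rw [P.card_im ht', P.card_V htop, ← h1] at h2
    exact Nat.eq_of_mul_eq_mul_right Nat.card_pos h2
  have hq1 : 1 < q := P.set.one_lt_card_im P.hs
  have hrank : Module.finrank F A = 2 := by
    have h1 := Module.card_eq_pow_finrank (K := F) (V := A)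
    rw [← Nat.card_eq_fintype_card, ← Nat.card_eq_fintype_card, hcardA, hcardF, ← sq] at h1
    exact (Nat.pow_right_injective hq1 h1).symm
  let φt : A ≃ₐ[F] A := AlgEquiv.ofRingEquiv (f := σ) fun f => f.2
  have hφt : φt ≠ AlgEquiv.refl := by
    intro h
    refine P.ht.1 (P.set.faith t fun x => ?_)
    obtain ⟨f, rfl⟩ := ev'.surjective x
    rw [htev]
    exact congrArg ev' (AlgEquiv.congr_fun h f)
  have hnorm : ∀ a : A, algebraMap F A (Algebra.norm F a) = a ^ (q + 1) := by
    intro a
    rw [FiniteField.algebraMap_norm_eq_pow_sum, hrank, hcardF]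
    simp [Finset.sum_range_succ, add_comm]
  have hρnorm : ∀ g : R, Algebra.norm F (ρ g) = 1 := by
    intro g
    refine (algebraMap F A).injective ?_
    rw [hnorm, map_one, ← map_pow, ← P.card_rot htop, pow_card_eq_one', map_one]
  have hρsurj : ∀ a : A, Algebra.norm F a = 1 → ∃ g : R, ρ g = a := by
    intro a ha
    by_contra hc
    push Not at hc
    have hsub : insert a (Finset.univ.image ρ) ⊆ Polynomial.nthRootsFinset (q + 1) (1 : A) := by
      intro y hy
      rw [Polynomial.mem_nthRootsFinset (by omega), ← hnorm]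
      rcases Finset.mem_insert.1 hy with rfl | hy
      · rw [ha, map_one]
      · obtain ⟨g, -, rfl⟩ := Finset.mem_image.1 hy
        rw [hρnorm, map_one]
    have h1 := Finset.card_le_card hsub
    rw [Finset.card_insert_of_notMem (by simpa using hc), Finset.card_image_of_injective _ hρinj,
      Finset.card_univ, ← Nat.card_eq_fintype_card, P.card_rot htop] at h1
    have h2 : (Polynomial.nthRootsFinset (q + 1) (1 : A)).card ≤ q + 1 := by
      rw [Polynomial.nthRootsFinset_def]
      exact (Multiset.toFinset_card_le _).trans (Polynomial.card_nthRoots _ _)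
    omega
  have hρsmul : ∀ (g : R) (f : A), (g : H) • ev' f = ev' (ρ g * f) := fun g f => rfl
  have hext : ∀ (h : H) (a : A) (φ : A ≃ₐ[F] A), (∀ f : A, h • ev' f = ev' (a * φ f)) →
      ∀ x : V, ev'.symm (h • x) = a * φ (ev'.symm x) := fun h a φ hh x => by
    obtain ⟨f, rfl⟩ := ev'.surjective x
    rw [hh, ev'.symm_apply_apply, ev'.symm_apply_apply]
  refine ⟨F, A, inferInstance, inferInstance, inferInstance, inferInstance, inferInstance, ev'.symm,
    hrank, fun h => ?_, fun a φ ha => ?_⟩
  · by_cases hh : h ∈ plT V s t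
    · have hm : t * h ∉ plT V s t := P.mul_notMem ht' hh
      refine ⟨σ (ρ ⟨t * h, hm⟩), φt, ?_, hext _ _ _ fun f => ?_⟩
      · rw [← hρnorm ⟨t * h, hm⟩]
        exact Algebra.norm_eq_of_algEquiv φt _
      · show h • ev' f = ev' (σ (ρ ⟨t * h, hm⟩) * σ f)
        rw [← map_mul, ← htev, ← hρsmul, ← mul_smul]
        simp only [← mul_assoc, P.set.mul_self P.ht, one_mul]
    · exact ⟨ρ ⟨h, hh⟩, AlgEquiv.refl, hρnorm _, hext _ _ _ fun f => hρsmul ⟨h, hh⟩ f⟩
  · obtain ⟨g, rfl⟩ := hρsurj a ha
    have hall : φ = AlgEquiv.refl ∨ φ = φt := by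
      by_contra hc
      push Not at hc
      have h1 : ({AlgEquiv.refl, φt, φ} : Finset (A ≃ₐ[F] A)).card = 3 := by
        rw [Finset.card_eq_three]
        exact ⟨_, _, _, hφt.symm, hc.1.symm, hc.2.symm, rfl⟩
      have h2 := Finset.card_le_univ ({AlgEquiv.refl, φt, φ} : Finset (A ≃ₐ[F] A))
      have h3 := AlgEquiv.card_le (F := F) (K := A)
      omega
    rcases hall with rfl | rfl
    · exact ⟨g, hext _ _ _ fun f => hρsmul g f⟩
    · refine ⟨(g : H) * t, hext _ _ _ fun f => ?_⟩
      rw [mul_smul, htev, hρsmul]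
      rfl

end Cfsg.Agent.BinaryAffine
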