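/-
Binary affine primitive groups, part 7: in odd characteristic there is no configuration of rank
three.

Three pairwise non-commuting reflections outside a common plane would give `d² + d + 1` reflections
in a group each of whose classes has between `(d² + 1) / 2` and `d (d + 1) / 2` reflections.
-/
import Cfsg.Agent.Lib.BinaryAffine.Global

namespace Cfsg.Agent.BinaryAffine

open AddSubgroup

set_option linter.unusedSectionVars false

universe u v

variable {H : Type u} [Group H] {V : Type v} [AddCommGroup V] [DistribMulAction H V]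
variable [Finite H] [Finite V] {p : ℕ}

section PairLemmas

variable {s t : H} (P : Pair p s t V)
include P

theorem Pair.plane_eq {a b : H} (ha : a ∈ plT V s t) (hb : b ∈ plT V s t) (Q : Pair p a b V) :
    fx (V := V) (a * b) = fx (s * t) ∧ im (V := V) (a * b) = im (s * t) := by
  constructor
  · refine (AddSubgroup.eq_of_le_of_card_ge
      (fun x hx => Q.fx_iff.2 ⟨mem_plK.1 ha.2 x hx, mem_plK.1 hb.2 x hx⟩) ?_).symm
    have h1 := Q.card_Y
    rw [P.card_im ha, ← P.card_Y] at h1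
    exact (Nat.eq_of_mul_eq_mul_right (Nat.mul_pos Nat.card_pos Nat.card_pos) h1).le
  · refine AddSubgroup.eq_of_le_of_card_ge (fun x hx => ?_)
      (by rw [Q.card_X, P.card_X, P.card_im ha])
    obtain ⟨wa, hwa, wb, hwb, rfl⟩ := Q.im_decomp hx
    exact add_mem (P.im_le_X ha hwa) (P.im_le_X hb hwb)

theorem Pair.mem_of_im {y : H} (hy : Rfl' V y) {w : V} (hw : w ∈ im (V := V) y) (hw0 : w ≠ 0)
    (hwX : w ∈ im (V := V) (s * t)) : y ∈ plT V s t := by
  obtain ⟨r, hr, hwr⟩ := P.cover hwX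
  rwa [P.set.rfl_eq_of_mem hr.1 hy hw hwr hw0]

/-- The commutator spaces of two reflections of a plane span its commutator space. -/
theorem Pair.sum_eq {a b : H} (ha : a ∈ plT V s t) (hb : b ∈ plT V s t) (hne : a ≠ b) {x : V}
    (hx : x ∈ im (V := V) (s * t)) :
    ∃ wa ∈ im (V := V) a, ∃ wb ∈ im (V := V) b, x = wa + wb := by
  let f : im (V := V) a × im (V := V) b → im (V := V) (s * t) := fun z =>
    ⟨(z.1 : V) + z.2, add_mem (P.im_le_X ha z.1.2) (P.im_le_X hb z.2.2)⟩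
  have hf : Function.Bijective f := by
    refine Function.Injective.bijective_of_nat_card_le ?_
      (by rw [Nat.card_prod, P.card_X, P.card_im ha, P.card_im hb])
    rintro ⟨⟨w, hw⟩, ⟨u, hu⟩⟩ ⟨⟨w', hw'⟩, ⟨u', hu'⟩⟩ he
    have he' : w + u = w' + u' := congrArg Subtype.val he
    have h1 : w - w' = u' - u := by rw [sub_eq_sub_iff_add_eq_add, he', add_comm]
    have h2 : w - w' = 0 := by
      by_contra h0
      exact hne (P.set.rfl_eq_of_mem hb.1 ha.1 (sub_mem hw hw') (h1 ▸ sub_mem hu' hu) h0)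
    rw [h2, eq_comm, sub_eq_zero] at h1
    rw [sub_eq_zero] at h2
    subst h1 h2; rfl
  obtain ⟨⟨⟨wa, hwa⟩, ⟨wb, hwb⟩⟩, he⟩ := hf.2 ⟨x, hx⟩
  exact ⟨wa, hwa, wb, hwb, (congrArg Subtype.val he).symm⟩

theorem Pair.eq_of_commute_both {r c c' : H} (hr : Rfl' V r) (hc : c ∈ plT V s t)
    (hc' : c' ∈ plT V s t) (h1 : Commute r c) (h2 : Commute r c') (hrK : r ∉ plK V s t) {b : H}
    (hb : b ∈ plT V s t) (hrb : ¬Commute r b) : c = c' := by
  by_contra hne
  obtain ⟨x, hx⟩ := P.set.exists_moved hb.1.1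
  obtain ⟨wc, hwc, wc', hwc', he⟩ := P.sum_eq hc hc' hne (P.im_le_X hb (dl_mem_im b x))
  refine hrb (P.set.commute_of_pm hb.1 (dl_mem_im b x) (sub_ne_zero.2 hx) (.inl ?_))
  rw [he, smul_add, P.set.im_le_fx hc.1 hr h1 (fun h => hrK (h ▸ hc.2)) hwc,
    P.set.im_le_fx hc'.1 hr h2 (fun h => hrK (h ▸ hc'.2)) hwc']

theorem Pair.three_le (hp : p ≠ 2) : 3 ≤ Nat.card (im (V := V) s) := by
  obtain ⟨b, hb⟩ := P.set.exists_moved P.hs.1
  have := Fact.mk P.set.prime
  have h1 : addOrderOf (⟨_, dl_mem_im s b⟩ : im (V := V) s) = p :=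
    addOrderOf_eq_prime (Subtype.ext (P.set.char _))
      fun h => hb (sub_eq_zero.1 (congrArg Subtype.val h))
  have h2 := Nat.le_of_dvd Nat.card_pos (h1 ▸ _root_.addOrderOf_dvd_natCard _)
  have := P.set.prime.two_le
  omega

theorem Pair.odd_im_ne_fix (hp : p ≠ 2) {r : H} (hr : r ∈ plT V s t) {w : V}
    (hw : w ∈ im (V := V) r) (hfix : r • w = w) : w = 0 := by
  rw [P.set.smul_im hr.1 hw] at hfix
  exact P.set.double_ne hp (neg_eq_iff_add_eq_zero.1 hfix)

end PairLemmas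

/-- Three pairwise non-commuting reflections, not in a plane, in odd characteristic. -/
structure Triple (p : ℕ) (a b c : H) (V : Type v) [AddCommGroup V] [DistribMulAction H V] :
    Prop where
  pair : Pair p a b V
  odd : p ≠ 2
  hc : Rfl' V c
  hac : ¬Commute a c
  hbc : ¬Commute b c
  out : c ∉ plK V a b

variable {a b c : H} (T : Triple p a b c V)

/-- The group of a triple. -/
def triK (V : Type v) [AddCommGroup V] [DistribMulAction H V] (a b c : H) : Subgroup H :=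
  fixingSubgroup H ((fx (V := V) (a * b) ⊓ fx c : AddSubgroup V) : Set V)

theorem mem_triK {g : H} :
    g ∈ triK V a b c ↔ ∀ x ∈ fx (V := V) (a * b) ⊓ fx c, g • x = x := by
  rw [triK, mem_fixingSubgroup_iff]; rfl

/-- The reflections of a triple. -/
def triT (V : Type v) [AddCommGroup V] [DistribMulAction H V] (a b c : H) : Set H :=
  {r | Rfl' V r ∧ r ∈ triK V a b c}

/-- Summation over the group of a triple. -/
noncomputable def triAvg (V : Type v) [AddCommGroup V] [DistribMulAction H V] (a b c : H) :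
    V →+ V :=
  letI := Fintype.ofFinite (triK V a b c)
  ∑ k : triK V a b c, DistribSMul.toAddMonoidHom V (k : H)

/-- The subspace of a triple. -/
noncomputable def triZ (V : Type v) [AddCommGroup V] [DistribMulAction H V] (a b c : H) :
    AddSubgroup V :=
  (triAvg V a b c).ker

theorem triAvg_apply [Fintype (triK V a b c)] (x : V) :
    triAvg V a b c x = ∑ k : triK V a b c, (k : H) • x := by
  rw [triAvg, AddMonoidHom.finsetSum_apply]
  exact Finset.sum_congr (by ext; simp) fun _ _ => rfl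

include T

theorem Triple.mem_left : a ∈ triT V a b c :=
  ⟨T.pair.hs, mem_triK.2 fun _ hx => (T.pair.fx_iff.1 hx.1).1⟩

theorem Triple.mem_mid : b ∈ triT V a b c :=
  ⟨T.pair.ht, mem_triK.2 fun _ hx => (T.pair.fx_iff.1 hx.1).2⟩

theorem Triple.mem_right : c ∈ triT V a b c :=
  ⟨T.hc, mem_triK.2 fun _ hx => mem_fx.1 hx.2⟩

theorem Triple.im_le_Z {k : H} (hk : k ∈ triK V a b c) {x : V} (hx : x ∈ im (V := V) k) :
    x ∈ triZ V a b c := by
  let _ := Fintype.ofFinite (triK V a b c)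
  obtain ⟨y, rfl⟩ := mem_im.1 hx
  rw [triZ, AddMonoidHom.mem_ker, map_sub, sub_eq_zero, triAvg_apply, triAvg_apply]
  simp only [← mul_smul]
  exact Equiv.sum_comp (Equiv.mulRight (⟨k, hk⟩ : triK V a b c))
    fun g : triK V a b c => (g : H) • y

theorem Triple.smul_mem_Z {k : H} (hk : k ∈ triK V a b c) {x : V} (hx : x ∈ triZ V a b c) :
    k • x ∈ triZ V a b c := by
  rw [← sub_add_cancel (k • x) x]
  exact add_mem (T.im_le_Z hk (dl_mem_im k x)) hx

theorem Triple.Z_inter {x : V} (hx : x ∈ triZ V a b c)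
    (hy : x ∈ fx (V := V) (a * b) ⊓ fx c) : x = 0 := by
  let _ := Fintype.ofFinite (triK V a b c)
  rw [triZ, AddMonoidHom.mem_ker, triAvg_apply,
    Finset.sum_congr rfl (fun k _ => mem_triK.1 k.2 x hy), Finset.sum_const, Finset.card_univ,
    ← Nat.card_eq_fintype_card] at hx
  have hcop : (Nat.card (triK V a b c)).Coprime p :=
    ((T.pair.set.prime.coprime_iff_not_dvd).2 fun h => T.pair.set.not_dvd_card T.odd
      (h.trans (triK V a b c).card_subgroup_dvd_card)).symm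
  have e3 := Nat.dvd_gcd (addOrderOf_dvd_of_nsmul_eq_zero hx)
    (addOrderOf_dvd_of_nsmul_eq_zero (T.pair.set.char x))
  rwa [hcop.gcd_eq_one, Nat.dvd_one, AddMonoid.addOrderOf_eq_one_iff] at e3

theorem Triple.range_le (x : V) : triAvg V a b c x ∈ fx (V := V) (a * b) ⊓ fx c := by
  let _ := Fintype.ofFinite (triK V a b c)
  have key : ∀ g ∈ triK V a b c, g • triAvg V a b c x = triAvg V a b c x := by
    intro g hg
    rw [triAvg_apply, Finset.smul_sum]
    simp only [← mul_smul]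
    exact Equiv.sum_comp (Equiv.mulLeft (⟨g, hg⟩ : triK V a b c))
      fun k : triK V a b c => (k : H) • x
  exact ⟨T.pair.fx_iff.2 ⟨key a T.mem_left.2, key b T.mem_mid.2⟩,
    mem_fx.2 (key c T.mem_right.2)⟩

theorem Triple.decomp (x : V) :
    ∃ z ∈ triZ V a b c, x - z ∈ fx (V := V) (a * b) ⊓ fx c := by
  let f : triZ V a b c × (fx (V := V) (a * b) ⊓ fx c : AddSubgroup V) → V :=
    fun q => (q.1 : V) + q.2
  have hinj : Function.Injective f := by
    rintro ⟨⟨z, hz⟩, ⟨y, hy⟩⟩ ⟨⟨z', hz'⟩, ⟨y', hy'⟩⟩ he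
    simp only [f] at he
    have h1 : z - z' = y' - y := by rw [sub_eq_sub_iff_add_eq_add, he, add_comm]
    have h2 := T.Z_inter (sub_mem hz hz') (h1 ▸ sub_mem hy' hy)
    rw [h2, eq_comm, sub_eq_zero] at h1
    rw [sub_eq_zero] at h2
    subst h1 h2; rfl
  have hb := hinj.bijective_of_nat_card_le (by
    have h1 := AddSubgroup.card_eq_card_quotient_mul_card_addSubgroup (triAvg V a b c).ker
    rw [Nat.card_congr (QuotientAddGroup.quotientKerEquivRange (triAvg V a b c)).toEquiv] at h1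
    rw [h1, Nat.card_prod, mul_comm, triZ]
    refine Nat.mul_le_mul_left _ (AddSubgroup.card_le_of_le ?_)
    rintro _ ⟨y, rfl⟩
    exact T.range_le y)
  obtain ⟨⟨⟨z, hz⟩, ⟨y, hy⟩⟩, he⟩ := hb.2 x
  refine ⟨z, hz, ?_⟩
  rw [← he]
  simpa [f] using hy

theorem Triple.card_split :
    Nat.card (triZ V a b c) * Nat.card (fx (V := V) (a * b) ⊓ fx c : AddSubgroup V) =
      Nat.card V := by
  rw [← Nat.card_prod]
  refine Nat.card_congr (Equiv.ofBijective
    (fun q : triZ V a b c × (fx (V := V) (a * b) ⊓ fx c : AddSubgroup V) => (q.1 : V) + q.2)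
    ⟨?_, fun x => ?_⟩)
  · rintro ⟨⟨z, hz⟩, ⟨y, hy⟩⟩ ⟨⟨z', hz'⟩, ⟨y', hy'⟩⟩ he
    simp only at he
    have h1 : z - z' = y' - y := by rw [sub_eq_sub_iff_add_eq_add, he, add_comm]
    have h2 := T.Z_inter (sub_mem hz hz') (h1 ▸ sub_mem hy' hy)
    rw [h2, eq_comm, sub_eq_zero] at h1
    rw [sub_eq_zero] at h2
    subst h1 h2; rfl
  · obtain ⟨z, hz, hy⟩ := T.decomp x
    exact ⟨(⟨z, hz⟩, ⟨x - z, hy⟩), add_sub_cancel z x⟩

theorem Triple.card_im {y : H} (hy : Rfl' V y) :
    Nat.card (im (V := V) y) = Nat.card (im (V := V) a) := T.pair.card_im_uniform hy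

theorem Triple.card_Z :
    Nat.card (triZ V a b c) = Nat.card (im (V := V) a) * Nat.card (im (V := V) a) *
      Nat.card (im (V := V) a) ∧
    ∀ x ∈ triZ V a b c, ∃ wa ∈ im (V := V) a, ∃ wb ∈ im (V := V) b, ∃ wc ∈ im (V := V) c,
      x = wa + wb + wc := by
  set d := Nat.card (im (V := V) a) with hd
  let f : im (V := V) a × im (V := V) b × im (V := V) c → triZ V a b c := fun q =>
    ⟨(q.1 : V) + q.2.1 + q.2.2, add_mem (add_mem (T.im_le_Z T.mem_left.2 q.1.2)
      (T.im_le_Z T.mem_mid.2 q.2.1.2)) (T.im_le_Z T.mem_right.2 q.2.2.2)⟩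
  have hinj : Function.Injective f := by
    rintro ⟨⟨u, hu⟩, ⟨v, hv⟩, ⟨w, hw⟩⟩ ⟨⟨u', hu'⟩, ⟨v', hv'⟩, ⟨w', hw'⟩⟩ he
    have he' : u + v + w = u' + v' + w' := congrArg Subtype.val he
    have h1 : w - w' = (u' - u) + (v' - v) := by
      calc w - w' = (u + v + w) - (u + v + w') := by abel
        _ = (u' + v' + w') - (u + v + w') := by rw [he']
        _ = _ := by abel
    have h2 : w - w' = 0 := by
      by_contra h0
      refine T.out (T.pair.mem_of_im T.hc (sub_mem hw hw') h0 ?_).2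
      rw [h1]
      exact add_mem (T.pair.im_left_le_X (sub_mem hu' hu)) (T.pair.im_right_le_X (sub_mem hv' hv))
    rw [h2, eq_comm, add_eq_zero_iff_eq_neg, neg_sub] at h1
    have h3 := T.pair.im_inter (sub_mem hu' hu) (h1 ▸ sub_mem hv hv')
    rw [h3, eq_comm, sub_eq_zero] at h1
    rw [sub_eq_zero] at h2 h3
    subst h1 h2 h3; rfl
  have hcard : Nat.card (im (V := V) a × im (V := V) b × im (V := V) c) = d * d * d := by
    rw [Nat.card_prod, Nat.card_prod, T.pair.card_im_right, T.card_im T.hc, mul_assoc]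
  have hup : Nat.card (triZ V a b c) ≤ d * d * d := by
    let φ : fx (V := V) (a * b) →+ V := (dl c).comp (fx (V := V) (a * b)).subtype
    have h1 := AddSubgroup.card_eq_card_quotient_mul_card_addSubgroup φ.ker
    rw [Nat.card_congr (QuotientAddGroup.quotientKerEquivRange φ).toEquiv] at h1
    have h2 : Nat.card φ.range ≤ d := by
      rw [hd, ← T.card_im T.hc]
      refine AddSubgroup.card_le_of_le ?_
      rintro _ ⟨y, rfl⟩
      exact dl_mem_im c _
    have h3 : Nat.card φ.ker ≤ Nat.card (fx (V := V) (a * b) ⊓ fx c : AddSubgroup V) :=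
      Nat.card_le_card_of_injective
        (fun y : φ.ker => (⟨(y : fx (V := V) (a * b)), (y : fx (V := V) (a * b)).2, y.2⟩ :
          (fx (V := V) (a * b) ⊓ fx c : AddSubgroup V)))
        fun y y' h => Subtype.ext (Subtype.ext (congrArg Subtype.val h :))
    have h4 := T.card_split
    have h5 := T.pair.card_Y
    rw [← hd] at h5
    refine Nat.le_of_mul_le_mul_right ?_
      (Nat.card_pos (α := (fx (V := V) (a * b) ⊓ fx c : AddSubgroup V)))
    calc Nat.card (triZ V a b c) * Nat.card (fx (V := V) (a * b) ⊓ fx c : AddSubgroup V)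
        = Nat.card φ.range * Nat.card φ.ker * (d * d) := by rw [h4, ← h5, h1]
      _ ≤ d * Nat.card (fx (V := V) (a * b) ⊓ fx c : AddSubgroup V) * (d * d) :=
          Nat.mul_le_mul_right _ (Nat.mul_le_mul h2 h3)
      _ = _ := by ring
  have hb := hinj.bijective_of_nat_card_le (hup.trans hcard.ge)
  refine ⟨?_, fun x hx => ?_⟩
  · rw [← hcard, Nat.card_congr (Equiv.ofBijective f hb)]
  · obtain ⟨⟨⟨u, hu⟩, ⟨v, hv⟩, ⟨w, hw⟩⟩, he⟩ := hb.2 ⟨x, hx⟩
    exact ⟨u, hu, v, hv, w, hw, (congrArg Subtype.val he).symm⟩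

theorem Triple.card_L {y : H} (hy : y ∈ triT V a b c) :
    Nat.card (fx (V := V) y ⊓ triZ V a b c : AddSubgroup V) =
      Nat.card (im (V := V) a) * Nat.card (im (V := V) a) := by
  let Y := (fx (V := V) (a * b) ⊓ fx c : AddSubgroup V)
  let f : (fx (V := V) y ⊓ triZ V a b c : AddSubgroup V) × Y → fx (V := V) y := fun q =>
    ⟨(q.1 : V) + q.2, add_mem q.1.2.1 (mem_fx.2 (mem_triK.1 hy.2 _ q.2.2))⟩
  have hf : Function.Bijective f := by
    constructor
    · rintro ⟨⟨z, hz⟩, ⟨w, hw⟩⟩ ⟨⟨z', hz'⟩, ⟨w', hw'⟩⟩ he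
      have he' : z + w = z' + w' := congrArg Subtype.val he
      have h1 : z - z' = w' - w := by rw [sub_eq_sub_iff_add_eq_add, he', add_comm]
      have h2 := T.Z_inter (sub_mem hz.2 hz'.2) (h1 ▸ sub_mem hw' hw)
      rw [h2, eq_comm, sub_eq_zero] at h1
      rw [sub_eq_zero] at h2
      subst h1 h2; rfl
    · rintro ⟨x, hx⟩
      obtain ⟨z, hz, hw⟩ := T.decomp x
      refine ⟨(⟨z, ?_, hz⟩, ⟨x - z, hw⟩), Subtype.ext (add_sub_cancel z x)⟩
      have := sub_mem hx (mem_fx.2 (mem_triK.1 hy.2 _ hw) : x - z ∈ fx (V := V) y)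
      rwa [sub_sub_cancel] at this
  have h1 := Nat.card_congr (Equiv.ofBijective f hf)
  rw [Nat.card_prod] at h1
  have h2 := card_fx_mul_im (V := V) y
  rw [T.card_im hy.1, ← h1, ← T.card_split, T.card_Z.1] at h2
  exact Nat.eq_of_mul_eq_mul_right
    (Nat.mul_pos Nat.card_pos Nat.card_pos : 0 < Nat.card Y * Nat.card (im (V := V) a))
    (by linarith)

theorem Triple.exists_noncomm {y : H} (hy : y ∈ triT V a b c) :
    ¬Commute y a ∨ ¬Commute y b ∨ ¬Commute y c := by
  by_contra hc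
  push Not at hc
  obtain ⟨h1, h2, h3⟩ := hc
  by_cases e1 : y = a
  · exact T.pair.ne (e1 ▸ h2)
  by_cases e2 : y = b
  · exact T.hbc (e2 ▸ h3)
  by_cases e3 : y = c
  · exact T.hac (e3 ▸ h1).symm
  refine hy.1.1 (T.pair.set.faith y fun x => ?_)
  obtain ⟨z, hz, hw⟩ := T.decomp x
  obtain ⟨wa, hwa, wb, hwb, wc, hwc, rfl⟩ := T.card_Z.2 z hz
  have := mem_triK.1 hy.2 _ hw
  rw [smul_sub, smul_add, smul_add, T.pair.set.im_le_fx T.pair.hs hy.1 h1 e1 hwa,
    T.pair.set.im_le_fx T.pair.ht hy.1 h2 e2 hwb, T.pair.set.im_le_fx T.hc hy.1 h3 e3 hwc] at this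
  exact sub_left_inj.1 this

theorem Triple.plK_le {x y : H} (hx : x ∈ triT V a b c) (hy : y ∈ triT V a b c)
    (Q : Pair p x y V) : plK V x y ≤ triK V a b c := fun _ hg => mem_triK.2 fun v hv =>
  mem_plK.1 hg v (Q.fx_iff.2 ⟨mem_triK.1 hx.2 v hv, mem_triK.1 hy.2 v hv⟩)

theorem Triple.plT_le {x y z : H} (hx : x ∈ triT V a b c) (hy : y ∈ triT V a b c)
    (Q : Pair p x y V) (hz : z ∈ plT V x y) : z ∈ triT V a b c :=
  ⟨hz.1, T.plK_le hx hy Q hz.2⟩

theorem Triple.good_of {y z z' : H} (hy : y ∈ triT V a b c) (hz : z ∈ triT V a b c)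
    (hz' : z' ∈ triT V a b c) (h1 : Commute y z) (h2 : Commute y z') (hne : y ≠ z) (hne' : y ≠ z')
    (hn : ¬Commute z z') {x : V} (hx : x ∈ fx (V := V) y ⊓ triZ V a b c) :
    ∃ u ∈ triT V a b c, x ∈ im (V := V) u := by
  have Q : Pair p z z' V := ⟨T.pair.set, hz.1, hz'.1, hn⟩
  have heq : im (V := V) (z * z') = fx (V := V) y ⊓ triZ V a b c := by
    refine AddSubgroup.eq_of_le_of_card_ge (fun v hv => ?_)
      (by rw [T.card_L hy, Q.card_X, T.card_im hz.1])
    obtain ⟨w, hw, w', hw', rfl⟩ := Q.im_decomp hv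
    exact ⟨add_mem (mem_fx.2 (T.pair.set.im_le_fx hz.1 hy.1 h1 hne hw))
      (mem_fx.2 (T.pair.set.im_le_fx hz'.1 hy.1 h2 hne' hw')),
      add_mem (T.im_le_Z hz.2 hw) (T.im_le_Z hz'.2 hw')⟩
  obtain ⟨u, hu, hxu⟩ := Q.cover (heq.symm ▸ hx)
  exact ⟨u, T.plT_le hz hz' Q hu, hxu⟩

/-- The fixed plane of a neighbour of a reflection lying on two planes is covered. -/
theorem Triple.good_of_two_planes {u y z : H} (hu : u ∈ triT V a b c) (hy : y ∈ triT V a b c)
    (hz : z ∈ triT V a b c) (huy : ¬Commute u y) (huz : ¬Commute u z) (hzy : z ∉ plK V u y)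
    {x : V} (hx : x ∈ fx (V := V) y ⊓ triZ V a b c) :
    ∃ e ∈ triT V a b c, x ∈ im (V := V) e := by
  have Q1 : Pair p u y V := ⟨T.pair.set, hu.1, hy.1, huy⟩
  have Q2 : Pair p u z V := ⟨T.pair.set, hu.1, hz.1, huz⟩
  -- a reflection of the second plane in the first is `u`
  have hsep : ∀ e ∈ plT V u z, e ∈ plT V u y → e = u := by
    intro e he he'
    by_contra hne
    obtain ⟨v, hv⟩ := T.pair.set.exists_moved hz.1.1
    have hw := dl_mem_im z v
    obtain ⟨we, hwe, wu, hwu, hsum⟩ := Q2.sum_eq he Q2.left_mem_plT hne (Q2.im_right_le_X hw)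
    refine hzy (Q1.mem_of_im hz.1 hw (sub_ne_zero.2 hv) ?_).2
    rw [hsum]
    exact add_mem (Q1.im_le_X he' hwe) (Q1.im_left_le_X hwu)
  have hy2 : y ∉ plK V u z := fun h => by
    have := hsep y ⟨hy.1, h⟩ Q1.right_mem_plT
    exact huy (this ▸ Commute.refl u)
  obtain ⟨c2, hc2, hyc2⟩ := Q2.exists_commuting hy.1 Q2.left_mem_plT fun h => huy h.symm
  obtain ⟨a1, ha1, hya1, hiff⟩ := Q1.companion Q1.right_mem_plT
  have hya1ne : y ≠ a1 := by
    rintro rfl
    obtain ⟨v, hv⟩ := T.pair.set.exists_moved hy.1.1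
    have hw := dl_mem_im y v
    exact hv (sub_eq_zero.1 (Q1.odd_im_ne_fix T.odd Q1.right_mem_plT hw
      ((hiff _ (Q1.im_right_le_X hw)).2 hw)))
  have hyc2ne : y ≠ c2 := fun h => hy2 (h ▸ hc2.2)
  have ha1T := T.plT_le hu hy Q1 ha1
  have hc2T := T.plT_le hu hz Q2 hc2
  by_cases hn : Commute a1 c2
  swap
  · exact T.good_of hy ha1T hc2T hya1 hyc2 hya1ne hyc2ne hn hx
  have hac : a1 ≠ c2 := by
    rintro rfl
    rw [hsep a1 hc2 ha1] at hya1
    exact huy hya1.symm
  have huc2 : u ≠ c2 := by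
    rintro rfl
    exact huy hyc2.symm
  obtain ⟨e, he, heu, hec⟩ : ∃ e ∈ plT V u z, e ≠ u ∧ e ≠ c2 := by
    by_contra hc
    push Not at hc
    have hsub : plT V u z ⊆ {u, c2} := fun e he => by
      by_cases h : e = u
      exacts [.inl h, .inr (hc e he h)]
    have h1 := Set.ncard_le_ncard hsub (Set.toFinite _)
    rw [Set.ncard_pair huc2, ← Nat.card_coe_set_eq, Q2.card_T] at h1
    have := Q2.three_le T.odd
    omega
  have hye : ¬Commute y e := fun h =>
    hec (Q2.eq_of_commute_both hy.1 he hc2 h hyc2 hy2 Q2.left_mem_plT fun h => huy h.symm)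
  have Q3 : Pair p y e V := ⟨T.pair.set, hy.1, he.1, hye⟩
  obtain ⟨a', ha', hya', hiff'⟩ := Q3.companion Q3.left_mem_plT
  have hya'ne : y ≠ a' := by
    rintro rfl
    obtain ⟨v, hv⟩ := T.pair.set.exists_moved hy.1.1
    have hw := dl_mem_im y v
    exact hv (sub_eq_zero.1 (Q3.odd_im_ne_fix T.odd Q3.left_mem_plT hw
      ((hiff' _ (Q3.im_left_le_X hw)).2 hw)))
  have heT := T.plT_le hu hz Q2 he
  have ha'T := T.plT_le hy heT Q3 ha'
  by_cases hn1 : Commute a1 a'
  swap
  · exact T.good_of hy ha1T ha'T hya1 hya' hya1ne hya'ne hn1 hx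
  by_cases hn2 : Commute c2 a'
  swap
  · exact T.good_of hy hc2T ha'T hyc2 hya' hyc2ne hya'ne hn2 hx
  exfalso
  obtain ⟨v, hv⟩ := T.pair.set.exists_moved he.1.1
  have hwe := dl_mem_im e v
  by_cases h1 : a' = a1
  · subst h1
    obtain ⟨wy, hwy, wa, hwa, hsum⟩ :=
      Q3.sum_eq Q3.left_mem_plT ha' hya'ne (Q3.im_right_le_X hwe)
    refine heu (hsep e he (Q1.mem_of_im he.1 hwe (sub_ne_zero.2 hv) ?_))
    rw [hsum]
    exact add_mem (Q1.im_right_le_X hwy) (Q1.im_le_X ha1 hwa)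
  by_cases h2 : a' = c2
  · subst h2
    obtain ⟨v', hv'⟩ := T.pair.set.exists_moved hy.1.1
    have hwy := dl_mem_im y v'
    obtain ⟨we, hwe', wc, hwc, hsum⟩ := Q3.sum_eq Q3.right_mem_plT ha' hec (Q3.im_left_le_X hwy)
    refine hy2 (Q2.mem_of_im hy.1 hwy (sub_ne_zero.2 hv') ?_).2
    rw [hsum]
    exact add_mem (Q2.im_le_X he hwe') (Q2.im_le_X hc2 hwc)
  -- three pairwise commuting commutator spaces in the fixed plane of `y`
  let f : im (V := V) a1 × im (V := V) c2 → (fx (V := V) y ⊓ triZ V a b c : AddSubgroup V) :=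
    fun q => ⟨(q.1 : V) + q.2, ⟨add_mem
      (mem_fx.2 (T.pair.set.im_le_fx ha1.1 hy.1 hya1 hya1ne q.1.2))
      (mem_fx.2 (T.pair.set.im_le_fx hc2.1 hy.1 hyc2 hyc2ne q.2.2)),
      add_mem (T.im_le_Z ha1T.2 q.1.2) (T.im_le_Z hc2T.2 q.2.2)⟩⟩
  have hf : Function.Bijective f := by
    refine Function.Injective.bijective_of_nat_card_le ?_
      (by rw [T.card_L hy, Nat.card_prod, T.card_im ha1.1, T.card_im hc2.1])
    rintro ⟨⟨w, hw⟩, ⟨z, hz⟩⟩ ⟨⟨w', hw'⟩, ⟨z', hz'⟩⟩ heq
    have he' : w + z = w' + z' := congrArg Subtype.val heq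
    have h1 : w - w' = z' - z := by rw [sub_eq_sub_iff_add_eq_add, he', add_comm]
    have h2 : w - w' = 0 := by
      by_contra h0
      exact hac (T.pair.set.rfl_eq_of_mem hc2.1 ha1.1 (sub_mem hw hw') (h1 ▸ sub_mem hz' hz) h0)
    rw [h2, eq_comm, sub_eq_zero] at h1
    rw [sub_eq_zero] at h2
    subst h1 h2; rfl
  obtain ⟨v'', hv''⟩ := T.pair.set.exists_moved ha'.1.1
  have hwa := dl_mem_im a' v''
  obtain ⟨⟨⟨w1, hw1⟩, ⟨w2, hw2⟩⟩, hsum⟩ := hf.2 ⟨a' • v'' - v'',
    mem_fx.2 (T.pair.set.im_le_fx ha'.1 hy.1 hya' hya'ne hwa), T.im_le_Z ha'T.2 hwa⟩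
  have hsum' : w1 + w2 = a' • v'' - v'' := congrArg Subtype.val hsum
  refine hv'' (sub_eq_zero.1 (Q3.odd_im_ne_fix T.odd ha' hwa ?_))
  rw [← hsum', smul_add, T.pair.set.im_le_fx ha1.1 ha'.1 hn1.symm h1 hw1,
    T.pair.set.im_le_fx hc2.1 ha'.1 hn2.symm h2 hw2]

theorem Triple.out' : b ∉ plK V a c ∧ c ∉ plK V b a := by
  have Q : Pair p a c V := ⟨T.pair.set, T.pair.hs, T.hc, T.hac⟩
  refine ⟨fun h => T.out ?_, fun h => T.out ?_⟩
  · have heq := (Q.plane_eq Q.left_mem_plT ⟨T.pair.ht, h⟩ T.pair).1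
    exact mem_plK.2 fun x hx => (Q.fx_iff.1 (heq ▸ hx)).2
  · refine mem_plK.2 fun x hx => mem_plK.1 h x ?_
    rw [T.pair.fx_iff] at hx
    rw [T.pair.symm.fx_iff]
    exact hx.symm

theorem Triple.good {y : H} (hy : y ∈ triT V a b c) {x : V}
    (hx : x ∈ fx (V := V) y ⊓ triZ V a b c) : ∃ e ∈ triT V a b c, x ∈ im (V := V) e := by
  -- `u` is one of three reflections; `z`, `z'` are the other two
  have main : ∀ u z z' : H, u ∈ triT V a b c → z ∈ triT V a b c → z' ∈ triT V a b c →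
      ¬Commute u z → ¬Commute u z' → z' ∉ plK V u z → ¬Commute u y →
      ∃ e ∈ triT V a b c, x ∈ im (V := V) e := by
    intro u z z' hu hz hz' huz huz' hout huy
    by_cases h1 : z ∈ plK V u y
    · refine T.good_of_two_planes hu hy hz' huy huz' (fun h2 => hout ?_) hx
      have Q : Pair p u y V := ⟨T.pair.set, hu.1, hy.1, huy⟩
      have Qz : Pair p u z V := ⟨T.pair.set, hu.1, hz.1, huz⟩
      have heq := (Q.plane_eq Q.left_mem_plT ⟨hz.1, h1⟩ Qz).1
      exact mem_plK.2 fun v hv => mem_plK.1 h2 v (heq ▸ hv)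
    · exact T.good_of_two_planes hu hy hz huy huz h1 hx
  rcases T.exists_noncomm hy with h | h | h
  · exact main a b c T.mem_left T.mem_mid T.mem_right T.pair.ne T.hac T.out fun h' => h h'.symm
  · exact main b a c T.mem_mid T.mem_left T.mem_right (fun h' => T.pair.ne h'.symm) T.hbc
      T.out'.2 fun h' => h h'.symm
  · refine main c a b T.mem_right T.mem_left T.mem_mid (fun h' => T.hac h'.symm)
      (fun h' => T.hbc h'.symm) (fun h' => T.out'.1 ?_) fun h' => h h'.symm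
    have Q : Pair p a c V := ⟨T.pair.set, T.pair.hs, T.hc, T.hac⟩
    exact mem_plK.2 fun v hv => mem_plK.1 h' v (Q.symm.fx_iff.2 (Q.fx_iff.1 hv).symm)

theorem Triple.cover {x : V} (hx : x ∈ triZ V a b c) :
    ∃ e ∈ triT V a b c, x ∈ im (V := V) e := by
  have P := T.pair
  let f : V → V := fun v => (a * b) • v + v
  have hf : Function.Surjective f := by
    refine Finite.injective_iff_surjective.1 fun v w hvw => sub_eq_zero.1 ?_
    have hneg : (a * b) • (v - w) = -(v - w) := by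
      have : (a * b) • v + v = (a * b) • w + w := hvw
      rw [smul_sub, neg_sub, sub_eq_sub_iff_add_eq_add, this, add_comm]
    obtain ⟨x1, hx1, hy1⟩ := P.decomp (v - w)
    have hy1' := mem_fx.1 hy1
    rw [smul_sub, hneg] at hy1'
    have h3 : (a * b) • x1 + x1 = 0 := by
      refine P.XY_bot (add_mem (P.plK_smul_mem_X (mul_mem P.left_mem_plK P.right_mem_plK) hx1) hx1)
        ?_
      have e : (a * b) • x1 + x1 = -((v - w - x1) + (v - w - x1)) := by
        calc (a * b) • x1 + x1 = -(-(v - w) - (a * b) • x1) - (v - w) + x1 := by abel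
          _ = _ := by rw [hy1']; abel
      rw [e]
      exact neg_mem (add_mem hy1 hy1)
    have h4 := P.no_neg hx1 (eq_neg_of_add_eq_zero_left h3)
    rw [h4, smul_zero, sub_zero, sub_zero] at hy1'
    exact P.set.double_ne T.odd (neg_eq_iff_add_eq_zero.1 hy1')
  obtain ⟨v, hv⟩ := hf x
  have hv' : (a * b) • v + v = x := hv
  suffices ∃ y ∈ triT V a b c, y • x = x by
    obtain ⟨y, hy, hyx⟩ := this
    exact T.good hy ⟨mem_fx.2 hyx, hx⟩
  by_cases hfix : (a * b) • v = v
  · refine ⟨a, T.mem_left, ?_⟩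
    rw [← hv', hfix, smul_add, (P.fx_iff.1 (mem_fx.2 hfix)).1]
  obtain ⟨m, hm⟩ := P.set.exists_mover ((a * b) • v - v)
  have hmv : m • v = (a * b) • v := (hm v ⟨a * b, by abel⟩).trans (by abel)
  have hm1 : m ≠ 1 := fun h => hfix (by rw [← hmv, h, one_smul])
  obtain ⟨y, hy, hle⟩ := P.set.exists_rfl hm1
  refine ⟨y, ⟨hy, mem_triK.2 fun z hz => mem_fx.1 (hle (hm.fix_le hz.1))⟩, mem_fx.1 (hle ?_)⟩
  have hneg : m • ((a * b) • v - v) = -((a * b) • v - v) := hm.neg (a := v) (h := a * b) (by abel)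
  rw [smul_sub, hmv] at hneg
  rw [mem_fx, ← hv', smul_add, hmv]
  calc m • (a * b) • v + (a * b) • v
      = (m • (a * b) • v - (a * b) • v) + ((a * b) • v + (a * b) • v) := by abel
    _ = (a * b) • v + v := by rw [hneg]; abel

theorem Triple.inj {e e' : triT V a b c} {x : V} (h : x ∈ im (V := V) (e : H))
    (h' : x ∈ im (V := V) (e' : H)) (hx : x ≠ 0) : e = e' :=
  Subtype.ext (T.pair.set.rfl_eq_of_mem e'.2.1 e.2.1 h h' hx)

theorem Triple.card_T :
    Nat.card (triT V a b c) =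
      Nat.card (im (V := V) a) * Nat.card (im (V := V) a) + Nat.card (im (V := V) a) + 1 := by
  classical
  let _ := Fintype.ofFinite (triT V a b c)
  set d := Nat.card (im (V := V) a) with hd
  let f : (Σ e : triT V a b c, {x : im (V := V) (e : H) // x ≠ 0}) →
      {x : triZ V a b c // x ≠ 0} := fun q =>
    ⟨⟨q.2.1.1, T.im_le_Z q.1.2.2 q.2.1.2⟩, fun h => q.2.2 (Subtype.ext (congrArg Subtype.val h :))⟩
  have hf : Function.Bijective f := by
    constructor
    · rintro ⟨e, ⟨⟨x, hx⟩, hx0⟩⟩ ⟨e', ⟨⟨x', hx'⟩, hx0'⟩⟩ he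
      have he' : x = x' := congrArg (fun z => z.1.1) he
      subst he'
      obtain rfl := T.inj hx hx' fun h => hx0 (Subtype.ext h)
      rfl
    · rintro ⟨⟨x, hx⟩, hx0⟩
      obtain ⟨e, he, hxe⟩ := T.cover hx
      exact ⟨⟨⟨e, he⟩, ⟨⟨x, hxe⟩, fun h => hx0 (Subtype.ext (congrArg Subtype.val h :))⟩⟩, rfl⟩
  have h1 := Nat.card_congr (Equiv.ofBijective f hf)
  rw [Nat.card_sigma, card_subtype_ne_zero, T.card_Z.1] at h1
  have h2 : ∀ e : triT V a b c, Nat.card {x : im (V := V) (e : H) // x ≠ 0} = d - 1 := fun e => by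
    rw [card_subtype_ne_zero, T.card_im e.2.1]
  simp only [h2, Finset.sum_const, smul_eq_mul, Finset.card_univ] at h1
  rw [Nat.card_eq_fintype_card]
  have hd1 : 1 < d := T.pair.set.one_lt_card_im T.pair.hs
  obtain ⟨k, hk⟩ : ∃ k, d = k + 1 := ⟨d - 1, by omega⟩
  rw [← hd, hk, Nat.add_sub_cancel] at h1
  rw [hk]
  refine Nat.eq_of_mul_eq_mul_right (show 0 < k by omega) ?_
  rw [h1]
  have : (k + 1) * (k + 1) * (k + 1) = ((k + 1) * (k + 1) + (k + 1) + 1) * k + 1 := by ring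
  omega

/-- The class of a reflection in the group of a triple. -/
theorem Triple.class_le {y : H} (hy : y ∈ triT V a b c) :
    2 * Nat.card ↥{e : H | ∃ k ∈ triK V a b c, e = k * y * k⁻¹} ≤
      Nat.card (im (V := V) a) * (Nat.card (im (V := V) a) + 1) := by
  classical
  have P := T.pair
  set d := Nat.card (im (V := V) a) with hd
  set C := {e : H | ∃ k ∈ triK V a b c, e = k * y * k⁻¹} with hC
  obtain ⟨v, hv⟩ := P.set.exists_moved hy.1.1
  set w := y • v - v with hwdef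
  have hw : w ∈ im (V := V) y := dl_mem_im y v
  have hw0 : w ≠ 0 := sub_ne_zero.2 hv
  let O : Set V := {z | ∃ k ∈ triK V a b c, z = k • w}
  have h1 : 2 * Nat.card C ≤ O.ncard := by
    have hk : ∀ e : C, ∃ k ∈ triK V a b c, (e : H) = k * y * k⁻¹ := fun e => e.2
    choose k hk hke using hk
    let g : C × Bool → O := fun q =>
      ⟨if q.2 then k q.1 • w else -(k q.1 • w), by
        split_ifs
        · exact ⟨_, hk _, rfl⟩
        · exact ⟨k q.1 * y, mul_mem (hk _) hy.2,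
            by rw [mul_smul, P.set.smul_im hy.1 hw, smul_neg]⟩⟩
    have hg : Function.Injective g := by
      rintro ⟨e, i⟩ ⟨e', i'⟩ he
      have he' := congrArg Subtype.val he
      simp only [g] at he'
      have hme : ∀ e : C, k e • w ∈ im (V := V) (e : H) := fun e => by
        rw [hke e]; exact smul_mem_im_conj hw
      have hne : ∀ e : C, k e • w ≠ 0 := fun e h => hw0 (smul_eq_zero_iff_eq (k e) |>.1 h)
      have hee : e = e' := by
        refine Subtype.ext ?_
        have hmem : k e • w ∈ im (V := V) (e' : H) := by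
          cases i <;> cases i' <;> simp at he'
          · exact he' ▸ hme e'
          · exact (neg_mem_iff.1 (he' ▸ hme e'))
          · exact he' ▸ neg_mem (hme e')
          · exact he' ▸ hme e'
        have hre : ∀ e : C, Rfl' V (e : H) := fun e => hke e ▸ hy.1.conj _
        exact (P.set.rfl_eq_of_mem (hre e') (hre e) (hme e) hmem (hne e))
      subst hee
      have h2 : k e • w ≠ -(k e • w) := fun h =>
        hne e (P.set.double_ne T.odd (eq_neg_iff_add_eq_zero.1 h))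
      cases i <;> cases i' <;> simp at he' <;> first | rfl | exact absurd he' h2 | exact absurd he'.symm h2
    have := Nat.card_le_card_of_injective g hg
    rwa [Nat.card_prod, Nat.card_eq_fintype_card (α := Bool), Fintype.card_bool, mul_comm,
      Nat.card_coe_set_eq O] at this
  refine h1.trans ?_
  let pr : V → V := fun z => z - Classical.choose (P.decomp z)
  have hpr : ∀ z, pr z ∈ fx (V := V) (a * b) := fun z => (Classical.choose_spec (P.decomp z)).2
  have hprX : ∀ z, z - pr z ∈ im (V := V) (a * b) := fun z => by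
    simp only [pr, sub_sub_cancel]; exact (Classical.choose_spec (P.decomp z)).1
  have hOZ : ∀ z ∈ O, z ∈ triZ V a b c := by
    rintro _ ⟨k, hk, rfl⟩
    exact T.smul_mem_Z hk (T.im_le_Z hy.2 hw)
  have hXZ : ∀ z ∈ im (V := V) (a * b), z ∈ triZ V a b c :=
    fun z hz => T.im_le_Z (mul_mem T.mem_left.2 T.mem_mid.2) hz
  let OF := O.toFinite.toFinset
  have hfib : ∀ z₁ ∈ OF.image pr, (OF.filter fun z => pr z = z₁).card ≤ d + 1 := by
    intro z₁ hz₁
    obtain ⟨z₀, hz₀, rfl⟩ := Finset.mem_image.1 hz₁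
    rw [Set.Finite.mem_toFinset] at hz₀
    let TF := (Set.toFinite (plT V a b)).toFinset
    have hsub : (OF.filter fun z => pr z = pr z₀) ⊆ TF.image (fun r => r • z₀) := by
      intro z hz
      rw [Finset.mem_filter, Set.Finite.mem_toFinset] at hz
      obtain ⟨hzO, hze⟩ := hz
      simp only [Finset.mem_image, TF, Set.Finite.mem_toFinset]
      by_cases hzz : z = z₀
      · obtain ⟨r, hr, hrx⟩ := P.exists_fix (hprX z₀)
        refine ⟨r, hr, ?_⟩
        rw [smul_sub, mem_plK.1 hr.2 _ (hpr z₀)] at hrx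
        rw [hzz]
        exact sub_left_inj.1 hrx
      · have hd' : z - z₀ ∈ im (V := V) (a * b) := by
          have := sub_mem (hprX z) (hprX z₀)
          rwa [hze, sub_sub_sub_cancel_right] at this
        obtain ⟨r, hr, hvr⟩ := P.cover hd'
        obtain ⟨k, -, hkz⟩ := hzO
        obtain ⟨k₀, -, hkz₀⟩ := hz₀
        refine ⟨r, hr, (P.set.coset hr.1 hvr (sub_ne_zero.2 hzz) (a := z₀) (h := k * k₀⁻¹)
          ?_).trans (add_sub_cancel _ _)⟩
        rw [mul_smul, hkz₀, inv_smul_smul, ← hkz, add_sub_cancel]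
    refine (Finset.card_le_card hsub).trans (Finset.card_image_le.trans ?_)
    rw [← Set.ncard_eq_toFinset_card, ← Nat.card_coe_set_eq, P.card_T]
  have h2 := Finset.card_le_mul_card_image OF (d + 1) hfib
  have h3 : (OF.image pr).card ≤ d := by
    have hsub : (↑(OF.image pr) : Set V) ⊆
        ((fx (V := V) (a * b) ⊓ triZ V a b c : AddSubgroup V) : Set V) := by
      intro z hz
      obtain ⟨z', hz', rfl⟩ := Finset.mem_image.1 hz
      rw [Set.Finite.mem_toFinset] at hz'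
      refine ⟨hpr z', ?_⟩
      have := sub_mem (hOZ _ hz') (hXZ _ (hprX z'))
      rwa [sub_sub_cancel] at this
    rw [← Set.ncard_coe_finset]
    refine (Set.ncard_le_ncard hsub (Set.toFinite _)).trans ?_
    rw [← Nat.card_coe_set_eq, SetLike.coe_sort_coe]
    let g : (fx (V := V) (a * b) ⊓ triZ V a b c : AddSubgroup V) × im (V := V) (a * b) →
        triZ V a b c := fun q => ⟨(q.1 : V) + q.2, add_mem q.1.2.2 (hXZ _ q.2.2)⟩
    have hg : Function.Injective g := by
      rintro ⟨⟨u, hu⟩, ⟨x, hx⟩⟩ ⟨⟨u', hu'⟩, ⟨x', hx'⟩⟩ he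
      have he' : u + x = u' + x' := congrArg Subtype.val he
      have h1 : x' - x = u - u' := by rw [sub_eq_sub_iff_add_eq_add, add_comm, ← he', add_comm]
      have h2 := P.XY_bot (sub_mem hx' hx) (h1 ▸ sub_mem hu.1 hu'.1)
      rw [h2, eq_comm, sub_eq_zero] at h1
      rw [sub_eq_zero] at h2
      subst h1 h2; rfl
    have := Nat.card_le_card_of_injective g hg
    rw [Nat.card_prod, P.card_X, T.card_Z.1, ← hd, mul_assoc d d d] at this
    exact Nat.le_of_mul_le_mul_right this (Nat.mul_pos Nat.card_pos Nat.card_pos)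
  rw [Set.ncard_eq_toFinset_card O, mul_comm d]
  exact h2.trans (Nat.mul_le_mul_left _ h3)

theorem Triple.class_ge {y : H} (hy : y ∈ triT V a b c) :
    Nat.card (im (V := V) a) * Nat.card (im (V := V) a) + 1 ≤
      2 * Nat.card ↥{e : H | ∃ k ∈ triK V a b c, e = k * y * k⁻¹} := by
  classical
  set d := Nat.card (im (V := V) a) with hd
  have hd1 : 1 < d := T.pair.set.one_lt_card_im T.pair.hs
  set C := {e : H | ∃ k ∈ triK V a b c, e = k * y * k⁻¹} with hC
  let L := (fx (V := V) y ⊓ triZ V a b c : AddSubgroup V)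
  let S : Set H := {e | e ∈ triT V a b c ∧ ∀ w ∈ im (V := V) e, w ∈ L}
  obtain ⟨vy, hvy⟩ := T.pair.set.exists_moved hy.1.1
  set wy := y • vy - vy with hwyd
  have hwy : wy ∈ im (V := V) y := dl_mem_im y vy
  have hwy0 : wy ≠ 0 := sub_ne_zero.2 hvy
  have hwyL : ∀ w ∈ im (V := V) y, w ∈ L → w = 0 := fun w hw hwL => by
    have := mem_fx.1 hwL.1
    rw [T.pair.set.smul_im hy.1 hw] at this
    exact T.pair.set.double_ne T.odd (neg_eq_iff_add_eq_zero.1 this)
  have hcov : ∀ x ∈ L, x ≠ 0 → ∃ e ∈ S, x ∈ im (V := V) e := by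
    intro x hx hx0
    obtain ⟨e, he, hxe⟩ := T.cover hx.2
    refine ⟨e, ⟨he, fun w hw => ⟨mem_fx.2 ?_, T.im_le_Z he.2 hw⟩⟩, hxe⟩
    have hcom : Commute y e := T.pair.set.commute_of_pm he.1 hxe hx0 (.inl (mem_fx.1 hx.1))
    refine T.pair.set.im_le_fx he.1 hy.1 hcom ?_ hw
    rintro rfl
    exact hx0 (hwyL x hxe hx)
  -- `S` has `d + 1` elements
  have hS : Nat.card S = d + 1 := by
    let _ := Fintype.ofFinite S
    let f : (Σ e : S, {x : im (V := V) (e : H) // x ≠ 0}) → {x : L // x ≠ 0} := fun q =>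
      ⟨⟨q.2.1.1, q.1.2.2 _ q.2.1.2⟩, fun h => q.2.2 (Subtype.ext (congrArg Subtype.val h :))⟩
    have hf : Function.Bijective f := by
      constructor
      · rintro ⟨e, ⟨⟨x, hx⟩, hx0⟩⟩ ⟨e', ⟨⟨x', hx'⟩, hx0'⟩⟩ he
        have he' : x = x' := congrArg (fun z => z.1.1) he
        subst he'
        obtain rfl : e = e' := Subtype.ext
          (T.pair.set.rfl_eq_of_mem e'.2.1.1 e.2.1.1 hx hx' fun h => hx0 (Subtype.ext h))
        rfl
      · rintro ⟨⟨x, hx⟩, hx0⟩
        obtain ⟨e, he, hxe⟩ := hcov x hx fun h => hx0 (Subtype.ext h)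
        exact ⟨⟨⟨e, he⟩, ⟨⟨x, hxe⟩, fun h => hx0 (Subtype.ext (congrArg Subtype.val h :))⟩⟩, rfl⟩
    have h1 := Nat.card_congr (Equiv.ofBijective f hf)
    rw [Nat.card_sigma, card_subtype_ne_zero, T.card_L hy] at h1
    have h2 : ∀ e : S, Nat.card {x : im (V := V) (e : H) // x ≠ 0} = d - 1 := fun e => by
      rw [card_subtype_ne_zero, T.card_im e.2.1.1]
    simp only [h2, Finset.sum_const, smul_eq_mul, Finset.card_univ] at h1
    rw [Nat.card_eq_fintype_card]
    obtain ⟨k, hk⟩ : ∃ k, d = k + 1 := ⟨d - 1, by omega⟩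
    rw [← hd, hk, Nat.add_sub_cancel] at h1
    rw [hk]
    refine Nat.eq_of_mul_eq_mul_right (show 0 < k by omega) ?_
    rw [h1]
    have : (k + 1) * (k + 1) = (k + 1 + 1) * k + 1 := by ring
    omega
  -- the plane through `y` and each element of `S`
  have hplane : ∀ e : S, ∃ z ∈ triT V a b c, ¬Commute y z ∧ (e : H) ∈ plT V y z := by
    rintro ⟨e, he, heL⟩
    obtain ⟨v, hv⟩ := T.pair.set.exists_moved he.1.1
    have hwe := dl_mem_im e v
    set we := e • v - v with hwed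
    have hwe0 : we ≠ 0 := sub_ne_zero.2 hv
    obtain ⟨z, hz, hxz⟩ := T.cover (add_mem (T.im_le_Z hy.2 hwy) (T.im_le_Z he.2 hwe))
    have hn : ¬Commute y z := by
      intro hcom
      by_cases hzy : y = z
      · subst hzy
        have h : we ∈ im (V := V) y := by simpa using sub_mem hxz hwy
        exact hwe0 (hwyL we h (heL we hwe))
      have h1 := T.pair.set.im_le_fx hz.1 hy.1 hcom hzy hxz
      rw [smul_add, mem_fx.1 (heL we hwe).1, add_left_inj] at h1
      exact hwy0 (hwyL wy hwy ⟨mem_fx.2 h1, T.im_le_Z hy.2 hwy⟩)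
    have Q : Pair p y z V := ⟨T.pair.set, hy.1, hz.1, hn⟩
    refine ⟨z, hz, hn, Q.mem_of_im he.1 hwe hwe0 ?_⟩
    have := sub_mem (Q.im_right_le_X hxz) (Q.im_left_le_X hwy)
    rwa [add_sub_cancel_left] at this
  choose z hzT hzn hze using hplane
  have Q : ∀ e : S, Pair p y (z e) V := fun e => ⟨T.pair.set, hy.1, (hzT e).1, hzn e⟩
  let D : S → Set H := fun e => {f | (∃ k ∈ plK V y (z e), f = k * y * k⁻¹) ∧ f ≠ y}
  have hDC : ∀ e, D e ⊆ C \ {y} := by
    rintro e f ⟨⟨k, hk, rfl⟩, hne⟩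
    exact ⟨⟨k, T.plK_le hy (hzT e) (Q e) hk, rfl⟩, hne⟩
  have hdisj : ∀ e e', e ≠ e' → Disjoint (D e) (D e') := by
    intro e e' hne
    rw [Set.disjoint_left]
    rintro f ⟨⟨k, hk, rfl⟩, hfy⟩ ⟨⟨k', hk', hf⟩, -⟩
    have hf1 : k * y * k⁻¹ ∈ plT V y (z e) := (Q e).conj_mem_plT (Q e).left_mem_plT hk
    have hf2 : k * y * k⁻¹ ∈ plT V y (z e') := hf ▸ (Q e').conj_mem_plT (Q e').left_mem_plT hk'
    obtain ⟨v, hv⟩ := T.pair.set.exists_moved e'.2.1.1.1
    have hwe := dl_mem_im (e' : H) v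
    obtain ⟨u, hu, w, hw, hsum⟩ := (Q e').sum_eq (Q e').left_mem_plT hf2 (Ne.symm hfy)
      ((Q e').im_le_X (hze e') hwe)
    have hX : (e' : H) • v - v ∈ im (V := V) (y * z e) := by
      rw [hsum]; exact add_mem ((Q e).im_left_le_X hu) ((Q e).im_le_X hf1 hw)
    obtain ⟨y', hy', -, hiff⟩ := (Q e).companion (Q e).left_mem_plT
    have h1 : (e' : H) • v - v ∈ im (V := V) y' := (hiff _ hX).1 (mem_fx.1 (e'.2.2 _ hwe).1)
    obtain ⟨v1, hv1⟩ := T.pair.set.exists_moved e.2.1.1.1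
    have hwe1 := dl_mem_im (e : H) v1
    have h2 : (e : H) • v1 - v1 ∈ im (V := V) y' :=
      (hiff _ ((Q e).im_le_X (hze e) hwe1)).1 (mem_fx.1 (e.2.2 _ hwe1).1)
    have e1 := T.pair.set.rfl_eq_of_mem hy'.1 e'.2.1.1 hwe h1 (sub_ne_zero.2 hv)
    have e2 := T.pair.set.rfl_eq_of_mem hy'.1 e.2.1.1 hwe1 h2 (sub_ne_zero.2 hv1)
    exact hne (Subtype.ext (e2.trans e1.symm))
  have hcardD : ∀ e, d - 1 ≤ 2 * (D e).ncard := by
    intro e
    have hQ := Q e
    set K := plK V y (z e) with hK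
    obtain ⟨r₀, hr₀, hr₀w⟩ := hQ.exists_fix (hQ.im_left_le_X hwy)
    let B : Set H := {f | ∃ k ∈ K, f = k * y * k⁻¹}
    let f : K → B := fun k => ⟨(k : H) * y * (k : H)⁻¹, k, k.2, rfl⟩
    have hfib : Nat.card K ≤ Nat.card B * 4 := by
      have hch : ∀ q : B, ∃ k : K, f k = q := fun ⟨g, k, hk, hg⟩ => ⟨⟨k, hk⟩, Subtype.ext hg.symm⟩
      choose g hg using hch
      let M : Fin 4 → H := ![1, r₀, y, y * r₀]
      have hM : ∀ i, M i ∈ K := by
        intro i
        fin_cases i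
        · exact one_mem _
        · exact hr₀.2
        · exact hQ.left_mem_plK
        · exact mul_mem hQ.left_mem_plK hr₀.2
      let F : B × Fin 4 → K := fun q => ⟨(g q.1 : H) * M q.2, mul_mem (g q.1).2 (hM q.2)⟩
      have hF : Function.Surjective F := by
        intro k
        set q := f k with hq
        have h := congrArg Subtype.val (hg q)
        simp only [f, hq] at h
        set c := ((g q : H))⁻¹ * (k : H) with hc
        have hcK : c ∈ K := mul_mem (inv_mem (g q).2) k.2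
        have hcom : Commute c y := by
          change c * y = y * c
          calc c * y = (g q : H)⁻¹ * ((k : H) * y * (k : H)⁻¹) * k := by rw [hc]; group
            _ = (g q : H)⁻¹ * ((g q : H) * y * (g q : H)⁻¹) * k := by rw [h]
            _ = y * c := by rw [hc]; group
        rcases T.pair.set.im_pm hy.1 hcom hwy with hw | hw
        · rcases hQ.stab (hQ.im_left_le_X hwy) hwy0 hr₀ hr₀w hcK hw with h' | h'
          · exact ⟨(q, 0), Subtype.ext (by simpa [F, M] using inv_mul_eq_one.1 h')⟩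
          · exact ⟨(q, 1), Subtype.ext (by simpa [F, M] using (inv_mul_eq_iff_eq_mul.1 h').symm)⟩
        · rcases hQ.stab (hQ.im_left_le_X hwy) hwy0 hr₀ hr₀w (mul_mem hQ.left_mem_plK hcK)
            (by rw [mul_smul, hw, smul_neg, T.pair.set.smul_im hy.1 hwy, neg_neg]) with h' | h'
          · rw [mul_eq_one_iff_inv_eq, T.pair.set.inv_eq hy.1, hc, eq_comm,
              inv_mul_eq_iff_eq_mul] at h'
            exact ⟨(q, 2), Subtype.ext (by simpa [F, M] using h'.symm)⟩
          · rw [← eq_inv_mul_iff_mul_eq, T.pair.set.inv_eq hy.1, hc,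
              inv_mul_eq_iff_eq_mul] at h'
            exact ⟨(q, 3), Subtype.ext (by simpa [F, M, mul_assoc] using h'.symm)⟩
      have := Nat.card_le_card_of_surjective F hF
      rwa [Nat.card_prod, Nat.card_eq_fintype_card (α := Fin 4), Fintype.card_fin] at this
    rw [hQ.card_K, T.card_im hy.1, ← hd] at hfib
    have hB : Nat.card B ≤ (D e).ncard + 1 := by
      rw [Nat.card_coe_set_eq]
      have hsub : B ⊆ insert y (D e) := fun f hf => by
        by_cases h : f = y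
        exacts [.inl h, .inr ⟨hf, h⟩]
      exact (Set.ncard_le_ncard hsub (Set.toFinite _)).trans (Set.ncard_insert_le _ _)
    omega
  let _ := Fintype.ofFinite S
  have hsum : ∑ e : S, (D e).ncard ≤ (C \ {y}).ncard := by
    rw [← finsum_eq_sum_of_fintype, ← Set.ncard_iUnion_of_finite (fun e => Set.toFinite _)
      fun e e' h => hdisj e e' h]
    exact Set.ncard_le_ncard (Set.iUnion_subset hDC) (Set.toFinite _)
  have h2 : (d + 1) * (d - 1) ≤ 2 * (C \ {y}).ncard :=
    calc (d + 1) * (d - 1) = ∑ e : S, (d - 1) := by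
          rw [Finset.sum_const, Finset.card_univ, ← Nat.card_eq_fintype_card, hS, smul_eq_mul]
      _ ≤ ∑ e : S, 2 * (D e).ncard := Finset.sum_le_sum fun e _ => hcardD e
      _ ≤ _ := by rw [← Finset.mul_sum]; exact Nat.mul_le_mul_left 2 hsum
  have hyC : y ∈ C := ⟨1, one_mem _, by simp⟩
  rw [Nat.card_coe_set_eq, ← Set.ncard_sdiff_singleton_add_one hyC (Set.toFinite _)]
  obtain ⟨k, hk⟩ : ∃ k, d = k + 1 := ⟨d - 1, by omega⟩
  rw [hk, Nat.add_sub_cancel] at h2
  rw [hk]
  have : (k + 1) * (k + 1) = (k + 1 + 1) * k + 1 := by ring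
  omega

theorem Triple.false : False := by
  set d := Nat.card (im (V := V) a) with hd
  have hd1 : 1 < d := T.pair.set.one_lt_card_im T.pair.hs
  let C : H → Set H := fun y => {e | ∃ k ∈ triK V a b c, e = k * y * k⁻¹}
  have hsub : ∀ {y}, y ∈ triT V a b c → C y ⊆ triT V a b c := by
    rintro y hy _ ⟨k, hk, rfl⟩
    exact ⟨hy.1.conj k, mul_mem (mul_mem hk hy.2) (inv_mem hk)⟩
  have hself : ∀ y, y ∈ C y := fun y => ⟨1, one_mem _, by simp⟩
  have hdisj : ∀ {y y'}, y' ∉ C y → Disjoint (C y) (C y') := by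
    intro y y' hy'
    rw [Set.disjoint_left]
    rintro f ⟨k, hk, rfl⟩ ⟨k', hk', h⟩
    refine hy' ⟨k'⁻¹ * k, mul_mem (inv_mem hk') hk, ?_⟩
    calc y' = k'⁻¹ * (k' * y' * k'⁻¹) * k' := by group
      _ = k'⁻¹ * (k * y * k⁻¹) * k' := by rw [h]
      _ = _ := by group
  have hle : ∀ {y}, y ∈ triT V a b c → 2 * (C y).ncard ≤ d * (d + 1) := fun hy => by
    rw [← Nat.card_coe_set_eq]; exact T.class_le hy
  have hge : ∀ {y}, y ∈ triT V a b c → d * d + 1 ≤ 2 * (C y).ncard := fun hy => by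
    rw [← Nat.card_coe_set_eq]; exact T.class_ge hy
  have hN : (triT V a b c).ncard = d * d + d + 1 := by
    rw [← Nat.card_coe_set_eq]; exact T.card_T
  have hexp : d * (d + 1) = d * d + d := by ring
  obtain ⟨y, hy, hyA⟩ : ∃ y ∈ triT V a b c, y ∉ C a := by
    by_contra hc
    push Not at hc
    have h1 := Set.ncard_le_ncard (hc : triT V a b c ⊆ C a) (Set.toFinite _)
    have h2 := hle T.mem_left
    omega
  obtain ⟨y', hy', hy'AB⟩ : ∃ y' ∈ triT V a b c, y' ∉ C a ∪ C y := by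
    by_contra hc
    push Not at hc
    have h1 := Set.ncard_le_ncard (hc : triT V a b c ⊆ C a ∪ C y) (Set.toFinite _)
    have h3 := Set.ncard_union_le (C a) (C y)
    have h2 := hle T.mem_left
    have h4 := hle hy
    omega
  rw [Set.mem_union, not_or] at hy'AB
  have h1 : (C a ∪ C y ∪ C y').ncard = (C a).ncard + (C y).ncard + (C y').ncard := by
    rw [Set.ncard_union_eq ?_ (Set.toFinite _) (Set.toFinite _),
      Set.ncard_union_eq (hdisj hyA) (Set.toFinite _) (Set.toFinite _)]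
    exact Set.disjoint_union_left.2 ⟨hdisj hy'AB.1, hdisj hy'AB.2⟩
  have h2 := Set.ncard_le_ncard (Set.union_subset (Set.union_subset (hsub T.mem_left) (hsub hy))
    (hsub hy')) (Set.toFinite _)
  have h3 := hge T.mem_left
  have h4 := hge hy
  have h5 := hge hy'
  nlinarith [Nat.mul_le_mul hd1 (le_refl d)]

end Cfsg.Agent.BinaryAffine
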