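/-
Binary affine primitive groups, part 6: in characteristic two no two commuting reflections have a
common non-commuting neighbour.

Otherwise the reflections fixing the common fixed space `F` of the two commuting ones pairwise
commute, partition `V \ F`, so number `d + 1`, and form a coset of a group of that odd order.
-/
import Cfsg.Agent.Lib.BinaryAffine.Global

namespace Cfsg.Agent.BinaryAffine

open AddSubgroup

set_option linter.unusedSectionVars false

universe u v

variable {H : Type u} [Group H] {V : Type v} [AddCommGroup V] [DistribMulAction H V]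
variable [Finite H] [Finite V] {p : ℕ}

theorem Setting.card_eq_two_pow (S : Setting p H V) (hp : p = 2) (M : AddSubgroup V) :
    ∃ n, Nat.card M = 2 ^ n :=
  ⟨_, Nat.eq_prime_pow_of_unique_prime_dvd Nat.card_pos.ne' fun {m} hm hmd => by
    have := Fact.mk hm
    obtain ⟨w, hw⟩ := exists_prime_addOrderOf_dvd_card' m hmd
    have h2 : m ∣ 2 := hw ▸ addOrderOf_dvd_of_nsmul_eq_zero
      (Subtype.ext (by rw [← hp]; exact S.char _))
    exact (Nat.prime_dvd_prime_iff_eq hm Nat.prime_two).1 h2⟩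

/-- Commuting reflections `u`, `r` with a common non-commuting neighbour `t`, where `d` is the
common order of the commutator spaces. -/
structure Tri (p d : ℕ) (t u r : H) (V : Type v) [AddCommGroup V] [DistribMulAction H V] :
    Prop where
  set : Setting p H V
  two : p = 2
  ht : Rfl' V t
  hu : Rfl' V u
  hr : Rfl' V r
  ne : u ≠ r
  comm : Commute u r
  hut : ¬Commute u t
  hrt : ¬Commute r t
  card : Nat.card (im (V := V) t) = d

variable {d : ℕ} {t u r : H} (T : Tri p d t u r V)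
include T

theorem Tri.symm : Tri p d t r u V :=
  ⟨T.set, T.two, T.ht, T.hr, T.hu, T.ne.symm, T.comm.symm, T.hrt, T.hut, T.card⟩

theorem Tri.pair : Pair p u t V := ⟨T.set, T.hu, T.ht, T.hut⟩

theorem Tri.card_im {z : H} (hz : Rfl' V z) : Nat.card (im (V := V) z) = d := by
  rw [T.pair.card_im_uniform hz, ← T.pair.card_im_uniform T.ht, T.card]

theorem Tri.card_fx {z : H} (hz : Rfl' V z) : Nat.card (fx (V := V) z) * d = Nat.card V := by
  rw [← T.card_im hz, card_fx_mul_im]

theorem Tri.one_lt : 1 < d := T.card ▸ T.set.one_lt_card_im T.ht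

theorem Tri.im_u_le {w : V} (hw : w ∈ im (V := V) u) : w ∈ fx (V := V) u ⊓ fx r :=
  ⟨mem_fx.2 (by rw [T.set.smul_im T.hu hw, T.set.neg_eq_self T.two]),
    mem_fx.2 (T.set.im_le_fx T.hu T.hr T.comm.symm T.ne.symm hw)⟩

theorem Tri.dl_eq (b : V) : (u * r) • b - b = (u • b - b) + (r • b - b) := by
  have h := mem_fx.1 (T.symm.im_u_le (dl_mem_im r b)).2
  rw [smul_sub] at h
  calc (u * r) • b - b = (u • r • b - u • b) + (u • b - b) := by rw [mul_smul]; abel
    _ = _ := by rw [h, add_comm]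

theorem Tri.im_inter {w : V} (hwu : w ∈ im (V := V) u) (hwr : w ∈ im (V := V) r) : w = 0 := by
  by_contra h0
  exact T.ne (T.set.rfl_eq_of_mem T.hr T.hu hwu hwr h0)

theorem Tri.fx_mul : fx (V := V) (u * r) = fx (V := V) u ⊓ fx r := by
  ext b
  rw [AddSubgroup.mem_inf, mem_fx, mem_fx, mem_fx]
  refine ⟨fun h => ?_, fun h => by rw [mul_smul, h.2, h.1]⟩
  have h1 := T.dl_eq b
  rw [h, sub_self, eq_comm, add_eq_zero_iff_eq_neg, T.set.neg_eq_self T.two] at h1
  have h2 := T.im_inter (dl_mem_im u b) (h1 ▸ dl_mem_im r b)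
  refine ⟨sub_eq_zero.1 h2, sub_eq_zero.1 ?_⟩
  rwa [h1] at h2

theorem Tri.im_t_inter {w : V} (hw : w ∈ im (V := V) t) (hF : w ∈ fx (V := V) u ⊓ fx r) :
    w = 0 :=
  T.set.inter_eq_bot T.ht T.hut hw (mem_fx.1 hF.1)

/-- The vectors `b` with `(u * r) • b - b` fixed by `t`. -/
def triN (V : Type v) [AddCommGroup V] [DistribMulAction H V] (t u r : H) : AddSubgroup V :=
  ((dl (V := V) t).comp (dl (u * r))).ker

omit T in
theorem mem_triN {b : V} :
    b ∈ triN V t u r ↔ t • ((u * r) • b - b) = (u * r) • b - b := by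
  rw [triN, AddMonoidHom.mem_ker, AddMonoidHom.comp_apply, dl_apply, dl_apply, sub_eq_zero]

theorem Tri.le_card_N : Nat.card V ≤ Nat.card (triN V t u r) * d := by
  set f := (dl (V := V) t).comp (dl (u * r))
  have h1 := AddSubgroup.card_eq_card_quotient_mul_card_addSubgroup f.ker
  rw [Nat.card_congr (QuotientAddGroup.quotientKerEquivRange f).toEquiv] at h1
  rw [h1, mul_comm, ← T.card]
  refine Nat.mul_le_mul_left _ (AddSubgroup.card_le_of_le ?_)
  rintro x ⟨b, rfl⟩
  exact dl_mem_im t _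

theorem Tri.exists_b : ∃ b ∈ triN V t u r, b ∉ fx (V := V) u ⊓ fx r := by
  by_contra hc
  push Not at hc
  have h1 : Nat.card V ≤ Nat.card (fx (V := V) u ⊓ fx r : AddSubgroup V) * d :=
    T.le_card_N.trans (Nat.mul_le_mul_right _ (AddSubgroup.card_le_of_le hc))
  have e : ∀ {z : H}, Rfl' V z → fx (V := V) u ⊓ fx r ≤ fx z →
      fx (V := V) u ⊓ fx r = fx z := fun hz hle => AddSubgroup.eq_of_le_of_card_ge hle
    (Nat.le_of_mul_le_mul_right (le_of_eq_of_le (T.card_fx hz) h1) (by linarith [T.one_lt]))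
  exact T.ne (T.pair.eq_of_fx_eq_global T.hu T.hr
    ((e T.hu inf_le_left).symm.trans (e T.hr inf_le_right)))

/-- For `b` in `triN` outside `F`, the mover fixes `F` and the commutator space of `t`. -/
theorem Tri.mover_fixes {b : V} (hb : b ∈ triN V t u r) {m : H}
    (hm : Mover ((u * r) • b - b) m) :
    (∀ a ∈ fx (V := V) u ⊓ fx r, m • a = a) ∧ ∀ w ∈ im (V := V) t, m • w = w := by
  have hF : ∀ a ∈ fx (V := V) u ⊓ fx r, m • a = a := fun a ha =>
    hm.fix (mem_fx.1 (T.fx_mul.symm ▸ ha))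
  refine ⟨hF, ?_⟩
  set v := (u * r) • b - b with hv
  -- `b + a` is moved by `v` for `a ∈ F`, and so is its image under `t`
  have hδ : ∀ a ∈ fx (V := V) u ⊓ fx r, m • (t • (b + a) - (b + a)) = t • (b + a) - (b + a) := by
    intro a ha
    have h1 : (u * r) • (b + a) = b + a + v := by
      rw [smul_add, mem_fx.1 (T.fx_mul.symm ▸ ha : a ∈ fx (V := V) (u * r)), hv]; abel
    have e1 : m • (b + a) = b + a + v := hm _ ⟨_, h1⟩
    have h2 : (t * (u * r) * t) • (t • (b + a)) = t • (b + a) + v := by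
      rw [mul_smul, mul_smul, T.set.smul_smul_self T.ht, h1, smul_add, hv, mem_triN.1 hb]
    have e2 : m • (t • (b + a)) = t • (b + a) + v := hm _ ⟨_, h2⟩
    rw [smul_sub, e1, e2]; abel
  intro w hw
  let g : im (V := V) u → im (V := V) t := fun a => ⟨t • (a : V) - a, dl_mem_im t _⟩
  have hg : Function.Bijective g := by
    refine Function.Injective.bijective_of_nat_card_le (fun a a' he => Subtype.ext ?_)
      (by rw [T.card_im T.hu, T.card])
    refine sub_eq_zero.1 (T.set.inter_eq_bot T.hu (fun h => T.hut h.symm) (sub_mem a.2 a'.2) ?_)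
    rw [smul_sub]
    exact sub_eq_sub_iff_sub_eq_sub.1 (congrArg Subtype.val he)
  obtain ⟨⟨a, ha⟩, he⟩ := hg.2 ⟨w, hw⟩
  have he' : t • a - a = w := congrArg Subtype.val he
  have h1 := hδ a (T.im_u_le ha)
  have h2 := hδ 0 (zero_mem _)
  rw [add_zero] at h2
  have e : w = (t • (b + a) - (b + a)) - (t • b - b) := by rw [← he', smul_add]; abel
  rw [e, smul_sub, h1, h2]

theorem Tri.core : ∃ z : H, Rfl' V z ∧ (∀ a ∈ fx (V := V) u ⊓ fx r, z • a = a) ∧
    (∀ w ∈ im (V := V) t, z • w = w) ∧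
    Nat.card (fx (V := V) u ⊓ fx r : AddSubgroup V) * d * d = Nat.card V ∧
    (∀ a ∈ fx (V := V) z, ∃ w ∈ im (V := V) t, a - w ∈ fx (V := V) u ⊓ fx r) ∧
    (∀ z' : H, Rfl' V z' → (∀ a ∈ fx (V := V) u ⊓ fx r, z' • a = a) →
      (∀ w ∈ im (V := V) t, z' • w = w) → z' = z) ∧
    ∀ b ∈ triN V t u r, z • b = (u * r) • b := by
  set F := fx (V := V) u ⊓ fx r with hF
  obtain ⟨b₀, hb₀, hb₀F⟩ := T.exists_b
  have hlow : Nat.card V ≤ Nat.card F * d * d := by
    have h1 := card_fx_mul_im (V := V) (u * r)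
    rw [T.fx_mul, ← hF] at h1
    rw [← h1, mul_assoc]
    refine Nat.mul_le_mul_left _ ?_
    let g : im (V := V) (u * r) → V := Subtype.val
    have hsub : Set.range g ⊆
        Set.range fun z : im (V := V) u × im (V := V) r => (z.1 : V) + z.2 := by
      rintro _ ⟨⟨x, hx⟩, rfl⟩
      obtain ⟨b, rfl⟩ := mem_im.1 hx
      exact ⟨(⟨_, dl_mem_im u b⟩, ⟨_, dl_mem_im r b⟩), (T.dl_eq b).symm⟩
    calc Nat.card (im (V := V) (u * r)) = (Set.range g).ncard := by
          rw [← Nat.card_coe_set_eq, Nat.card_range_of_injective Subtype.val_injective]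
      _ ≤ _ := Set.ncard_le_ncard hsub (Set.toFinite _)
      _ ≤ d * d := by
          rw [← Nat.card_coe_set_eq]
          refine (Finite.card_range_le _).trans_eq ?_
          rw [Nat.card_prod, T.card_im T.hu, T.card_im T.hr]
  let g : F × im (V := V) t → V := fun z => (z.1 : V) + z.2
  have hg : Function.Injective g := by
    rintro ⟨⟨a, ha⟩, ⟨w, hw⟩⟩ ⟨⟨a', ha'⟩, ⟨w', hw'⟩⟩ he
    simp only [g] at he
    have h1 : w - w' = a' - a := by
      rw [sub_eq_sub_iff_add_eq_add, add_comm w, he]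
    have h2 := T.im_t_inter (sub_mem hw hw') (h1 ▸ sub_mem ha' ha)
    rw [h2, eq_comm, sub_eq_zero] at h1
    rw [sub_eq_zero] at h2
    subst h1 h2; rfl
  have hcardg : (Set.range g).ncard = Nat.card F * d := by
    rw [← Nat.card_coe_set_eq, Nat.card_range_of_injective hg, Nat.card_prod, T.card]
  have hsubz : ∀ {z : H}, (∀ a ∈ F, z • a = a) → (∀ w ∈ im (V := V) t, z • w = w) →
      Set.range g ⊆ (fx (V := V) z : Set V) := by
    rintro z h1 h2 _ ⟨⟨⟨a, ha⟩, ⟨w, hw⟩⟩, rfl⟩
    exact add_mem (mem_fx.2 (h1 a ha)) (mem_fx.2 (h2 w hw))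
  have hfx : ∀ {z : H}, Rfl' V z → (∀ a ∈ F, z • a = a) → (∀ w ∈ im (V := V) t, z • w = w) →
      (fx (V := V) z : Set V) = Set.range g := by
    intro z hz h1 h2
    refine (Set.eq_of_subset_of_ncard_le (hsubz h1 h2) ?_ (Set.toFinite _)).symm
    rw [hcardg, ← Nat.card_coe_set_eq, SetLike.coe_sort_coe]
    exact Nat.le_of_mul_le_mul_right ((T.card_fx hz).trans_le hlow) (by linarith [T.one_lt])
  obtain ⟨m, hm⟩ := T.set.exists_mover ((u * r) • b₀ - b₀)
  obtain ⟨hmF, hmW⟩ := T.mover_fixes hb₀ hm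
  have hm1 : m ≠ 1 := fun h => by
    have h1 : m • b₀ = (u * r) • b₀ := (hm b₀ ⟨u * r, by abel⟩).trans (by abel)
    rw [h, one_smul] at h1
    exact hb₀F (by rw [← T.fx_mul]; exact mem_fx.2 h1.symm)
  obtain ⟨z, hz, hle⟩ := T.set.exists_rfl hm1
  have hzF : ∀ a ∈ F, z • a = a := fun a ha => mem_fx.1 (hle (mem_fx.2 (hmF a ha)))
  have hzW : ∀ w ∈ im (V := V) t, z • w = w := fun w hw => mem_fx.1 (hle (mem_fx.2 (hmW w hw)))
  have huniq : ∀ z' : H, Rfl' V z' → (∀ a ∈ F, z' • a = a) →
      (∀ w ∈ im (V := V) t, z' • w = w) → z' = z := fun z' hz' h1 h2 =>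
    T.pair.eq_of_fx_eq_global hz' hz
      (SetLike.coe_injective ((hfx hz' h1 h2).trans (hfx hz hzF hzW).symm))
  refine ⟨z, hz, hzF, hzW, le_antisymm ?_ hlow, ?_, huniq, ?_⟩
  · rw [← T.card_fx hz, ← hcardg, ← hfx hz hzF hzW, ← Nat.card_coe_set_eq,
      SetLike.coe_sort_coe]
  · intro a ha
    have ha' : a ∈ Set.range g := hfx hz hzF hzW ▸ ha
    obtain ⟨⟨⟨a', ha''⟩, ⟨w, hw⟩⟩, rfl⟩ := ha'
    exact ⟨w, hw, by simpa [g] using ha''⟩
  · intro b hb
    by_cases hbF : b ∈ F
    · rw [hzF b hbF, mem_fx.1 (T.fx_mul.symm ▸ hbF : b ∈ fx (V := V) (u * r))]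
    obtain ⟨m', hm'⟩ := T.set.exists_mover ((u * r) • b - b)
    obtain ⟨h1, h2⟩ := T.mover_fixes hb hm'
    have e1 : m' • b = (u * r) • b := (hm' b ⟨u * r, by abel⟩).trans (by abel)
    have hm'1 : m' ≠ 1 := fun h => by
      rw [h, one_smul] at e1
      exact hbF (by rw [hF, ← T.fx_mul]; exact mem_fx.2 e1.symm)
    obtain ⟨z', hz', hle'⟩ := T.set.exists_rfl hm'1
    have heq : fx (V := V) m' = fx z' := le_antisymm hle' fun a ha => by
      have hz'F : ∀ a ∈ F, z' • a = a := fun a ha => mem_fx.1 (hle' (mem_fx.2 (h1 a ha)))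
      have hz'W : ∀ w ∈ im (V := V) t, z' • w = w :=
        fun w hw => mem_fx.1 (hle' (mem_fx.2 (h2 w hw)))
      exact hsubz h1 h2 (hfx hz' hz'F hz'W ▸ ha)
    have hm'r : Rfl' V m' := ⟨hm'1, fun k hk hk' => by
      rw [heq] at hk' ⊢
      exact hz'.2 k hk hk'⟩
    rw [← huniq m' hm'r h1 h2, e1]

theorem Tri.commute_fix {a : H} (ha : Rfl' V a) (hF : ∀ x ∈ fx (V := V) u ⊓ fx r, a • x = x) :
    Commute a u := by
  by_contra hn
  obtain ⟨z, -, -, -, hcard, -⟩ := T.core
  have Q : Pair p a u V := ⟨T.set, ha, T.hu, hn⟩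
  have h1 := Q.card_Y
  rw [T.card_im ha, ← mul_assoc] at h1
  have h2 : fx (V := V) u ⊓ fx r = fx (a * u) := AddSubgroup.eq_of_le_of_card_ge
    (fun x hx => Q.fx_iff.2 ⟨hF x hx, mem_fx.1 hx.1⟩)
    (Nat.eq_of_mul_eq_mul_right (by linarith [T.one_lt] : 0 < d)
      (Nat.eq_of_mul_eq_mul_right (by linarith [T.one_lt] : 0 < d) (h1.trans hcard.symm))).le
  have hr : r ∈ plT V a u := ⟨T.hr, mem_plK.2 fun x hx => mem_fx.1 (h2.symm ▸ hx :).2⟩
  exact T.ne (Q.eq_of_fx_eq Q.right_mem_plT hr
    (Q.two_commute_fx_eq T.two Q.right_mem_plT hr T.comm))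

theorem Tri.commute_pair {a b : H} (ha : Rfl' V a) (hb : Rfl' V b)
    (haF : ∀ x ∈ fx (V := V) u ⊓ fx r, a • x = x) (hbF : ∀ x ∈ fx (V := V) u ⊓ fx r, b • x = x) :
    Commute a b := by
  by_contra hn
  obtain ⟨z, -, -, -, hcard, -⟩ := T.core
  have Q : Pair p a b V := ⟨T.set, ha, hb, hn⟩
  have h1 := Q.card_Y
  rw [T.card_im ha, ← mul_assoc] at h1
  have h2 : fx (V := V) u ⊓ fx r = fx (a * b) := AddSubgroup.eq_of_le_of_card_ge
    (fun x hx => Q.fx_iff.2 ⟨haF x hx, hbF x hx⟩)
    (Nat.eq_of_mul_eq_mul_right (by linarith [T.one_lt] : 0 < d)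
      (Nat.eq_of_mul_eq_mul_right (by linarith [T.one_lt] : 0 < d) (h1.trans hcard.symm))).le
  have hu : u ∈ plT V a b := ⟨T.hu, mem_plK.2 fun x hx => mem_fx.1 (h2.symm ▸ hx :).1⟩
  have hr : r ∈ plT V a b := ⟨T.hr, mem_plK.2 fun x hx => mem_fx.1 (h2.symm ▸ hx :).2⟩
  exact T.ne (Q.eq_of_fx_eq hu hr (Q.two_commute_fx_eq T.two hu hr T.comm))

theorem Tri.false : False := by
  classical
  obtain ⟨z, hz, hzF, hzW, hcard, hzdec, huniq, hzN⟩ := T.core
  set F := fx (V := V) u ⊓ fx r with hF
  have hd := T.one_lt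
  let E : Set H := {a | Rfl' V a ∧ ∀ x ∈ F, a • x = x}
  have huE : u ∈ E := ⟨T.hu, fun x hx => mem_fx.1 hx.1⟩
  have hrE : r ∈ E := ⟨T.hr, fun x hx => mem_fx.1 hx.2⟩
  have hzE : z ∈ E := ⟨hz, hzF⟩
  have hcE : ∀ {a}, a ∈ E → Commute a u := fun ha => T.commute_fix ha.1 ha.2
  -- an element of `E` other than `z` does not commute with `t`
  have hEt : ∀ {a}, a ∈ E → a ≠ z → ¬Commute a t := by
    intro a ha hne hc
    refine hne (huniq a ha.1 ha.2 fun w hw => T.set.im_le_fx T.ht ha.1 hc ?_ hw)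
    rintro rfl
    exact T.hut (hcE ha).symm
  have htri : ∀ {a b}, a ∈ E → b ∈ E → a ≠ b → a ≠ z → b ≠ z → Tri p d t a b V :=
    fun ha hb hab haz hbz => ⟨T.set, T.two, T.ht, ha.1, hb.1, hab,
      T.commute_pair ha.1 hb.1 ha.2 hb.2, hEt ha haz, hEt hb hbz, T.card⟩
  -- the common fixed space of two of them is `F`
  have hinter : ∀ {a b}, a ∈ E → b ∈ E → a ≠ b → fx (V := V) a ⊓ fx b = F := by
    intro a b ha hb hab
    have hle : F ≤ fx (V := V) a ⊓ fx b := fun x hx =>
      ⟨mem_fx.2 (ha.2 x hx), mem_fx.2 (hb.2 x hx)⟩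
    have hz' : ∀ {c}, c ∈ E → c ≠ z → ∀ x ∈ fx (V := V) z, x ∈ fx (V := V) c → x ∈ F := by
      intro c hc hcz x hxz hxc
      obtain ⟨w, hw, hy⟩ := hzdec x hxz
      have h := hc.2 _ hy
      rw [smul_sub, mem_fx.1 hxc, sub_right_inj] at h
      rwa [T.set.inter_eq_bot T.ht (hEt hc hcz) hw h, sub_zero] at hy
    by_cases haz : a = z
    · subst haz
      exact le_antisymm (fun x hx => hz' hb (Ne.symm hab) x hx.1 hx.2) hle
    by_cases hbz : b = z
    · subst hbz
      exact le_antisymm (fun x hx => hz' ha hab x hx.2 hx.1) hle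
    obtain ⟨_, -, -, -, h, -⟩ := (htri ha hb hab haz hbz).core
    refine (AddSubgroup.eq_of_le_of_card_ge hle ?_).symm
    refine (Nat.eq_of_mul_eq_mul_right (by omega : 0 < d)
      (Nat.eq_of_mul_eq_mul_right (by omega : 0 < d) (h.trans hcard.symm))).le
  -- the product of `z` with two others is another
  have hclosed : ∀ {a b}, a ∈ E → b ∈ E → a ≠ b → a ≠ z → b ≠ z → z * (a * b) ∈ E := by
    intro a b ha hb hab haz hbz
    have T' := htri ha hb hab haz hbz
    have hF' := hinter ha hb hab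
    obtain ⟨z', hz', hz'F, hz'W, -, -, -, hz'N⟩ := T'.core
    have hzz : z' = z := huniq z' hz' (fun x hx => hz'F x (hF' ▸ hx)) hz'W
    subst hzz
    set g := z' * (a * b) with hg
    have hgN : ∀ x ∈ triN V t a b, g • x = x := fun x hx => by
      rw [hg, mul_smul, ← hz'N x hx, T.set.smul_smul_self hz']
    have hg1 : g ≠ 1 := fun h => by
      rw [hg, mul_eq_one_iff_inv_eq, T.set.inv_eq hz'] at h
      have h' : fx (V := V) z' = F := by rw [h, T'.fx_mul, hF']
      have h1 := T.card_fx hz'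
      rw [h', ← hcard] at h1
      have : d = 1 := (Nat.mul_eq_left
        (Nat.mul_pos Nat.card_pos (by omega)).ne').1 h1.symm
      omega
    obtain ⟨y, hy, hle⟩ := T.set.exists_rfl hg1
    have h1 : fx (V := V) g = fx y := AddSubgroup.eq_of_le_of_card_ge hle (by
      have h2 : Nat.card (triN V t a b) ≤ Nat.card (fx (V := V) g) :=
        AddSubgroup.card_le_of_le fun x hx => mem_fx.2 (hgN x hx)
      refine le_trans ?_ h2
      exact Nat.le_of_mul_le_mul_right ((T.card_fx hy).trans_le T'.le_card_N) (by omega))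
    refine ⟨⟨hg1, fun k hk hk' => ?_⟩, fun x hx => ?_⟩
    · rw [h1] at hk' ⊢
      exact hy.2 k hk hk'
    · rw [hg, mul_smul, mul_smul, hb.2 x hx, ha.2 x hx, hzF x hx]
  -- the fixed spaces cover `V`
  have hcover : ∀ x : V, x ∉ F → ∃ a ∈ E, x ∈ fx (V := V) a := by
    intro x hx
    by_cases hxz : x ∈ fx (V := V) z
    · exact ⟨z, hzE, hxz⟩
    have huz : u ≠ z := fun h =>
      T.hut (T.set.commute_of_pm T.ht (dl_mem_im t x) (by
        intro h0
        obtain ⟨b, hb⟩ := T.set.exists_moved T.ht.1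
        have hw := dl_mem_im t b
        have := T.set.inter_eq_bot T.ht T.hut hw (h ▸ hzW _ hw)
        exact hb (sub_eq_zero.1 this)) (.inl (h ▸ hzW _ (dl_mem_im t x))))
    have hrz : r ≠ z := fun h => by
      obtain ⟨b, hb⟩ := T.set.exists_moved T.ht.1
      have hw := dl_mem_im t b
      exact hb (sub_eq_zero.1 (T.set.inter_eq_bot T.ht T.hrt hw (h ▸ hzW _ hw)))
    let I := im (V := V) (u * r)
    have hI : ∀ {a b : V}, a ∈ im (V := V) u → b ∈ im (V := V) r → a + b ∈ I := by
      let g : I → im (V := V) u × im (V := V) r → Prop := fun x z => (x : V) = (z.1 : V) + z.2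
      have hch : ∀ x : I, ∃ z, g x z := by
        rintro ⟨_, hx⟩
        obtain ⟨c, rfl⟩ := mem_im.1 hx
        exact ⟨(⟨_, dl_mem_im u c⟩, ⟨_, dl_mem_im r c⟩), T.dl_eq c⟩
      choose f hf using hch
      have hfb : Function.Bijective f := by
        refine Function.Injective.bijective_of_nat_card_le (fun x y h => Subtype.ext ?_) ?_
        · rw [hf x, hf y, h]
        · have h1 := card_fx_mul_im (V := V) (u * r)
          rw [T.fx_mul, ← hF, ← hcard, mul_assoc] at h1
          rw [Nat.card_prod, T.card_im T.hu, T.card_im T.hr,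
            Nat.eq_of_mul_eq_mul_left Nat.card_pos h1]
      intro a b ha hb
      obtain ⟨y, hy⟩ := hfb.2 (⟨a, ha⟩, ⟨b, hb⟩)
      have := hf y
      rw [hy] at this
      exact this ▸ y.2
    have hIz : ∀ c : V, z • c - c ∈ I := by
      intro c
      let φ : triN V t u r → im (V := V) z := fun b => ⟨z • (b : V) - b, dl_mem_im z _⟩
      have hker : ∀ b ∈ triN V t u r, z • b = b → b ∈ F := fun b hb he =>
        by rw [hF, ← T.fx_mul]; exact mem_fx.2 ((hzN b hb).symm.trans he)
      have hsurj : Function.Surjective φ := by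
        intro w
        let ψ : triN V t u r →+ V := (dl z).comp (triN V t u r).subtype
        have h1 := AddSubgroup.card_eq_card_quotient_mul_card_addSubgroup ψ.ker
        rw [Nat.card_congr (QuotientAddGroup.quotientKerEquivRange ψ).toEquiv] at h1
        have h2 : Nat.card ψ.ker ≤ Nat.card F :=
          Nat.card_le_card_of_injective (fun b : ψ.ker => (⟨(b : triN V t u r), hker _
            (b : triN V t u r).2 (sub_eq_zero.1 b.2)⟩ : F)) (fun b b' h => by
              exact Subtype.ext (Subtype.ext (congrArg Subtype.val h :)))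
        have h3 : ψ.range ≤ im (V := V) z := by
          rintro _ ⟨b, rfl⟩; exact dl_mem_im z _
        have h5 : d ≤ Nat.card ψ.range := by
          have h6 := T.le_card_N
          rw [← hcard, h1] at h6
          have h7 : d * (Nat.card F * d) ≤ Nat.card ψ.range * (Nat.card F * d) := by
            calc d * (Nat.card F * d) = Nat.card F * d * d := by ring
              _ ≤ Nat.card ψ.range * Nat.card ψ.ker * d := h6
              _ ≤ Nat.card ψ.range * Nat.card F * d :=
                  Nat.mul_le_mul_right _ (Nat.mul_le_mul_left _ h2)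
              _ = _ := by ring
          exact Nat.le_of_mul_le_mul_right h7 (Nat.mul_pos Nat.card_pos (by omega))
        have h8 : ψ.range = im (V := V) z :=
          AddSubgroup.eq_of_le_of_card_ge h3 (by rw [T.card_im hz]; exact h5)
        obtain ⟨b, hb⟩ : (w : V) ∈ ψ.range := h8.symm ▸ w.2
        exact ⟨b, Subtype.ext hb⟩
      obtain ⟨b, hb⟩ := hsurj ⟨_, dl_mem_im z c⟩
      have hb' : z • (b : V) - b = z • c - c := congrArg Subtype.val hb
      rw [← hb', hzN _ b.2]
      exact dl_mem_im _ _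
    have Trz := htri hrE hzE hrz
    have hfx_rz : fx (V := V) (r * z) = F := by
      refine le_antisymm (fun b hb => ?_) fun b hb => by
        rw [mem_fx, mul_smul, hzF b hb, mem_fx.1 hb.2]
      have hcz : Commute r z := T.commute_pair T.hr hz hrE.2 hzF
      rw [mem_fx, mul_smul] at hb
      have h1 : z • b = r • b := by
        calc z • b = r • r • z • b := (T.set.smul_smul_self T.hr _).symm
          _ = r • b := by rw [hb]
      have h2 : r • b - b = 0 := by
        by_contra h0
        exact hrz (T.set.rfl_eq_of_mem hz T.hr (dl_mem_im r b) (h1 ▸ dl_mem_im z b) h0)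
      rw [sub_eq_zero] at h2
      exact hinter hrE hzE hrz ▸ ⟨mem_fx.2 h2, mem_fx.2 (h1.trans h2)⟩
    have hdl : ∀ {a c : H}, a ∈ E → c ∈ E → a ≠ c → ∀ y : V,
        (a * c) • y - y = (a • y - y) + (c • y - y) := by
      intro a c ha hc hac y
      have hw : a • (c • y - y) = c • y - y :=
        T.set.im_le_fx hc.1 ha.1 (T.commute_pair ha.1 hc.1 ha.2 hc.2) hac (dl_mem_im c y)
      rw [smul_sub] at hw
      calc (a * c) • y - y = (a • c • y - a • y) + (a • y - y) := by rw [mul_smul]; abel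
        _ = _ := by rw [hw, add_comm]
    have hle : im (V := V) (r * z) ≤ I := by
      intro y hy
      obtain ⟨c, rfl⟩ := mem_im.1 hy
      rw [hdl hrE hzE hrz]
      refine add_mem ?_ (hIz c)
      have := hI (zero_mem _) (dl_mem_im r c)
      rwa [zero_add] at this
    have heq : im (V := V) (r * z) = I := by
      refine AddSubgroup.eq_of_le_of_card_ge hle ?_
      have e1 := card_fx_mul_im (V := V) (r * z)
      have e2 := card_fx_mul_im (V := V) (u * r)
      rw [hfx_rz] at e1
      rw [T.fx_mul, ← hF, ← e1] at e2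
      exact (Nat.eq_of_mul_eq_mul_left Nat.card_pos e2).le
    have hc : (u * z) • x - x ∈ im (V := V) (r * z) := by
      rw [heq, hdl huE hzE huz]
      refine add_mem ?_ (hIz x)
      have := hI (dl_mem_im u x) (zero_mem _)
      rwa [add_zero] at this
    obtain ⟨b, hb⟩ := mem_im.1 hc
    rw [hdl hrE hzE hrz, hdl huE hzE huz] at hb
    have hkey : (u * z) • (b + x) - (b + x) = (u * r) • b - b := by
      rw [hdl huE hzE huz, hdl huE hrE T.ne, smul_add, smul_add]
      have e : (u • b + u • x - (b + x)) + (z • b + z • x - (b + x)) =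
          (u • b - b) + ((u • x - x) + (z • x - x)) + (z • b - b) := by abel
      rw [e, ← hb]
      have e2 : (u • b - b) + ((r • b - b) + (z • b - b)) + (z • b - b) =
          (u • b - b) + (r • b - b) + ((z • b - b) + (z • b - b)) := by abel
      rw [e2, T.set.add_self T.two, add_zero]
    obtain ⟨m, hm⟩ := T.set.exists_mover ((u * r) • b - b)
    have e1 : m • b = b + ((u * r) • b - b) := hm b ⟨u * r, by abel⟩
    have e2 : m • (b + x) = b + x + ((u * r) • b - b) :=
      hm _ ⟨u * z, by rw [← hkey]; abel⟩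
    have hmx : m • x = x := by
      rw [smul_add, e1] at e2
      calc m • x = (b + ((u * r) • b - b) + m • x) - (b + ((u * r) • b - b)) := by abel
        _ = x := by rw [e2]; abel
    have hm1 : m ≠ 1 := by
      intro h
      rw [h, one_smul, eq_comm, add_eq_left] at e1
      have hbF : b ∈ F := by rw [hF, ← T.fx_mul]; exact mem_fx.2 (sub_eq_zero.1 e1)
      rw [e1, sub_eq_zero] at hkey
      have h1 : b + x ∈ fx (V := V) (u * z) := mem_fx.2 hkey
      have hu_z : fx (V := V) (u * z) ≤ F := by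
        intro y hy
        rw [mem_fx, mul_smul] at hy
        have h1 : z • y = u • y := by
          calc z • y = u • u • z • y := (T.set.smul_smul_self T.hu _).symm
            _ = u • y := by rw [hy]
        have h2 : u • y - y = 0 := by
          by_contra h0
          exact huz (T.set.rfl_eq_of_mem hz T.hu (dl_mem_im u y) (h1 ▸ dl_mem_im z y) h0)
        rw [sub_eq_zero] at h2
        exact hinter huE hzE huz ▸ ⟨mem_fx.2 h2, mem_fx.2 (h1.trans h2)⟩
      exact hx (by simpa using sub_mem (hu_z h1) hbF)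
    obtain ⟨a, ha, hle'⟩ := T.set.exists_rfl hm1
    refine ⟨a, ⟨ha, fun y hy => mem_fx.1 (hle' (mem_fx.2 ?_))⟩, hle' (mem_fx.2 hmx)⟩
    exact hm.fix (mem_fx.1 (T.fx_mul.symm ▸ hy))
  -- so `|E| = d + 1`
  have hcardE : Nat.card E = d + 1 := by
    let _ := Fintype.ofFinite E
    let β : E → Type v := fun a => {x : V // x ∈ (fx (V := V) (a : H) : Set V) \ (F : Set V)}
    let f : (Σ a, β a) → {x : V // x ∈ (F : Set V)ᶜ} := fun z => ⟨z.2.1, z.2.2.2⟩
    have hf : Function.Bijective f := by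
      constructor
      · rintro ⟨a, x, hx, hxF⟩ ⟨b, y, hy, hyF⟩ he
        have he' : x = y := congrArg Subtype.val he
        subst he'
        have hab : a = b := by
          by_contra hne
          exact hxF (hinter a.2 b.2 (fun h => hne (Subtype.ext h)) ▸ ⟨hx, hy⟩)
        subst hab; rfl
      · rintro ⟨x, hx⟩
        obtain ⟨a, ha, hxa⟩ := hcover x hx
        exact ⟨⟨⟨a, ha⟩, ⟨x, hxa, hx⟩⟩, rfl⟩
    have h1 := Nat.card_congr (Equiv.ofBijective f hf)
    rw [Nat.card_sigma] at h1
    have h2 : ∀ a : E, Nat.card (β a) = Nat.card F * (d - 1) := by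
      intro a
      have hsub : (F : Set V) ⊆ (fx (V := V) (a : H) : Set V) := fun x hx => mem_fx.2 (a.2.2 x hx)
      change Nat.card ↥((fx (V := V) (a : H) : Set V) \ (F : Set V)) = _
      rw [Nat.card_coe_set_eq, Set.ncard_sdiff hsub (Set.toFinite _), ← Nat.card_coe_set_eq,
        ← Nat.card_coe_set_eq, SetLike.coe_sort_coe, SetLike.coe_sort_coe]
      have e := T.card_fx a.2.1
      rw [← hcard] at e
      rw [Nat.eq_of_mul_eq_mul_right (by omega : 0 < d) e, Nat.mul_sub, mul_one]
    simp only [h2, Finset.sum_const, smul_eq_mul, Finset.card_univ] at h1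
    have h3 : Nat.card {x : V // x ∈ (F : Set V)ᶜ} = Nat.card F * ((d + 1) * (d - 1)) := by
      change Nat.card ↥((F : Set V)ᶜ) = _
      rw [Nat.card_coe_set_eq, Set.ncard_compl, ← hcard, ← Nat.card_coe_set_eq,
        SetLike.coe_sort_coe]
      obtain ⟨e, rfl⟩ : ∃ e, d = e + 1 := ⟨d - 1, by omega⟩
      rw [Nat.add_sub_cancel]
      have : Nat.card F * (e + 1) * (e + 1) = Nat.card F * ((e + 1 + 1) * e) + Nat.card F := by
        ring
      omega
    rw [h3, mul_left_comm] at h1
    rw [Nat.card_eq_fintype_card]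
    exact Nat.eq_of_mul_eq_mul_right (by omega : 0 < d - 1)
      (Nat.eq_of_mul_eq_mul_left Nat.card_pos h1)
  -- a group of odd order with an involution
  have hcomm : ∀ {a b}, a ∈ E → b ∈ E → Commute a b := fun ha hb =>
    T.commute_pair ha.1 hb.1 ha.2 hb.2
  have hzz := T.set.mul_self hz
  let A : Subgroup H :=
    { carrier := {x | z * x ∈ E}
      one_mem' := by simpa using hzE
      mul_mem' := by
        intro x y hx hy
        change z * x ∈ E at hx
        change z * y ∈ E at hy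
        change z * (x * y) ∈ E
        have e : z * x * (z * y) = x * y := by
          rw [← mul_assoc, (hcomm hzE hx).symm.eq, ← mul_assoc z z x, hzz, one_mul]
        rw [← e]
        set a := z * x
        set b := z * y
        by_cases haz : a = z
        · rwa [haz, ← mul_assoc z z b, hzz, one_mul]
        by_cases hbz : b = z
        · rwa [hbz, (hcomm hx hzE).eq, ← mul_assoc z z a, hzz, one_mul]
        by_cases hab : a = b
        · rw [hab, T.set.mul_self hy.1, mul_one]; exact hzE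
        exact hclosed hx hy hab haz hbz
      inv_mem' := by
        intro x hx
        change z * x ∈ E at hx
        have h1 : x⁻¹ = z * x * z := by
          have := T.set.inv_eq hx.1
          rw [mul_inv_rev, T.set.inv_eq hz] at this
          rw [← this, mul_assoc, hzz, mul_one]
        change z * x⁻¹ ∈ E
        rw [h1, (hcomm hx hzE).eq, ← mul_assoc, hzz, one_mul]
        exact hx }
  have hA : Nat.card A = d + 1 := by
    rw [← hcardE]
    exact Nat.card_congr
      { toFun := fun x => ⟨z * x, x.2⟩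
        invFun := fun a => ⟨z * a, by
          change z * (z * (a : H)) ∈ E
          rw [← mul_assoc, hzz, one_mul]; exact a.2⟩
        left_inv := fun x => Subtype.ext (by simp [← mul_assoc, hzz])
        right_inv := fun a => Subtype.ext (by simp [← mul_assoc, hzz]) }
  have hzu : z * u ∈ A := by
    change z * (z * u) ∈ E
    rw [← mul_assoc, hzz, one_mul]; exact huE
  have h2 : 2 ∣ Nat.card A := by
    have hne : z * u ≠ 1 := fun h => by
      rw [mul_eq_one_iff_inv_eq, T.set.inv_eq hz] at h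
      obtain ⟨b, hb⟩ := T.set.exists_moved T.ht.1
      have hw := dl_mem_im t b
      exact hb (sub_eq_zero.1 (T.set.inter_eq_bot T.ht T.hut hw (h ▸ hzW _ hw)))
    have h3 : orderOf (⟨z * u, hzu⟩ : A) = 2 := by
      refine orderOf_eq_prime (Subtype.ext ?_) fun h => hne (congrArg Subtype.val h)
      rw [SubmonoidClass.coe_pow, pow_two, OneMemClass.coe_one, mul_assoc,
        ← mul_assoc u z u, (hcomm huE hzE).eq, mul_assoc z u u, T.set.mul_self T.hu, mul_one, hzz]
    exact h3 ▸ orderOf_dvd_natCard _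
  obtain ⟨n, hn⟩ := T.set.card_eq_two_pow T.two (im (V := V) t)
  rw [T.card] at hn
  rw [hA, hn] at h2
  cases n with
  | zero => omega
  | succ n => rw [pow_succ'] at h2; omega

end Cfsg.Agent.BinaryAffine
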