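/-
Binary affine primitive groups, part 8: a reflection not commuting with a reflection of a plane
lies in the group of that plane.
-/
import Cfsg.Agent.Lib.BinaryAffine.Triangle
import Cfsg.Agent.Lib.BinaryAffine.RankThree

namespace Cfsg.Agent.BinaryAffine

open AddSubgroup

set_option linter.unusedSectionVars false

universe u v

variable {H : Type u} [Group H] {V : Type v} [AddCommGroup V] [DistribMulAction H V]
variable [Finite H] [Finite V] {p : ℕ}
variable {s t : H} (P : Pair p s t V)
include P

theorem Pair.plK_eq {a b : H} (ha : a ∈ plT V s t) (hb : b ∈ plT V s t) (Q : Pair p a b V) :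
    plK V a b = plK V s t := by
  rw [plK, plK, (P.plane_eq ha hb Q).1]

theorem Pair.subsingleton_commuting {b : H} (hb : b ∈ plT V s t) :
    {c ∈ plT V s t | c ≠ b ∧ Commute c b}.Subsingleton := by
  rintro c ⟨hc, hne, hcom⟩ c' ⟨hc', hne', hcom'⟩
  obtain ⟨x, hx⟩ := P.set.exists_moved hb.1.1
  exact P.eq_of_common hc hc' (P.im_le_X hb (dl_mem_im b x)) (sub_ne_zero.2 hx)
    (P.set.im_le_fx hb.1 hc.1 hcom hne (dl_mem_im b x))
    (P.set.im_le_fx hb.1 hc'.1 hcom' hne' (dl_mem_im b x))

theorem Pair.same_plane_right {r : H} (hr : Rfl' V r) (hrt : ¬Commute r t) :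
    r ∈ plK V s t := by
  by_contra hrK
  by_cases hp : p = 2
  · obtain ⟨u, hu, hur⟩ := P.exists_commuting hr P.right_mem_plT hrt
    have hne : u ≠ r := fun h => hrK (h ▸ hu.2)
    have hut : ¬Commute u t := fun h => hrt (P.eq_of_fx_eq hu P.right_mem_plT
      (P.two_commute_fx_eq hp hu P.right_mem_plT h) ▸ hur)
    have T : Tri p (Nat.card (im (V := V) t)) t u r V :=
      ⟨P.set, hp, P.ht, hu.1, hr, hne, hur.symm, hut, hrt, rfl⟩
    exact T.false
  · obtain ⟨a, ha, hat, hra⟩ : ∃ a ∈ plT V s t, ¬Commute a t ∧ ¬Commute r a := by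
      by_contra hc
      push Not at hc
      have hA := P.subsingleton_commuting P.right_mem_plT
      have hB : {c ∈ plT V s t | Commute r c}.Subsingleton := fun c hc c' hc' =>
        P.eq_of_commute_both hr hc.1 hc'.1 hc.2 hc'.2 hrK P.right_mem_plT hrt
      have hsub : plT V s t ⊆ {t} ∪ {c ∈ plT V s t | c ≠ t ∧ Commute c t} ∪
          {c ∈ plT V s t | Commute r c} := by
        intro c hcT
        by_cases h1 : c = t
        · exact .inl (.inl h1)
        by_cases h2 : Commute c t
        · exact .inl (.inr ⟨hcT, h1, h2⟩)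
        · exact .inr ⟨hcT, hc c hcT h2⟩
      have h1 := Set.ncard_le_ncard hsub (Set.toFinite _)
      have h2 := Set.ncard_union_le
        ({t} ∪ {c ∈ plT V s t | c ≠ t ∧ Commute c t}) {c ∈ plT V s t | Commute r c}
      have h3 := Set.ncard_union_le ({t} : Set H) {c ∈ plT V s t | c ≠ t ∧ Commute c t}
      have h4 := (Set.ncard_le_one (Set.toFinite _)).2 fun x hx y hy => hA hx hy
      have h5 := (Set.ncard_le_one (Set.toFinite _)).2 fun x hx y hy => hB hx hy
      have h6 := Set.ncard_singleton t
      have h7 := P.card_T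
      rw [Nat.card_coe_set_eq] at h7
      have h8 := P.three_le hp
      omega
    have Q : Pair p a t V := ⟨P.set, ha.1, P.ht, hat⟩
    have T : Triple p a t r V := ⟨Q, hp, hr, fun h => hra h.symm, fun h => hrt h.symm, by
      rw [P.plK_eq ha P.right_mem_plT Q]; exact hrK⟩
    exact T.false

theorem Pair.same_plane {r b : H} (hr : Rfl' V r) (hb : b ∈ plT V s t) (hrb : ¬Commute r b) :
    r ∈ plK V s t := by
  rcases P.not_commute_one hb with h | h
  · have Q : Pair p s b V := ⟨P.set, P.hs, hb.1, fun h' => h h'.symm⟩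
    rw [← P.plK_eq P.left_mem_plT hb Q]
    exact Q.same_plane_right hr hrb
  · have Q : Pair p t b V := ⟨P.set, P.ht, hb.1, fun h' => h h'.symm⟩
    rw [← P.plK_eq P.right_mem_plT hb Q]
    exact Q.same_plane_right hr hrb

end Cfsg.Agent.BinaryAffine
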