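/-
Binary affine primitive groups, part 12: from the permutation group to its point stabilizer.
-/
import Cfsg.Agent.Lib.BinaryAffine.Model

namespace Cfsg.Agent.BinaryAffine

open MulAction
open scoped Pointwise

universe u v

/-- A binary affine primitive group is given by a binary irreducible linear group. -/
theorem exists_setting {G : Type u} {Ω : Type v} [Group G] [Finite G] [MulAction G Ω]
    [FaithfulSMul G Ω] [Fintype Ω] (hprim : IsPreprimitive G Ω)
    (haff : ∃ N : Subgroup G, N.Normal ∧ N ≠ ⊥ ∧ IsMulCommutative ↥N)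
    (hbin : ∀ (n : ℕ) (I J : Fin n → Ω), 2 ≤ n →
      (∀ i j : Fin n, i ≠ j → ∃ g : G, g • I i = J i ∧ g • I j = J j) →
        ∃ g : G, ∀ i, g • I i = J i) :
    ∃ (ω₀ : Ω) (p : ℕ) (V : Type) (_ : AddCommGroup V) (_ : Finite V) (_ : Nontrivial V)
      (_ : DistribMulAction (stabilizer G ω₀) V) (e : V ≃ Ω) (c : V → G),
      Setting p (stabilizer G ω₀) V ∧ e 0 = ω₀ ∧ (∀ x y : V, c y • e x = e (x + y)) ∧
      ∀ (h : stabilizer G ω₀) (x : V), (h : G) • e x = e (h • x) := by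
  classical
  obtain ⟨N, hNn, hN1, hNc⟩ := haff
  -- the elements of prime order of `N`
  have hN : Nat.card N ≠ 1 := fun h => hN1 (Subgroup.card_eq_one.1 h)
  set p := (Nat.card N).minFac
  have hp : p.Prime := Nat.minFac_prime hN
  have := Fact.mk hp
  have hcomm : ∀ a ∈ N, ∀ b ∈ N, a * b = b * a := fun a ha b hb =>
    congrArg Subtype.val (hNc.is_comm.comm (⟨a, ha⟩ : N) ⟨b, hb⟩)
  let M : Subgroup G :=
    { carrier := {a | a ∈ N ∧ a ^ p = 1}
      mul_mem' := fun {a b} ha hb =>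
        ⟨mul_mem ha.1 hb.1, by rw [Commute.mul_pow (hcomm a ha.1 b hb.1), ha.2, hb.2, one_mul]⟩
      one_mem' := ⟨one_mem _, one_pow _⟩
      inv_mem' := fun {a} ha => ⟨inv_mem ha.1, by rw [inv_pow, ha.2, inv_one]⟩ }
  have hMn : M.Normal := ⟨fun a ha g => ⟨hNn.conj_mem a ha.1 g, by rw [conj_pow, ha.2]; group⟩⟩
  have hM1 : ∃ a ∈ M, a ≠ 1 := by
    obtain ⟨a, ha⟩ := exists_prime_orderOf_dvd_card' p (Nat.minFac_dvd (Nat.card N))
    refine ⟨a, ⟨a.2, ?_⟩, fun h => ?_⟩
    · rw [← SubmonoidClass.coe_pow, ← ha, pow_orderOf_eq_one, OneMemClass.coe_one]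
    · rw [Subtype.ext (a2 := (1 : N)) h, orderOf_one] at ha
      exact hp.one_lt.ne ha
  have hMcomm : ∀ a ∈ M, ∀ b ∈ M, a * b = b * a := fun a ha b hb => hcomm a ha.1 b hb.1
  have hfix : fixedPoints M Ω ≠ Set.univ := by
    intro h
    obtain ⟨a, ha, ha1⟩ := hM1
    exact ha1 (FaithfulSMul.eq_of_smul_eq_smul fun ω : Ω => by
      rw [one_smul]
      exact (h ▸ Set.mem_univ ω : ω ∈ fixedPoints M Ω) ⟨a, ha⟩)
  have htr : IsPretransitive M Ω := IsQuasiPreprimitive.isPretransitive_of_normal hfix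
  obtain ⟨ω₀, -⟩ := (Set.ne_univ_iff_exists_notMem _).1 hfix
  have hfree : ∀ a ∈ M, a • ω₀ = ω₀ → a = 1 := by
    intro a ha h
    refine FaithfulSMul.eq_of_smul_eq_smul fun ω : Ω => ?_
    obtain ⟨⟨m, hm⟩, rfl⟩ := exists_smul_eq M ω₀ ω
    show a • m • ω₀ = (1 : G) • m • ω₀
    rw [one_smul, ← mul_smul, hMcomm a ha m hm, mul_smul, h]
  have hMb : Function.Bijective fun a : Additive M => ((a.toMul : M) : G) • ω₀ := by
    refine ⟨fun a b h => ?_, fun ω => ?_⟩
    · have h1 : (((b.toMul : M) : G)⁻¹ * ((a.toMul : M) : G)) • ω₀ = ω₀ := by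
        rw [mul_smul]; exact inv_smul_eq_iff.2 h
      have h2 := hfree _ (mul_mem (inv_mem (b.toMul : M).2) (a.toMul : M).2) h1
      exact Additive.toMul.injective (Subtype.ext (inv_mul_eq_one.1 h2).symm)
    · obtain ⟨m, hm⟩ := exists_smul_eq M ω₀ ω
      exact ⟨Additive.ofMul m, hm⟩
  -- transport to a small type
  letI : CommGroup M := { (inferInstance : Group M) with
    mul_comm := fun a b => Subtype.ext (hMcomm a a.2 b b.2) }
  let Vn := {i : Fin (Nat.card (Additive M)) // True}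
  let ψ₀ : Vn ≃ Additive M :=
    (Equiv.subtypeUnivEquiv fun _ => trivial).trans (Finite.equivFin (Additive M)).symm
  letI : AddCommGroup Vn := ψ₀.addCommGroup
  let ψ : Vn ≃+ Additive M := { ψ₀ with map_add' := fun _ _ => ψ₀.apply_symm_apply _ }
  let c : Vn → G := fun x => ((ψ x).toMul : M)
  have hcM : ∀ x, c x ∈ M := fun x => ((ψ x).toMul : M).2
  have hc0 : c 0 = 1 := by simp [c, map_zero]
  have hcadd : ∀ x y, c (x + y) = c x * c y := fun x y => by simp [c, map_add]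
  have hcinj : Function.Injective c := fun x y h =>
    ψ.injective (Additive.toMul.injective (Subtype.ext h))
  have hcsurj : ∀ m ∈ M, ∃ x, c x = m := fun m hm =>
    ⟨ψ.symm (Additive.ofMul ⟨m, hm⟩), by simp [c]⟩
  let e : Vn ≃ Ω := ψ.toEquiv.trans (Equiv.ofBijective _ hMb)
  have he : ∀ x, e x = c x • ω₀ := fun x => rfl
  let act : stabilizer G ω₀ → Vn → Vn := fun h x =>
    (hcsurj _ (hMn.conj_mem _ (hcM x) (h : G))).choose
  have hact : ∀ h x, c (act h x) = (h : G) * c x * (h : G)⁻¹ := fun h x =>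
    (hcsurj _ (hMn.conj_mem _ (hcM x) (h : G))).choose_spec
  letI : MulAction (stabilizer G ω₀) Vn :=
    { smul := act
      one_smul := fun x => hcinj (by show c (act 1 x) = c x; rw [hact]; simp)
      mul_smul := fun g h x => hcinj (by
        show c (act (g * h) x) = c (act g (act h x))
        rw [hact, hact, hact, Subgroup.coe_mul]; group) }
  have hsmul : ∀ (h : stabilizer G ω₀) (x : Vn), c (h • x) = (h : G) * c x * (h : G)⁻¹ := hact
  letI : DistribMulAction (stabilizer G ω₀) Vn :=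
    { smul_zero := fun g => hcinj (by rw [hsmul, hc0]; group)
      smul_add := fun g x y => hcinj (by rw [hsmul, hcadd, hcadd, hsmul, hsmul]; group) }
  have hsm : ∀ (h : stabilizer G ω₀) (x : Vn), (h : G) • e x = e (h • x) := by
    intro h x
    rw [he, he, show c (h • x) = (h : G) * c x * (h : G)⁻¹ from hact h x, mul_smul, mul_smul,
      inv_smul_eq_iff.2 (mem_stabilizer_iff.1 h.2).symm]
  have htrans : ∀ x y, c y • e x = e (x + y) := fun x y => by
    rw [he, he, hcadd, hMcomm _ (hcM x) _ (hcM y), mul_smul]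
  have he0 : e 0 = ω₀ := by rw [he, hc0, one_smul]
  have hdec : ∀ g : G, ∃ (b : Vn) (h : stabilizer G ω₀), ∀ x, g • e x = e (h • x + b) := by
    intro g
    refine ⟨e.symm (g • ω₀), ⟨(c (e.symm (g • ω₀)))⁻¹ * g, ?_⟩, fun x => ?_⟩
    · rw [mem_stabilizer_iff, mul_smul, inv_smul_eq_iff, ← he, e.apply_symm_apply]
    · rw [← htrans, ← hsm, mul_smul, smul_inv_smul]
  have hnt : Nontrivial Vn := by
    obtain ⟨a, ha, ha1⟩ := hM1
    obtain ⟨x, rfl⟩ := hcsurj a ha
    exact ⟨⟨x, 0, fun h => ha1 (by rw [h, hc0])⟩⟩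
  have hchar : ∀ x : Vn, p • x = 0 := fun x => ψ.injective (Additive.toMul.injective (by
    rw [map_nsmul, map_zero, toMul_nsmul, toMul_zero]
    exact Subtype.ext (hcM x).2))
  refine ⟨ω₀, p, Vn, inferInstance, inferInstance, hnt, inferInstance, e, c,
    ⟨hp, hchar, fun h hh => ?_, fun W hW => ?_, fun S f hS hS2 => ?_⟩, he0, htrans, hsm⟩
  · refine Subtype.ext (FaithfulSMul.eq_of_smul_eq_smul fun ω : Ω => ?_)
    obtain ⟨x, rfl⟩ := e.surjective ω
    rw [hsm, hh, OneMemClass.coe_one, one_smul]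
  · have hblock : IsBlock G (e '' (W : Set Vn)) := by
      intro g₁ g₂ hne
      rw [Set.disjoint_left]
      rintro _ ⟨_, ⟨x, hx, rfl⟩, rfl⟩ ⟨_, ⟨y, hy, rfl⟩, hxy⟩
      obtain ⟨b₁, h₁, hg₁⟩ := hdec g₁
      obtain ⟨b₂, h₂, hg₂⟩ := hdec g₂
      have hxy' : g₂ • e y = g₁ • e x := hxy
      rw [hg₁, hg₂, e.apply_eq_iff_eq] at hxy'
      refine hne (Set.ext fun ω => ?_)
      have key : ∀ {g g' : G} {b b' : Vn} {h h' : stabilizer G ω₀} {x y : Vn},
          (∀ z, g • e z = e (h • z + b)) → (∀ z, g' • e z = e (h' • z + b')) → x ∈ W → y ∈ W →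
          h • x + b = h' • y + b' → ∀ z ∈ W, g • e z ∈ g' • (e '' (W : Set Vn)) := by
        intro g g' b b' h h' x y hg hg' hx hy hxy z hz
        refine ⟨e (h'⁻¹ • (h • (z - x)) + y), ⟨_, add_mem (hW _ _ (hW _ _ (sub_mem hz hx))) hy,
          rfl⟩, ?_⟩
        show g' • e _ = g • e z
        rw [hg', hg, smul_add, smul_inv_smul, add_assoc, ← hxy, smul_sub]
        congr 1
        abel
      constructor
      · rintro ⟨_, ⟨z, hz, rfl⟩, rfl⟩
        exact key hg₁ hg₂ hx hy hxy'.symm z hz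
      · rintro ⟨_, ⟨z, hz, rfl⟩, rfl⟩
        exact key hg₂ hg₁ hy hx hxy' z hz
    rcases hblock.subsingleton_or_eq_univ with h | h
    · refine .inl ((AddSubgroup.eq_bot_iff_forall _).2 fun x hx => e.injective ?_)
      exact h ⟨x, hx, rfl⟩ ⟨0, zero_mem W, rfl⟩
    · refine .inr (eq_top_iff.2 fun x _ => ?_)
      obtain ⟨y, hy, hxy⟩ := (h.symm ▸ Set.mem_univ (e x) : e x ∈ e '' (W : Set Vn))
      exact e.injective hxy ▸ hy
  · let f' : Vn → Vn := fun a => if a = 0 then 0 else f a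
    have hf' : ∀ a ∈ S, f' a = f a := by
      intro a ha
      by_cases h0 : a = 0
      · obtain ⟨h, hh⟩ := hS a ha
        rw [h0, smul_zero] at hh
        simp [f', h0, ← hh]
      · simp [f', h0]
    let T := {a : Vn // a ∈ S ∨ a = 0}
    have hpair : ∀ a b : T, ∃ h : stabilizer G ω₀, h • ((a : Vn) - b) = f' a - f' b := by
      intro a b
      rcases a.2 with ha | ha <;> rcases b.2 with hb | hb
      · rw [hf' _ ha, hf' _ hb]; exact hS2 _ ha _ hb
      · obtain ⟨h, hh⟩ := hS _ ha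
        exact ⟨h, by rw [hb, sub_zero, hh, hf' _ ha]; simp [f']⟩
      · obtain ⟨h, hh⟩ := hS _ hb
        exact ⟨h, by rw [ha, zero_sub, smul_neg, hh, hf' _ hb]; simp [f']⟩
      · exact ⟨1, by simp [ha, hb, f']⟩
    let k := Nat.card T
    let eT := Finite.equivFin T
    let I : Fin (k + 2) → T := fun i =>
      if hi : (i : ℕ) < k then eT.symm ⟨i, hi⟩ else ⟨0, .inr rfl⟩
    have hI : ∀ a : T, ∃ i, I i = a := fun a =>
      ⟨⟨eT a, by omega⟩, by simp only [I]; rw [dif_pos (eT a).2]; simp⟩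
    obtain ⟨g, hg⟩ := hbin (k + 2) (fun i => e (I i : Vn)) (fun i => e (f' (I i : Vn)))
      (by omega) fun i j _ => by
        obtain ⟨h, hh⟩ := hpair (I i) (I j)
        refine ⟨c (f' (I j : Vn)) * ((h : G) * c (-(I j : Vn))), ?_, ?_⟩
        · rw [mul_smul, mul_smul, htrans, hsm, htrans, ← sub_eq_add_neg, hh, sub_add_cancel]
        · rw [mul_smul, mul_smul, htrans, hsm, htrans, add_neg_cancel, smul_zero, zero_add]
    obtain ⟨b, h, hgh⟩ := hdec g
    have hall : ∀ a : T, h • (a : Vn) + b = f' a := fun a => by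
      obtain ⟨i, rfl⟩ := hI a
      exact e.injective ((hgh _).symm.trans (hg i))
    have hb : b = 0 := by
      have h0 := hall ⟨0, .inr rfl⟩
      simpa [f'] using h0
    exact ⟨h, fun a ha => by
      have h1 := hall ⟨a, .inl ha⟩
      rwa [hb, add_zero, hf' a ha] at h1⟩

end Cfsg.Agent.BinaryAffine
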